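import Cfsg.Agent.Lib.EqualOrder2.Basic
import Cfsg.Agent.Lib.PGroup.ElementaryBasic
import Cfsg.Agent.Lib.Invol.EqualOrderConj.Psl
import Cfsg.Agent.Lib.Invol.EqualOrderConj.Local
import Cfsg.Agent.Lib.Invol.EqualOrderConj.PslFour
import Cfsg.Agent.Lib.Invol.EqualOrderConj.Quat
import Cfsg.Agent.Lib.IsolatedRankTwo.OmegaFusion
import Cfsg.Agent.Lib.BGroup.FieldCent
import Cfsg.Agent.S3188
import Cfsg.Agent.S4023

/-!
# The centralizer of an involution modulo its odd core

For elementary Sylow `2`-subgroups of order eight a non-solvable `C(t)` maps onto a group between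
`PSL(2, q)` and its automorphism group, with kernel `⟨t⟩ O(C(t))`. The main lemma: the odd primes of
`O(C(t))` and of `C(S)` do not divide `|PSL(2, q)|`.
-/

set_option autoImplicit false
set_option linter.unusedSectionVars false
set_option linter.style.haveILetI false

namespace CfsgLib.EqualOrder2

open Subgroup
open CfsgLib.EqualOrder (ConjByOrder)

universe u

variable {G : Type u} [Group G] [Finite G]

/-- The odd core of `C(t)` as a subgroup of `G`. -/
def core (t : G) : Subgroup G :=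
  (Cfsg.oddCore ↥(centralizer ({t} : Set G))).map (centralizer ({t} : Set G)).subtype

theorem core_le (t : G) : core t ≤ centralizer ({t} : Set G) := map_subtype_le _

theorem core_odd (t : G) : Odd (Nat.card (core t)) := by
  rw [core, card_map_of_injective (centralizer _).subtype_injective, ← Nat.not_even_iff_odd, even_iff_two_dvd]
  exact Coprime.pPrimeCore_not_dvd Nat.prime_two

theorem core_conj_cent {t g o : G} (hg : g ∈ centralizer ({t} : Set G)) (ho : o ∈ core t) :
    g * o * g⁻¹ ∈ core t := by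
  obtain ⟨x, hx, rfl⟩ := ho
  exact ⟨⟨g, hg⟩ * x * ⟨g, hg⟩⁻¹, Subgroup.Normal.conj_mem inferInstance x hx _, rfl⟩

theorem mem_core_of_normal {t : G} (N : Subgroup ↥(centralizer ({t} : Set G))) [N.Normal]
    (hodd : Odd (Nat.card N)) : N.map (centralizer ({t} : Set G)).subtype ≤ core t :=
  map_mono (Coprime.le_pPrimeCore_of_not_dvd Nat.prime_two
    (fun h => Nat.not_even_iff_odd.2 hodd (even_iff_two_dvd.2 h)))

theorem core_invol_free {t x : G} (hx : x ∈ core t) (h : x * x = 1) : x = 1 :=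
  Invol.eq_one_of_odd_of_mul_self ((core_odd t).of_dvd_nat (Subgroup.orderOf_dvd_natCard _ hx)) h

/-- A group whose order is not divisible by four is solvable. -/
theorem isSolvable_of_not_four {X : Type u} [Group X] [Finite X] (h : ¬ 4 ∣ Nat.card X) :
    Group.IsSolvable X := by
  haveI := Fact.mk Nat.prime_two
  obtain ⟨P⟩ : Nonempty (Sylow 2 X) := inferInstance
  obtain ⟨k, hk⟩ := P.2.exists_card_eq
  have hP : IsCyclic (P : Subgroup X) := by
    rcases (show k = 0 ∨ k = 1 ∨ 2 ≤ k by omega) with rfl | rfl | h2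
    · haveI : Subsingleton (P : Subgroup X) :=
        Finite.card_le_one_iff_subsingleton.1 (by rw [hk, pow_zero])
      exact isCyclic_of_subsingleton
    · exact isCyclic_of_prime_card (p := 2) (by rw [hk, pow_one])
    · exact absurd (((pow_dvd_pow 2 h2).trans (hk ▸ card_subgroup_dvd_card _)) : 2 ^ 2 ∣ Nat.card X) h
  obtain ⟨P', J, hJ, hJP⟩ := Invol.hasNormalPComplement_two_of_isCyclic P hP
  haveI := hJ
  haveI : Group.IsSolvable J := FT.isSolvable_of_odd _ (by
    rw [← Nat.not_even_iff_odd, even_iff_two_dvd, ← hJP.index_eq_card]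
    exact P'.not_dvd_index)
  haveI : Group.IsSolvable (X ⧸ J) := by
    have hc : Nat.card (X ⧸ J) = Nat.card (P' : Subgroup X) := by
      rw [← Subgroup.index_eq_card]; exact hJP.symm.index_eq_card
    haveI : IsPGroup 2 (X ⧸ J) := by
      obtain ⟨j, hj⟩ := P'.2.exists_card_eq
      exact IsPGroup.of_card (hc.trans hj)
    haveI : Group.IsNilpotent (X ⧸ J) := IsPGroup.isNilpotent ‹_›
    infer_instance
  exact (Group.isSolvable_iff_subgroup_quotient J).2 ⟨inferInstance, inferInstance⟩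

/-- `C(t)` modulo `⟨t⟩ O(C(t))` as automorphisms of `PSL(2, q)`. -/
structure Local (G : Type u) [Group G] [Finite G] (t : G) where
  F : Type
  [field : Field F]
  [fintype : Fintype F]
  five_le : 5 ≤ Fintype.card F
  mod_eight : Fintype.card F % 8 = 3 ∨ Fintype.card F % 8 = 5
  φ : ↥(centralizer ({t} : Set G)) →* MulAut (Matrix.ProjectiveSpecialLinearGroup (Fin 2) F)
  ker_iff : ∀ x, φ x = 1 ↔ (x : G) ∈ core t ∨ t * x ∈ core t
  inn : ∀ k, ∃ x, φ x = MulAut.conj k
  invol_inner : ∀ x, x * x = 1 → ∃ k, φ x = MulAut.conj k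

attribute [instance] Local.field Local.fintype

variable (S : Sylow 2 G) (hS : Cfsg.IsElementaryAbelian 2 (S : Subgroup G))
  (h8 : Nat.card (S : Subgroup G) = 8)

include h8 in
theorem card_sylow (T : Sylow 2 G) : Nat.card (T : Subgroup G) = 8 := by
  rw [T.card_eq_multiplicity, ← S.card_eq_multiplicity, h8]

include h8 in
theorem sylow_le_cent {t : G} (ht : orderOf t = 2) (hS : Cfsg.IsElementaryAbelian 2 (S : Subgroup G)) :
    ∃ T : Sylow 2 G, t ∈ (T : Subgroup G) ∧ (T : Subgroup G) ≤ centralizer ({t} : Set G) := by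
  obtain ⟨g, hg⟩ := exists_conj_into S hS ht
  have hT : t ∈ ((g⁻¹ • S : Sylow 2 G) : Subgroup G) := by
    rw [Sylow.coe_subgroup_smul]
    exact ⟨_, hg, by show g⁻¹ * (g * t * g⁻¹) * g⁻¹⁻¹ = t; group⟩
  exact ⟨g⁻¹ • S, hT, fun s hs => mem_centralizer_singleton_iff.2
    (comm_of_mem _ (elementary_sylow S hS _) hs hT).eq⟩

include hS h8 in
/-- The structure of a non-solvable `C(t)`. -/
theorem exists_local {t : G} (ht : orderOf t = 2)
    (hns : ¬ Group.IsSolvable ↥(centralizer ({t} : Set G))) : Nonempty (Local G t) := by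
  classical
  haveI := Fact.mk Nat.prime_two
  set C := centralizer ({t} : Set G) with hC
  set O := Cfsg.oddCore C with hO
  let tC : C := ⟨t, mem_centralizer_singleton_iff.2 rfl⟩
  haveI hZn : (zpowers tC).Normal := by
    refine ⟨fun x hx g => ?_⟩
    have hc : g * x * g⁻¹ = x := by
      obtain ⟨k, rfl⟩ := mem_zpowers_iff.1 hx
      have h1 : Commute g tC := Subtype.ext (mem_centralizer_singleton_iff.1 g.2)
      rw [(h1.zpow_right k).eq, mul_inv_cancel_right]
    rwa [hc]
  set T := zpowers tC ⊔ O with hT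
  have hmemT : ∀ x : C, x ∈ T ↔ (x : G) ∈ core t ∨ t * x ∈ core t := by
    intro x
    have htt : t * t = 1 := Invol.invol_mul_self ht
    constructor
    · intro hx
      obtain ⟨z, hz, o, ho, rfl⟩ := mem_sup_of_normal_right.1 hx
      obtain ⟨k, rfl⟩ := mem_zpowers_iff.1 hz
      have hto : orderOf tC = 2 := by rw [← Subgroup.orderOf_coe]; exact ht
      rw [← zpow_mod_orderOf, hto]
      rcases Int.emod_two_eq_zero_or_one k with e | e <;>
        rw [show ((2 : ℕ) : ℤ) = 2 from rfl, e]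
      · left; rw [zpow_zero, one_mul]; exact ⟨o, ho, rfl⟩
      · right; rw [zpow_one]
        exact ⟨o, ho, by show (o : G) = t * (t * o); rw [← mul_assoc, htt, one_mul]⟩
    · rintro (⟨o, ho, h⟩ | ⟨o, ho, h⟩)
      · rw [show x = o from Subtype.ext h.symm]; exact mem_sup_right ho
      · rw [show x = tC * o from Subtype.ext (by
          show (x : G) = t * (o : G)
          rw [show (o : G) = t * x from h, ← mul_assoc, htt, one_mul])]
        exact mul_mem_sup (mem_zpowers tC) ho
  set Y := C ⧸ T with hY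
  obtain ⟨T₂, htT, hTC⟩ := sylow_le_cent S h8 ht hS
  set SC : Sylow 2 C := T₂.subtype hTC
  have hSC8 : Nat.card (SC : Subgroup C) = 8 := by
    rw [Sylow.coe_subtype, Nat.card_congr (subgroupOfEquivOfLe hTC).toEquiv, card_sylow S h8]
  have hcardT : Nat.card T = 2 * Nat.card O := by
    have hto : orderOf tC = 2 := by rw [← Subgroup.orderOf_coe]; exact ht
    have hdis : zpowers tC ⊓ O = ⊥ := by
      rw [eq_bot_iff]
      rintro x ⟨hx, hxo⟩
      obtain ⟨k, hk⟩ := (IsPGroup.of_card (p := 2) (n := 1) (G := zpowers tC)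
        (by rw [Nat.card_zpowers, hto, pow_one])) ⟨x, hx⟩
      exact mem_bot.2 (Invol.eq_one_of_odd_of_pow_two ((Nat.not_even_iff_odd.1 fun he =>
        Coprime.pPrimeCore_not_dvd Nat.prime_two (G := C) he.two_dvd).of_dvd_nat
        (Subgroup.orderOf_dvd_natCard _ hxo)) (congrArg Subtype.val hk))
    have h := CfsgLib.EABasic.card_sup_mul_card_inf_of_le_normalizer (H := zpowers tC) (N := O)
      (by rw [normalizer_eq_top_iff.2 inferInstance]; exact le_top)
    rw [hdis, Subgroup.card_bot, mul_one, Nat.card_zpowers, hto] at h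
    exact h
  have hOodd : ¬ 2 ∣ Nat.card O := Coprime.pPrimeCore_not_dvd Nat.prime_two
  have hcardC : Nat.card C = Nat.card Y * (2 * Nat.card O) := by
    rw [← hcardT]; exact Subgroup.card_eq_card_quotient_mul_card_subgroup T
  have h4Y : 4 ∣ Nat.card Y ∧ ¬ 8 ∣ Nat.card Y := by
    have h8C : 8 ∣ Nat.card C := hSC8 ▸ card_subgroup_dvd_card _
    have h16 : ¬ 16 ∣ Nat.card C := fun h => by
      rw [← (SC : Subgroup C).card_mul_index, hSC8] at h
      exact SC.not_dvd_index (Nat.dvd_of_mul_dvd_mul_left (show 0 < 8 by norm_num) h)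
    rw [hcardC] at h8C h16
    refine ⟨?_, fun h => h16 ?_⟩
    · have h' : 4 ∣ Nat.card Y * Nat.card O := by
        rw [show Nat.card Y * (2 * Nat.card O) = 2 * (Nat.card Y * Nat.card O) by ring] at h8C
        exact Nat.dvd_of_mul_dvd_mul_left (show 0 < 2 by norm_num) h8C
      exact (Nat.Coprime.pow_left 2 ((Nat.prime_two.coprime_iff_not_dvd).2 hOodd)).dvd_of_dvd_mul_right h'
    · obtain ⟨c, hc⟩ := h
      exact ⟨c * Nat.card O, by rw [hc]; ring⟩
  -- trivial odd core
  have hOY : Cfsg.oddCore Y = ⊥ := by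
    set V := Cfsg.oddCore Y
    set U := V.comap (QuotientGroup.mk' T) with hU
    have hUcard : Nat.card U = Nat.card V * (2 * Nat.card O) := by
      rw [← hcardT]
      have h1 := U.card_mul_index
      rw [hU, index_comap_of_surjective _ (QuotientGroup.mk'_surjective T),
        Subgroup.card_eq_card_quotient_mul_card_subgroup T, ← V.card_mul_index] at h1
      refine Nat.eq_of_mul_eq_mul_right (m := V.index) (Nat.pos_of_ne_zero FiniteIndex.index_ne_zero) ?_
      rw [h1]; ring
    have hV2 : ¬ 2 ∣ Nat.card V := Coprime.pPrimeCore_not_dvd Nat.prime_two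
    have h4U : ¬ 4 ∣ Nat.card U := fun h => by
      rw [hUcard, show Nat.card V * (2 * Nat.card O) = 2 * (Nat.card V * Nat.card O) by ring] at h
      have h' : 2 ∣ Nat.card V * Nat.card O :=
        Nat.dvd_of_mul_dvd_mul_left (show 0 < 2 by norm_num) (show 2 * 2 ∣ _ from h)
      exact (Nat.prime_two.dvd_mul.1 h').elim hV2 hOodd
    obtain ⟨P⟩ : Nonempty (Sylow 2 U) := inferInstance
    have hP : IsCyclic (P : Subgroup U) := by
      obtain ⟨k, hk⟩ := P.2.exists_card_eq
      rcases (show k = 0 ∨ k = 1 ∨ 2 ≤ k by omega) with rfl | rfl | h2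
      · haveI : Subsingleton (P : Subgroup U) :=
          Finite.card_le_one_iff_subsingleton.1 (by rw [hk, pow_zero])
        exact isCyclic_of_subsingleton
      · exact isCyclic_of_prime_card (p := 2) (by rw [hk, pow_one])
      · exact absurd (((pow_dvd_pow 2 h2).trans (hk ▸ card_subgroup_dvd_card _)) : 2 ^ 2 ∣ Nat.card U) h4U
    obtain ⟨P', J, hJ, hJP⟩ := Invol.hasNormalPComplement_two_of_isCyclic P hP
    haveI := hJ
    haveI : U.Normal := hU ▸ Normal.comap inferInstance _
    have h1 : J ≤ Cfsg.pPrimeCore 2 U := Coprime.le_pPrimeCore_of_not_dvd Nat.prime_two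
      (by rw [← hJP.index_eq_card]; exact P'.not_dvd_index)
    have h2 := card_dvd_of_le (map_mono (f := U.subtype) h1)
    rw [Coprime.pPrimeCore_map_subtype_eq Nat.prime_two U, card_map_of_injective U.subtype_injective] at h2
    have h3 : Nat.card J ∣ Nat.card O := h2.trans (card_dvd_of_le inf_le_left)
    have h4 : Nat.card U ∣ 2 * Nat.card O := by
      rw [← J.card_mul_index, hJP.symm.index_eq_card, mul_comm]
      refine mul_dvd_mul ?_ h3
      obtain ⟨k, hk⟩ := P'.2.exists_card_eq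
      rcases (show k ≤ 1 ∨ 2 ≤ k by omega) with h | h
      · rw [hk]; exact (pow_dvd_pow 2 h).trans (by norm_num)
      · exact absurd (((pow_dvd_pow 2 h).trans (hk ▸ card_subgroup_dvd_card _)) : 2 ^ 2 ∣ Nat.card U) h4U
    rw [hUcard] at h4
    have h5 : Nat.card V ∣ 1 := Nat.dvd_of_mul_dvd_mul_right (k := 2 * Nat.card O)
      (Nat.mul_pos (by norm_num) Nat.card_pos) (by rwa [one_mul])
    exact Subgroup.card_eq_one.1 (Nat.dvd_one.1 h5)
  -- not solvable
  haveI : Group.IsSolvable (zpowers tC) := Coprime.isSolvable_of_isMulCommutative inferInstance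
  haveI hTsol : Group.IsSolvable T := by
    refine isSolvable_of_not_four ?_
    rw [hcardT]
    exact fun h => hOodd (Nat.dvd_of_mul_dvd_mul_left (show 0 < 2 by norm_num) (show 2 * 2 ∣ _ from h))
  have hnsY : ¬ Group.IsSolvable Y := fun h => hns ((Group.isSolvable_iff_subgroup_quotient T).2 ⟨hTsol, h⟩)
  set SY : Sylow 2 Y := SC.mapSurjective (QuotientGroup.mk'_surjective T)
  have hSY : IsMulCommutative ↥(SY : Subgroup Y) := by
    refine ⟨⟨fun a b => Subtype.ext ?_⟩⟩
    obtain ⟨x, hx, hxa⟩ : (a : Y) ∈ (SC : Subgroup C).map (QuotientGroup.mk' T) := by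
      rw [← Sylow.coe_mapSurjective (QuotientGroup.mk'_surjective T)]; exact a.2
    obtain ⟨y, hy, hyb⟩ : (b : Y) ∈ (SC : Subgroup C).map (QuotientGroup.mk' T) := by
      rw [← Sylow.coe_mapSurjective (QuotientGroup.mk'_surjective T)]; exact b.2
    have hx' : (x : G) ∈ (T₂ : Subgroup G) := hx
    have hy' : (y : G) ∈ (T₂ : Subgroup G) := hy
    show (a : Y) * b = b * a
    rw [← hxa, ← hyb, ← map_mul, ← map_mul]
    exact congrArg _ (Subtype.ext (comm_of_mem T₂ (elementary_sylow S hS T₂) hx' hy').eq)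
  have hcentY : ∀ u : Y, orderOf u = 2 → Group.IsSolvable ↥(centralizer ({u} : Set Y)) := by
    intro u hu
    set D := centralizer ({u} : Set Y)
    let uD : D := ⟨u, mem_centralizer_singleton_iff.2 rfl⟩
    haveI : (zpowers uD).Normal := by
      refine ⟨fun x hx g => ?_⟩
      have hc : g * x * g⁻¹ = x := by
        obtain ⟨k, rfl⟩ := mem_zpowers_iff.1 hx
        have h1 : Commute g uD := Subtype.ext (mem_centralizer_singleton_iff.1 g.2)
        rw [(h1.zpow_right k).eq, mul_inv_cancel_right]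
      rwa [hc]
    haveI : Group.IsSolvable (zpowers uD) := Coprime.isSolvable_of_isMulCommutative inferInstance
    haveI : Group.IsSolvable (D ⧸ zpowers uD) := by
      refine isSolvable_of_not_four fun h => h4Y.2 ?_
      refine dvd_trans ?_ (card_subgroup_dvd_card D)
      rw [Subgroup.card_eq_card_quotient_mul_card_subgroup (zpowers uD), Nat.card_zpowers,
        ← Subgroup.orderOf_coe, show ((uD : D) : Y) = u from rfl, hu]
      exact mul_dvd_mul_right h 2
    exact (Group.isSolvable_iff_subgroup_quotient (zpowers uD)).2 ⟨inferInstance, inferInstance⟩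
  rcases Cfsg.Agent.S3188.result SY hSY hcentY with hsol | ⟨F₀, iF₀, iFf₀, hF, N, hN, ⟨e₀⟩, hCN⟩
  · exact absurd hsol hnsY
  let eq : Y ⧸ Cfsg.oddCore Y ≃* Y := (QuotientGroup.quotientMulEquivOfEq hOY).trans QuotientGroup.quotientBot
  set N' := N.map eq.toMonoidHom with hN'
  haveI hN'n : N'.Normal := hN.map _ eq.surjective
  let e₁ : N' ≃* Matrix.ProjectiveSpecialLinearGroup (Fin 2) F₀ :=
    (eq.subgroupMap N).symm.trans e₀
  have hCN' : centralizer (N' : Set Y) = ⊥ := by
    rw [eq_bot_iff]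
    intro y hy
    have : eq.symm y ∈ centralizer (N : Set (Y ⧸ Cfsg.oddCore Y)) := by
      refine mem_centralizer_iff.2 fun n hn => eq.injective ?_
      rw [map_mul, map_mul, eq.apply_symm_apply]
      exact mem_centralizer_iff.1 hy _ ⟨n, hn, rfl⟩
    rw [hCN, mem_bot] at this
    rw [mem_bot, ← eq.apply_symm_apply y, this, map_one]
  have hq4 : 4 ≤ Nat.card F₀ := by
    rw [Nat.card_eq_fintype_card]
    rcases hF with ⟨-, h⟩ | ⟨n, hn, hn2⟩
    · omega
    · rw [hn2]
      calc 4 = 2 ^ 2 := by norm_num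
        _ ≤ 2 ^ n := Nat.pow_le_pow_right (by norm_num) hn
  have hNns : ¬ Group.IsSolvable N' := by
    intro h
    have hsimp := CfsgLib.Perm.Dickson.psl_simple_noncomm (F := F₀) hq4
    haveI := hsimp.1
    haveI : Group.IsSolvable (Matrix.ProjectiveSpecialLinearGroup (Fin 2) F₀) :=
      Group.isSolvable_of_surjective (f := e₁.toMonoidHom) e₁.surjective
    exact hsimp.2 ⟨⟨IsSimpleGroup.comm_iff_isSolvable.2 inferInstance⟩⟩
  -- the field of odd characteristic
  obtain ⟨F, iF, iFf, h5, hmod, ⟨e⟩⟩ : ∃ (F : Type) (_ : Field F) (_ : Fintype F),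
      5 ≤ Fintype.card F ∧ (Fintype.card F % 8 = 3 ∨ Fintype.card F % 8 = 5) ∧
        Nonempty (N' ≃* Matrix.ProjectiveSpecialLinearGroup (Fin 2) F) := by
    rcases hF with ⟨hm, h5⟩ | ⟨n, hn, hn2⟩
    · exact ⟨F₀, iF₀, iFf₀, h5, hm, ⟨e₁⟩⟩
    · haveI := Fact.mk (show Nat.Prime 5 by norm_num)
      have hn' : n = 2 := by
        by_contra hne
        apply h4Y.2
        haveI : CharP F₀ 2 := CfsgLib.EqConj.charP_two_of_card (r := n) (by omega) hn2
        have hc := Classical.card_psl2 (F := F₀)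
        have hg : Nat.gcd 2 (Fintype.card F₀ - 1) = 1 :=
          (Nat.Prime.coprime_iff_not_dvd Nat.prime_two).2 (by
            have := Fintype.one_lt_card (α := F₀)
            have : 2 ∣ Fintype.card F₀ := hn2 ▸ dvd_pow_self 2 (by omega)
            omega)
        rw [hg, one_mul, ← Nat.card_congr e₁.toEquiv, hn2] at hc
        refine dvd_trans ?_ (card_subgroup_dvd_card N')
        rw [hc]
        exact dvd_mul_of_dvd_left (pow_dvd_pow 2 (show 3 ≤ n by omega)) _
      have h60 : Nat.card N' = 60 := by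
        have hc := Classical.card_psl2 (F := F₀)
        rw [← Nat.card_congr e₁.toEquiv, hn2, hn'] at hc
        norm_num at hc
        exact hc
      obtain ⟨a⟩ := Invol.AltEightSubgroups.alt_five_of_card_sixty hNns h60
      obtain ⟨b⟩ := EqConj.alt_five_psl
      exact ⟨ZMod 5, inferInstance, inferInstance, (ZMod.card 5).ge,
        Or.inr (by rw [ZMod.card]), ⟨a.trans b⟩⟩
  have hNodd : Odd N'.index := by
    rw [← Nat.not_even_iff_odd, even_iff_two_dvd]
    intro h
    have h4N : 4 ∣ Nat.card N' := by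
      by_contra h4
      exact hNns (isSolvable_of_not_four h4)
    exact h4Y.2 ((show (8 : ℕ) = 4 * 2 by rfl) ▸ (mul_dvd_mul h4N h).trans N'.card_mul_index.dvd)
  refine ⟨{
    F := F
    five_le := h5
    mod_eight := hmod
    φ := ((MulAut.congr e).toMonoidHom.comp (MulAut.conjNormal (H := N'))).comp (QuotientGroup.mk' T)
    ker_iff := fun x => ?_
    inn := fun k => ?_
    invol_inner := fun x hx => ?_ }⟩
  · rw [← hmemT, ← QuotientGroup.eq_one_iff]
    constructor
    · intro h
      have h' : (MulAut.conjNormal (QuotientGroup.mk' T x) : MulAut N') = 1 :=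
        (MulAut.congr e).injective (h.trans (map_one _).symm)
      rw [← mem_bot (G := Y), ← hCN']
      refine mem_centralizer_iff.2 fun n hn => ?_
      have := congrArg Subtype.val (DFunLike.congr_fun h' (⟨n, hn⟩ : N'))
      rw [MulAut.conjNormal_apply] at this
      exact (mul_inv_eq_iff_eq_mul.1 this).symm
    · intro h
      show (MulAut.congr e) (MulAut.conjNormal ((QuotientGroup.mk' T) x)) = 1
      rw [show QuotientGroup.mk' T x = 1 from h, map_one, map_one]
  · obtain ⟨x, hx⟩ := QuotientGroup.mk'_surjective T ((e.symm k : N') : Y)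
    refine ⟨x, ?_⟩
    show (MulAut.congr e) (MulAut.conjNormal (QuotientGroup.mk' T x)) = MulAut.conj k
    rw [hx]
    refine MulEquiv.ext fun y => ?_
    show e (MulAut.conjNormal ((e.symm k : N') : Y) (e.symm y)) = k * y * k⁻¹
    rw [show MulAut.conjNormal ((e.symm k : N') : Y) (e.symm y) = e.symm k * e.symm y * (e.symm k)⁻¹ from
      Subtype.ext rfl, map_mul, map_mul, map_inv, e.apply_symm_apply, e.apply_symm_apply]
  · have hmem : QuotientGroup.mk' T x ∈ N' := by
      obtain ⟨j, hj⟩ := hNodd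
      have h := N'.pow_index_mem (QuotientGroup.mk' T x)
      rwa [hj, pow_succ, pow_mul, sq, ← map_mul, hx, map_one, one_pow, one_mul] at h
    refine ⟨e ⟨_, hmem⟩, ?_⟩
    refine MulEquiv.ext fun y => ?_
    show e (MulAut.conjNormal ((⟨_, hmem⟩ : N') : Y) (e.symm y)) = _
    rw [show MulAut.conjNormal ((⟨_, hmem⟩ : N') : Y) (e.symm y) =
        (⟨_, hmem⟩ : N') * e.symm y * (⟨_, hmem⟩ : N')⁻¹ from Subtype.ext rfl, map_mul, map_mul,
      map_inv, e.apply_symm_apply]
    rfl

namespace Local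

variable {t : G} (L : Local G t)

local notation "PSL" => Matrix.ProjectiveSpecialLinearGroup (Fin 2) L.F

theorem conj_injective : Function.Injective (MulAut.conj : PSL →* MulAut PSL) :=
  CfsgLib.AutPSL.conj_injective le_rfl

theorem odd_field : Odd (Fintype.card L.F) := by
  rw [Nat.odd_iff]
  rcases L.mod_eight with h | h <;> omega

theorem simple : IsSimpleGroup PSL :=
  (CfsgLib.Perm.Dickson.psl_simple_noncomm (F := L.F)
    (by rw [Nat.card_eq_fintype_card]; exact le_of_lt L.five_le)).1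

theorem phi_core {x : ↥(centralizer ({t} : Set G))} (hx : (x : G) ∈ core t) : L.φ x = 1 :=
  (L.ker_iff x).2 (Or.inl hx)

theorem phi_t (ht : orderOf t = 2) : L.φ ⟨t, mem_centralizer_singleton_iff.2 rfl⟩ = 1 :=
  (L.ker_iff _).2 (Or.inr (show t * t ∈ core t by rw [Invol.invol_mul_self ht]; exact one_mem _))

/-- An element of odd order killed by `φ` lies in the core. -/
theorem mem_core_of_ker (ht : orderOf t = 2) {x : ↥(centralizer ({t} : Set G))}
    (hodd : Odd (orderOf (x : G))) (hx : L.φ x = 1) : (x : G) ∈ core t := by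
  refine ((L.ker_iff x).1 hx).resolve_right fun h => ?_
  have hc : Commute t x := (mem_centralizer_singleton_iff.1 x.2).symm
  have h2 := pow_mem h (orderOf (x : G))
  rw [hc.mul_pow, pow_orderOf_eq_one, mul_one] at h2
  obtain ⟨j, hj⟩ := hodd
  rw [hj, pow_succ, pow_mul, sq, Invol.invol_mul_self ht, one_pow, one_mul] at h2
  exact Invol.invol_ne_one ht (core_invol_free h2 (Invol.invol_mul_self ht))

/-- A Sylow `2`-subgroup through `t` covers a four group of inner automorphisms fixed by whatever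
centralizes it. -/
theorem exists_four (ht : orderOf t = 2) (T : Sylow 2 G) (hT : Cfsg.IsElementaryAbelian 2 (T : Subgroup G))
    (hT8 : Nat.card (T : Subgroup G) = 8) (htT : t ∈ (T : Subgroup G)) :
    ∃ a b : PSL, orderOf a = 2 ∧ orderOf b = 2 ∧ a ≠ b ∧ Commute a b ∧
      ∀ x : ↥(centralizer ({t} : Set G)), (∀ s ∈ (T : Subgroup G), Commute (x : G) s) →
        L.φ x a = a ∧ L.φ x b = b := by
  classical
  have hTC : (T : Subgroup G) ≤ centralizer ({t} : Set G) := fun s hs =>
    mem_centralizer_singleton_iff.2 (comm_of_mem T hT hs htT).eq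
  have hker : ∀ s (hs : s ∈ (T : Subgroup G)), L.φ ⟨s, hTC hs⟩ = 1 → s = 1 ∨ s = t := by
    intro s hs h
    rcases (L.ker_iff _).1 h with h' | h'
    · exact Or.inl (core_invol_free h' (sq_of_mem T hT hs))
    · have := core_invol_free h' (sq_of_mem T hT (mul_mem htT hs))
      exact Or.inr (by rw [mul_eq_one_iff_inv_eq, Invol.invol_inv ht] at this; exact this.symm)
  have hpick : ∀ X : Finset G, X.card < 8 → ∃ s ∈ (T : Subgroup G), s ∉ X := by
    intro X hX
    by_contra hc
    push Not at hc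
    have : Nat.card (T : Subgroup G) ≤ X.card := by
      rw [← Nat.card_eq_finsetCard X]
      exact Nat.card_le_card_of_injective (fun s : (T : Subgroup G) => (⟨s, hc s s.2⟩ : X))
        (fun a b h => Subtype.ext (congrArg (fun z : X => (z : G)) h))
    omega
  obtain ⟨s₁, hs₁, h₁⟩ := hpick {1, t} (lt_of_le_of_lt Finset.card_le_two (by norm_num))
  obtain ⟨s₂, hs₂, h₂⟩ := hpick {1, t, s₁, t * s₁} (lt_of_le_of_lt Finset.card_le_four (by norm_num))
  simp only [Finset.mem_insert, Finset.mem_singleton, not_or] at h₁ h₂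
  obtain ⟨a, ha⟩ := L.invol_inner ⟨s₁, hTC hs₁⟩ (Subtype.ext (sq_of_mem T hT hs₁))
  obtain ⟨b, hb⟩ := L.invol_inner ⟨s₂, hTC hs₂⟩ (Subtype.ext (sq_of_mem T hT hs₂))
  have hsq : ∀ {s : G} (hs : s ∈ (T : Subgroup G)) {k : PSL}, L.φ ⟨s, hTC hs⟩ = MulAut.conj k →
      s ≠ 1 → s ≠ t → orderOf k = 2 := by
    intro s hs k hk h1 h2
    refine Invol.invol_iff.2 ⟨L.conj_injective ?_, fun e => ?_⟩
    · rw [map_mul, map_one, ← hk, ← map_mul]
      rw [show (⟨s, hTC hs⟩ : ↥(centralizer ({t} : Set G))) * ⟨s, hTC hs⟩ = 1 from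
        Subtype.ext (sq_of_mem T hT hs), map_one]
    · rw [e, map_one] at hk
      exact (hker s hs hk).elim h1 h2
  refine ⟨a, b, hsq hs₁ ha h₁.1 h₁.2, hsq hs₂ hb h₂.1 h₂.2.1, fun e => ?_, ?_, fun x hx => ?_⟩
  · have h3 : L.φ ⟨s₁ * s₂, hTC (mul_mem hs₁ hs₂)⟩ = 1 := by
      rw [show (⟨s₁ * s₂, hTC (mul_mem hs₁ hs₂)⟩ : ↥(centralizer ({t} : Set G))) =
        ⟨s₁, hTC hs₁⟩ * ⟨s₂, hTC hs₂⟩ from rfl, map_mul, ha, hb, ← e, ← map_mul,
        Invol.invol_mul_self (hsq hs₁ ha h₁.1 h₁.2), map_one]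
    rcases hker _ (mul_mem hs₁ hs₂) h3 with h' | h'
    · rw [mul_eq_one_iff_inv_eq, Invol.invol_inv (invol_of_mem T hT hs₁ h₁.1)] at h'
      exact h₂.2.2.1 h'.symm
    · refine h₂.2.2.2 ?_
      rw [← h', (comm_of_mem T hT hs₁ hs₂).eq, mul_assoc, sq_of_mem T hT hs₁, mul_one]
  · refine L.conj_injective ?_
    rw [map_mul, map_mul, ← ha, ← hb, ← map_mul, ← map_mul]
    exact congrArg L.φ (Subtype.ext (comm_of_mem T hT hs₁ hs₂).eq)
  · have hfix : ∀ {s : G} (hs : s ∈ (T : Subgroup G)) {k : PSL}, L.φ ⟨s, hTC hs⟩ = MulAut.conj k →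
        L.φ x k = k := by
      intro s hs k hk
      refine L.conj_injective ?_
      have h : Commute (L.φ x) (L.φ ⟨s, hTC hs⟩) :=
        (show Commute x ⟨s, hTC hs⟩ from Subtype.ext (hx s hs).eq).map L.φ
      rw [hk] at h
      rw [show MulAut.conj (L.φ x k) = L.φ x * MulAut.conj k * (L.φ x)⁻¹ from MulEquiv.ext fun y => by
        simp only [MulAut.conj_apply, MulAut.mul_apply, map_mul, map_inv, MulAut.apply_inv_self],
        h.eq, mul_inv_cancel_right]
    exact ⟨hfix hs₁ ha, hfix hs₂ hb⟩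

/-- An inner image centralizing a Sylow `2`-subgroup through `t` has order at most two. -/
theorem inner_cent (ht : orderOf t = 2) (T : Sylow 2 G) (hT : Cfsg.IsElementaryAbelian 2 (T : Subgroup G))
    (hT8 : Nat.card (T : Subgroup G) = 8) (htT : t ∈ (T : Subgroup G)) {x : ↥(centralizer ({t} : Set G))}
    (hodd : Odd (orderOf (x : G))) (hx : ∀ s ∈ (T : Subgroup G), Commute (x : G) s) {k : PSL}
    (hk : L.φ x = MulAut.conj k) : k = 1 := by
  obtain ⟨a, b, ha, hb, hne, hab, hfix⟩ := L.exists_four ht T hT hT8 htT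
  obtain ⟨hxa, hxb⟩ := hfix x hx
  rw [hk, MulAut.conj_apply, mul_inv_eq_iff_eq_mul] at hxa hxb
  have h2 := EqConj.psl_cent_four L.odd_field ha hb hne hab.eq hxa hxb
  refine Invol.eq_one_of_odd_of_mul_self ?_ h2
  rw [← orderOf_injective _ L.conj_injective k, ← hk]
  exact hodd.of_dvd_nat ((orderOf_map_dvd _ _).trans (by rw [Subgroup.orderOf_coe]))

end Local

include hS h8 in
/-- If the prime of `x` divides `|O(N(S))|`, an element centralizing `t` and with inner image has
trivial image. -/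
theorem inner_trivial (hD : ConjByOrder G) {t : G} (ht : orderOf t = 2) (L : Local G t) {l : ℕ}
    (hl : l.Prime) (hl2 : l ≠ 2) (hdvd : l ∣ Nat.card (EqConj.oddPart S))
    {x : ↥(centralizer ({t} : Set G))} (hx : orderOf (x : G) = l) {k : Matrix.ProjectiveSpecialLinearGroup (Fin 2) L.F}
    (hk : L.φ x = MulAut.conj k) : k = 1 := by
  haveI := Fact.mk hl
  haveI := Fact.mk Nat.prime_two
  obtain ⟨⟨d, hd⟩, hdo⟩ := exists_prime_orderOf_dvd_card' (G := EqConj.oddPart S) l hdvd
  rw [← Subgroup.orderOf_coe] at hdo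
  obtain ⟨g, hg⟩ := conj_zpowers hD hl hdo hx
  set D := centralizer ({(x : G)} : Set G) with hD'
  have hgD : ((g • S : Sylow 2 G) : Subgroup G) ≤ D := by
    intro y hy
    rw [Sylow.coe_subgroup_smul] at hy
    obtain ⟨s, hs, rfl⟩ := hy
    exact mem_centralizer_singleton_iff.2 (exists_conj_mem hx hg (EqConj.oddPart_commute S hd hs).symm).eq
  have htD : t ∈ D := mem_centralizer_singleton_iff.2 (mem_centralizer_singleton_iff.1 x.2).symm
  obtain ⟨c, hc⟩ := Invol.exists_conj_le_sylow (G := D)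
    (IsPGroup.of_card (n := 1) (by rw [Nat.card_zpowers, ← Subgroup.orderOf_coe, show ((⟨t, htD⟩ : D) : G) = t from rfl, ht, pow_one]) :
      IsPGroup 2 (zpowers (⟨t, htD⟩ : D))) ((g • S).subtype hgD)
  have hc' : (c : G) * t * (c : G)⁻¹ ∈ ((g • S : Sylow 2 G) : Subgroup G) := hc _ (mem_zpowers _)
  set T : Sylow 2 G := ((c : G)⁻¹ * g) • S with hT
  have htT : t ∈ (T : Subgroup G) := by
    rw [hT, mul_smul, Sylow.coe_subgroup_smul]
    refine ⟨_, hc', ?_⟩
    show (c : G)⁻¹ * ((c : G) * t * (c : G)⁻¹) * (c : G)⁻¹⁻¹ = t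
    group
  refine L.inner_cent ht T (elementary_sylow S hS T) (card_sylow S h8 T) htT
    (hx ▸ hl.odd_of_ne_two hl2) (fun s hs => ?_) hk
  rw [hT, mul_smul, Sylow.coe_subgroup_smul] at hs
  obtain ⟨s', hs', rfl⟩ := hs
  have h1 := mem_centralizer_singleton_iff.1 (mul_mem (mul_mem (inv_mem c.2) (hgD hs')) c.2)
  show Commute (x : G) ((c : G)⁻¹ * s' * (c : G)⁻¹⁻¹)
  rw [inv_inv]
  exact h1.symm

include hS h8 in
/-- **The odd primes of `O(C(t))` and of `O(N(S))` do not divide the order of the simple part.** -/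
theorem not_dvd_core (hD : ConjByOrder G) {t : G} (ht : orderOf t = 2) (L : Local G t) {l : ℕ}
    (hl : l.Prime) (hl2 : l ≠ 2) (hdvd : l ∣ Nat.card (Matrix.ProjectiveSpecialLinearGroup (Fin 2) L.F)) :
    ¬ l ∣ Nat.card (core t) ∧ ¬ l ∣ Nat.card (EqConj.oddPart S) := by
  classical
  haveI := Fact.mk hl
  haveI := Fact.mk Nat.prime_two
  haveI := L.simple
  set C := centralizer ({t} : Set G) with hC
  set I : Subgroup (MulAut (Matrix.ProjectiveSpecialLinearGroup (Fin 2) L.F)) :=
    (MulAut.conj : Matrix.ProjectiveSpecialLinearGroup (Fin 2) L.F →* _).range with hI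
  have hIn : I.Normal := ⟨fun y hy β => by
    obtain ⟨k, rfl⟩ := hy
    exact ⟨β k, MulEquiv.ext fun z => by
      simp only [MulAut.conj_apply, MulAut.mul_apply, map_mul, map_inv, MulAut.apply_inv_self]⟩⟩
  -- an element of `l`-power order with non-trivial inner image
  obtain ⟨k₀, hk₀⟩ := exists_prime_orderOf_dvd_card' l hdvd
  obtain ⟨x₁, hx₁l, hx₁⟩ : ∃ x : C, (∃ m : ℕ, x ^ l ^ m = 1) ∧ ∃ k, k ≠ 1 ∧ L.φ x = MulAut.conj k := by
    obtain ⟨x₀, hx₀⟩ := L.inn k₀
    obtain ⟨m, r, hr, hmr⟩ := Nat.exists_eq_pow_mul_and_not_dvd (orderOf_pos x₀).ne' l hl.ne_one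
    refine ⟨x₀ ^ r, ⟨m, by rw [← pow_mul, mul_comm, ← hmr, pow_orderOf_eq_one]⟩, k₀ ^ r,
      fun h => hr (hk₀ ▸ orderOf_dvd_of_pow_eq_one h), by rw [map_pow, hx₀, map_pow]⟩
  have hodd_l : ∀ x : C, (∃ m : ℕ, x ^ l ^ m = 1) → Odd (orderOf (x : G)) := fun x ⟨m, hm⟩ => by
    rw [Subgroup.orderOf_coe]
    exact ((hl.odd_of_ne_two hl2).pow).of_dvd_nat (orderOf_dvd_of_pow_eq_one hm)
  -- step 1
  have hstep : ¬ l ∣ Nat.card (core t) → ¬ l ∣ Nat.card (EqConj.oddPart S) := by
    intro hcore hodd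
    obtain ⟨k, hk1, hk⟩ := hx₁
    obtain ⟨m, hm⟩ := hx₁l
    have hx1 : x₁ ^ l = 1 := by
      have hkl : L.φ (x₁ ^ l) = MulAut.conj (k ^ l) := by rw [map_pow, hk, map_pow]
      by_contra hne
      obtain ⟨j, -, hj⟩ := (Nat.dvd_prime_pow hl).1 (orderOf_dvd_of_pow_eq_one hm)
      rcases (show j = 0 ∨ j = 1 ∨ 2 ≤ j by omega) with rfl | rfl | h2
      · rw [pow_zero, orderOf_eq_one_iff] at hj; exact hne (by rw [hj, one_pow])
      · rw [pow_one] at hj; exact hne (by rw [← hj, pow_orderOf_eq_one])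
      -- the top of the cyclic group
      set y := x₁ ^ l ^ (j - 1)
      have hy : orderOf y = l := by
        rw [orderOf_pow_of_dvd (pow_ne_zero _ hl.ne_zero) (hj ▸ pow_dvd_pow l (by omega)), hj,
          Nat.pow_div (by omega) hl.pos, show j - (j - 1) = 1 by omega, pow_one]
      have hyk : L.φ y = MulAut.conj (k ^ l ^ (j - 1)) := by rw [map_pow, hk, map_pow]
      have := inner_trivial S hS h8 hD ht L hl hl2 hodd (x := y)
        (by rw [Subgroup.orderOf_coe, hy]) hyk
      rw [this, map_one] at hyk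
      exact hcore (by
        rw [← hy, ← Subgroup.orderOf_coe]
        exact Subgroup.orderOf_dvd_natCard _ (L.mem_core_of_ker ht
          (by rw [Subgroup.orderOf_coe, hy]; exact hl.odd_of_ne_two hl2) hyk))
    have hxo : orderOf x₁ = l := orderOf_eq_prime hx1 fun e => hk1 (L.conj_injective (by rw [← hk, e, map_one, map_one]))
    exact hk1 (inner_trivial S hS h8 hD ht L hl hl2 hodd (by rw [Subgroup.orderOf_coe, hxo]) hk)
  suffices hmain : ¬ l ∣ Nat.card (core t) from ⟨hmain, hstep hmain⟩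
  intro hcore
  set O := Cfsg.oddCore C with hO
  -- a Sylow subgroup through `x₁`
  obtain ⟨m, hm⟩ := hx₁l
  have hxp : IsPGroup l (zpowers x₁) := by
    obtain ⟨j, -, hj⟩ := (Nat.dvd_prime_pow hl).1 (orderOf_dvd_of_pow_eq_one hm)
    exact IsPGroup.of_card (by rw [Nat.card_zpowers, hj])
  obtain ⟨P, hP⟩ := hxp.exists_le_sylow
  have hPcomm : ∀ a ∈ (P : Subgroup C), ∀ b ∈ (P : Subgroup C), Commute a b := by
    obtain ⟨Q, hQ⟩ := ((P : Subgroup C).map C.subtype |> fun H => (P.2.map C.subtype :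
      IsPGroup l ((P : Subgroup C).map C.subtype))).exists_le_sylow
    have hab : ∀ a b : Q, a * b = b * a := by
      rcases Cfsg.Agent.S4023.result (fun H K hH hK h => hD l hl H K hH hK h) Q with
        hc | hel | ⟨h2, -⟩ | ⟨-, hn, hcard, hexp⟩
      · letI := hc.commGroup; exact mul_comm
      · exact hel.1.is_comm.comm
      · exact absurd h2 hl2
      · exact absurd ((Cfsg.Agent.S4020.result (fun p hp => hD p hp) Q).elim (fun hc => by
          letI := hc.commGroup; exact ⟨⟨mul_comm⟩⟩) (fun h => h.elim (fun hel => hel.1) (fun ⟨e⟩ => by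
          exfalso
          have := Nat.card_congr e.toEquiv
          rw [hcard, Nat.card_eq_fintype_card (α := QuaternionGroup 2), QuaternionGroup.card] at this
          have : l ^ 3 = 2 ^ 3 := by norm_num; omega
          exact hl2 (Nat.pow_left_injective (by norm_num) this)))) hn
    intro a ha b hb
    exact Subtype.ext (show (a : G) * b = b * a from
      congrArg Subtype.val (hab ⟨_, hQ ⟨a, ha, rfl⟩⟩ ⟨_, hQ ⟨b, hb, rfl⟩⟩))
  -- its trace on the core
  set R := ((P : Subgroup C) ⊓ O) with hR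
  set PO : Sylow l O := ((P.2.to_le (inf_le_left : R ≤ P)).of_equiv
      (subgroupOfEquivOfLe (inf_le_right : R ≤ O)).symm).toSylow
    (Fusion.not_dvd_relIndex_inf_of_normal P O) with hPO
  have hPOc : (PO : Subgroup O) = R.subgroupOf O := IsPGroup.toSylow_coe _ _
  have hRmem : ∀ a : C, a ∈ O → a ∈ centralizer (R : Set C) → (∃ j : ℕ, a ^ l ^ j = 1) → a ∈ R := by
    intro a haO haR ⟨j, hj⟩
    have hpR : IsPGroup l R := P.2.to_le inf_le_left
    have hpa : IsPGroup l (zpowers a) := by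
      obtain ⟨i, -, hi⟩ := (Nat.dvd_prime_pow hl).1 (orderOf_dvd_of_pow_eq_one hj)
      exact IsPGroup.of_card (by rw [Nat.card_zpowers, hi])
    have hsup : IsPGroup l ↥(zpowers a ⊔ R) := hpa.to_sup_of_normal_right' hpR
      (zpowers_le.2 (Coprime.centralizer_le_normalizer_self _ haR))
    have hle : zpowers a ⊔ R ≤ O := sup_le (zpowers_le.2 haO) inf_le_right
    have hPR : R.subgroupOf O = (PO : Subgroup O) := hPOc.symm
    have heq := PO.3 (hsup.of_equiv (subgroupOfEquivOfLe hle).symm)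
      (by rw [← hPR]; exact fun z hz => mem_sup_right hz)
    have : (⟨a, haO⟩ : O) ∈ (zpowers a ⊔ R).subgroupOf O := mem_sup_left (mem_zpowers a)
    rw [heq, ← hPR] at this
    exact this
  -- the centralizer of `R` covers the inner automorphisms
  set N₀ := normalizer (R : Set C) with hN₀
  have hfr : N₀ ⊔ O = ⊤ := by
    have h := Sylow.normalizer_sup_eq_top PO
    have e : (PO : Subgroup O).map O.subtype = R := by
      rw [hPOc, map_subgroupOf_eq_of_le inf_le_right]
    rwa [e] at h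
  set Z := centralizer (R : Set C) ⊓ I.comap L.φ with hZ
  have hcover : ∀ k, ∃ z ∈ Z, L.φ z = MulAut.conj k := by
    let W : Subgroup (Matrix.ProjectiveSpecialLinearGroup (Fin 2) L.F) :=
      (Z.map L.φ).comap (MulAut.conj : _ →* MulAut (Matrix.ProjectiveSpecialLinearGroup (Fin 2) L.F))
    have hWn : W.Normal := by
      refine ⟨fun w hw g => ?_⟩
      obtain ⟨z, hz, hzw⟩ := hw
      obtain ⟨y, hy⟩ := L.inn g
      obtain ⟨n, hn, o, ho, hno⟩ := mem_sup_of_normal_right.1 (hfr.ge (mem_top y))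
      have hφn : L.φ n = MulAut.conj g := by
        rw [← hy, ← hno, map_mul, L.phi_core ⟨o, ho, rfl⟩, mul_one]
      refine ⟨n * z * n⁻¹, ⟨?_, ?_⟩, ?_⟩
      · refine mem_centralizer_iff.2 fun r hr => ?_
        have h := mem_centralizer_iff.1 hz.1 (n⁻¹ * r * n) (by
          have := (mem_normalizer_iff.1 (inv_mem hn) r).1 hr
          rwa [inv_inv] at this)
        calc r * (n * z * n⁻¹) = n * ((n⁻¹ * r * n) * z) * n⁻¹ := by group
          _ = n * (z * (n⁻¹ * r * n)) * n⁻¹ := by rw [h]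
          _ = n * z * n⁻¹ * r := by group
      · exact ⟨g * w * g⁻¹, by rw [map_mul, map_mul, map_inv, map_mul, map_mul, map_inv, hφn, hzw]⟩
      · rw [map_mul, map_mul, map_inv, hφn, hzw, map_mul, map_mul, map_inv]
    obtain ⟨k₁, hk₁, hk₁'⟩ := hx₁
    have hk₁W : k₁ ∈ W := ⟨x₁, ⟨mem_centralizer_iff.2 fun r hr =>
      (hPcomm r hr.1 x₁ (hP (mem_zpowers _))).eq, ⟨k₁, hk₁'.symm⟩⟩, hk₁'⟩
    intro k
    rcases hWn.eq_bot_or_eq_top with h | h
    · exact absurd (mem_bot.1 (h ▸ hk₁W)) hk₁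
    · obtain ⟨z, hz, hzk⟩ := h.ge (mem_top k)
      exact ⟨z, hz, hzk⟩
  -- `l` divides `|O(N(S))|`
  have hoddS : l ∣ Nat.card (EqConj.oddPart S) := by
    have hR1 : R ≠ ⊥ := by
      intro h
      refine PO.ne_bot_of_dvd_card ?_ ?_
      · rwa [core, card_map_of_injective C.subtype_injective] at hcore
      · rw [hPOc, h, bot_subgroupOf]
    obtain ⟨a, ha, ha1⟩ : ∃ a ∈ R, orderOf a = l := by
      obtain ⟨⟨a, ha⟩, hao⟩ := exists_prime_orderOf_dvd_card' (G := R) l (by
        rcases (P.2.to_le (inf_le_left : R ≤ P)).exists_card_eq with ⟨j, hj⟩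
        rcases Nat.eq_zero_or_pos j with rfl | hj0
        · exact absurd (Subgroup.card_eq_one.1 (by rw [hj, pow_zero])) hR1
        · rw [hj]; exact dvd_pow_self l hj0.ne')
      exact ⟨a, ha, by rwa [← Subgroup.orderOf_coe] at hao⟩
    set D := centralizer ({(a : G)} : Set G) with hDdef
    let tC : C := ⟨t, mem_centralizer_singleton_iff.2 rfl⟩
    have h8D : 8 ∣ Nat.card D := by
      let f : Z →* I := (L.φ.comp Z.subtype).codRestrict I fun z => z.2.2
      have hf : Function.Surjective f := by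
        rintro ⟨_, k, rfl⟩
        obtain ⟨z, hz, hzk⟩ := hcover k
        exact ⟨⟨z, hz⟩, Subtype.ext hzk⟩
      have h2 : 2 ∣ Nat.card f.ker := by
        let tZ : Z := ⟨tC, mem_centralizer_iff.2 fun r _ =>
          Subtype.ext (mem_centralizer_singleton_iff.1 r.2), by
            show L.φ tC ∈ I
            rw [L.phi_t ht]; exact one_mem _⟩
        have : orderOf tZ = 2 := by rw [← Subgroup.orderOf_coe, ← Subgroup.orderOf_coe]; exact ht
        refine this.symm.dvd.trans ?_
        exact Subgroup.orderOf_dvd_natCard _ (MonoidHom.mem_ker.2 (Subtype.ext (L.phi_t ht)))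
      have h4 : 4 ∣ Nat.card I := by
        by_contra h4
        have := isSolvable_of_not_four (X := Matrix.ProjectiveSpecialLinearGroup (Fin 2) L.F) (by
          rwa [Nat.card_congr (MonoidHom.ofInjective L.conj_injective).toEquiv])
        exact (CfsgLib.Perm.Dickson.psl_simple_noncomm (F := L.F)
          (by rw [Nat.card_eq_fintype_card]; exact le_of_lt L.five_le)).2
          ⟨⟨IsSimpleGroup.comm_iff_isSolvable.2 this⟩⟩
      have hZc : 8 ∣ Nat.card Z := by
        rw [Subgroup.card_eq_card_quotient_mul_card_subgroup f.ker,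
          Nat.card_congr (QuotientGroup.quotientKerEquivOfSurjective f hf).toEquiv]
        exact (show 8 = 4 * 2 by rfl) ▸ mul_dvd_mul h4 h2
      refine hZc.trans ((Nat.card_congr (Z.equivMapOfInjective _ C.subtype_injective).toEquiv).dvd.trans
        (card_dvd_of_le ?_))
      rintro _ ⟨z, hz, rfl⟩
      exact mem_centralizer_singleton_iff.2 (congrArg Subtype.val (mem_centralizer_iff.1 hz.1 a ha)).symm
    obtain ⟨PD⟩ : Nonempty (Sylow 2 D) := inferInstance
    obtain ⟨T, hT⟩ := (PD.2.map D.subtype).exists_le_sylow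
    have hPD8 : 8 ∣ Nat.card ((PD : Subgroup D).map D.subtype) := by
      rw [card_map_of_injective D.subtype_injective]
      exact (show 2 ^ 3 = 8 by rfl) ▸ (PD.pow_dvd_card_of_pow_dvd_card (show 2 ^ 3 ∣ Nat.card D from h8D))
    have hTeq : (T : Subgroup G) ≤ (PD : Subgroup D).map D.subtype :=
      (Subgroup.eq_of_le_of_card_ge hT (by
        rw [card_sylow S h8 T]
        exact Nat.le_of_dvd Nat.card_pos hPD8)).ge
    obtain ⟨g, hg⟩ := MulAction.exists_smul_eq G T S
    have hga : ∀ s ∈ (S : Subgroup G), g * a * g⁻¹ * s = s * (g * a * g⁻¹) := by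
      intro s hs
      rw [← hg, Sylow.coe_subgroup_smul] at hs
      obtain ⟨s', hs', rfl⟩ := hs
      obtain ⟨z, -, rfl⟩ := hTeq hs'
      exact ((show Commute (a : G) z from (mem_centralizer_singleton_iff.1 z.2).symm).map
        (MulAut.conj g).toMonoidHom).eq
    have ho : orderOf (g * (a : G) * g⁻¹) = l := by
      rw [← MulAut.conj_apply, MulEquiv.orderOf_eq, Subgroup.orderOf_coe, ha1]
    have := Subgroup.orderOf_dvd_natCard _ (EqConj.mem_oddPart S hS hga (ho ▸ hl.odd_of_ne_two hl2))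
    rwa [ho] at this
  -- trivial fusion in `Z`
  obtain ⟨PZ⟩ : Nonempty (Sylow l Z) := inferInstance
  obtain ⟨Q, J, hJn, hJ⟩ := IsoRankTwo.hasNormalPComplement_of_omega hl2 PZ (by
    intro U hU e _ a ha hal
    by_cases ha1 : a = 1
    · simp [ha1]
    have hao : orderOf a = l := orderOf_eq_prime hal ha1
    obtain ⟨k, hk⟩ := (a.2.2 : L.φ a ∈ I)
    have hk1 := inner_trivial S hS h8 hD ht L hl hl2 hoddS (x := (a : C))
      (by rw [Subgroup.orderOf_coe, Subgroup.orderOf_coe, hao]) hk.symm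
    have hak : L.φ a = 1 := by rw [← hk, hk1, map_one]
    have haO : (a : C) ∈ O := by
      obtain ⟨o, ho, hoa⟩ := L.mem_core_of_ker ht
        (by rw [Subgroup.orderOf_coe, Subgroup.orderOf_coe, hao]; exact hl.odd_of_ne_two hl2) hak
      rwa [← show o = (a : C) from Subtype.ext hoa]
    have haR := hRmem a haO a.2.1 ⟨1, by rw [pow_one, ← Subgroup.coe_pow, hal, Subgroup.coe_one]⟩
    have hc := mem_centralizer_iff.1 e.2.1 (a : C) haR
    exact Subtype.ext (by
      show (e : C) * a * (e : C)⁻¹ = a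
      rw [← hc, mul_inv_cancel_right]))
  haveI := hJn
  let ψ : Z →* Matrix.ProjectiveSpecialLinearGroup (Fin 2) L.F :=
    (MonoidHom.ofInjective L.conj_injective).symm.toMonoidHom.comp
      ((L.φ.comp Z.subtype).codRestrict I fun z => z.2.2)
  have hψ : Function.Surjective ψ := by
    intro k
    obtain ⟨z, hz, hzk⟩ := hcover k
    refine ⟨⟨z, hz⟩, (MonoidHom.ofInjective L.conj_injective).injective ?_⟩
    show (MonoidHom.ofInjective L.conj_injective)
      ((MonoidHom.ofInjective L.conj_injective).symm _) = _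
    rw [MulEquiv.apply_symm_apply]
    exact Subtype.ext hzk
  haveI : (J.map ψ).Normal := hJn.map _ hψ
  rcases (inferInstance : (J.map ψ).Normal).eq_bot_or_eq_top with h | h
  · have hQ : ((Q : Subgroup Z).map ψ) = ⊤ := by
      rw [← top_le_iff, ← map_top_of_surjective ψ hψ, ← hJ.sup_eq_top, Subgroup.map_sup, h, bot_sup_eq]
    have hp : IsPGroup l (Matrix.ProjectiveSpecialLinearGroup (Fin 2) L.F) := by
      intro k
      obtain ⟨q, hq, rfl⟩ := hQ.ge (mem_top k)
      obtain ⟨j, hj⟩ := Q.2 ⟨q, hq⟩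
      exact ⟨j, by rw [← map_pow, show q ^ l ^ j = 1 from congrArg Subtype.val hj, map_one]⟩
    haveI := hp.isNilpotent
    exact (CfsgLib.Perm.Dickson.psl_simple_noncomm (F := L.F)
      (by rw [Nat.card_eq_fintype_card]; exact le_of_lt L.five_le)).2
      ⟨⟨IsSimpleGroup.comm_iff_isSolvable.2 inferInstance⟩⟩
  · have h1 : Nat.card (J.map ψ) ∣ Nat.card J := card_map_dvd J ψ
    rw [h, card_top] at h1
    have h2 : l ∣ Nat.card J := hdvd.trans h1
    rw [← hJ.index_eq_card] at h2
    exact Q.not_dvd_index h2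

end CfsgLib.EqualOrder2
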