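import Cfsg.Agent.Lib.EqualOrder2.Basic
import Cfsg.Agent.Lib.Invol.EqualOrderConj.Local
import Cfsg.Agent.Lib.Invol.OrderTwelve
import Cfsg.Agent.Lib.CIT.TwoNilp.UFour.Elem16
import Mathlib.GroupTheory.GroupAction.ConjAct

/-!
# Involution centralisers for elementary abelian Sylow 2-subgroups
-/

set_option autoImplicit false
set_option linter.unusedSectionVars false
set_option linter.style.haveILetI false

namespace CfsgLib.EqualOrder2

open Subgroup
open CfsgLib.EqualOrder (ConjByOrder)
open CfsgLib.EqConj (oddPart oddPart_le oddPart_odd oddPart_conj oddPart_commute disjoint_S_oddPart cent_prod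
  normalizer_solvable)

universe u

variable {G : Type u} [Group G] [Finite G] (S : Sylow 2 G)
variable (hS : Cfsg.IsElementaryAbelian 2 (S : Subgroup G))

include hS in
theorem centralizer_le_normalizer :
    centralizer ((S : Subgroup G) : Set G) ≤ normalizer ((S : Subgroup G) : Set G) := fun c hc => by
  obtain ⟨s, hs, w, hw, rfl⟩ := cent_prod S hS hc
  exact mul_mem (le_normalizer hs) (oddPart_le S hw)

include hS in
/-- An element normalising `S` whose square centralises `S` centralises `S`. -/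
theorem cent_of_sq {n : G} (hn : n ∈ normalizer ((S : Subgroup G) : Set G))
    (h : n * n ∈ centralizer ((S : Subgroup G) : Set G)) : n ∈ centralizer ((S : Subgroup G) : Set G) := by
  haveI := Fact.mk Nat.prime_two
  set N := normalizer ((S : Subgroup G) : Set G) with hN
  set K := (centralizer ((S : Subgroup G) : Set G)).subgroupOf N with hK
  haveI : K.Normal := by
    refine ⟨fun k hk n => mem_subgroupOf.2 (mem_centralizer_iff.2 fun z hz => ?_)⟩
    have hz' : (n : G)⁻¹ * z * n ∈ (S : Subgroup G) := by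
      have := (mem_normalizer_iff.1 (inv_mem n.2) z).1 hz
      rwa [inv_inv] at this
    have h := mem_centralizer_iff.1 (mem_subgroupOf.1 hk) _ hz'
    calc z * ((n : G) * k * (n : G)⁻¹) = (n : G) * ((n : G)⁻¹ * z * n * k) * (n : G)⁻¹ := by group
      _ = (n : G) * (k * ((n : G)⁻¹ * z * n)) * (n : G)⁻¹ := by rw [h]
      _ = (n : G) * k * (n : G)⁻¹ * z := by group
  have hodd : Odd K.index := by
    rw [← Nat.not_even_iff_odd, even_iff_two_dvd]
    intro h
    have hle : (S : Subgroup G).subgroupOf N ≤ K := fun z hz =>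
      mem_centralizer_iff.2 fun w hw => (comm_of_mem S hS hw hz).eq
    exact S.not_dvd_index ((h.trans (index_dvd_of_le hle)).trans
      (relIndex_dvd_index_of_le le_normalizer))
  obtain ⟨k, hk⟩ := hodd
  have h1 := K.pow_index_mem (⟨n, hn⟩ : N)
  have hsq : (⟨n, hn⟩ : N) * ⟨n, hn⟩ ∈ K := mem_subgroupOf.2 h
  rw [hk, pow_succ, pow_mul, sq] at h1
  exact mem_subgroupOf.1 ((K.mul_mem_cancel_left (pow_mem hsq k)).1 h1)

include hS in
/-- `|C(S)| = |S| |O(N(S))|`. -/
theorem card_centralizer : Nat.card (centralizer ((S : Subgroup G) : Set G)) =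
    Nat.card (S : Subgroup G) * Nat.card (oddPart S) := by
  rw [← Nat.card_prod]
  let f : Prod ↥(S : Subgroup G) ↥(oddPart S) → centralizer ((S : Subgroup G) : Set G) := fun x =>
    ⟨x.1 * x.2, mem_centralizer_iff.2 fun s hs =>
      ((comm_of_mem S hS hs x.1.2).mul_right (oddPart_commute S x.2.2 hs).symm).eq⟩
  refine (Nat.card_congr (Equiv.ofBijective f ⟨fun x y h => ?_, fun c => ?_⟩)).symm
  · have h' : (x.1 : G) * x.2 = y.1 * y.2 := congrArg Subtype.val h
    have h1 : (y.1 : G)⁻¹ * x.1 = y.2 * (x.2 : G)⁻¹ := by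
      calc (y.1 : G)⁻¹ * x.1 = (y.1 : G)⁻¹ * ((x.1 : G) * x.2) * (x.2 : G)⁻¹ := by group
        _ = (y.1 : G)⁻¹ * (y.1 * y.2) * (x.2 : G)⁻¹ := by rw [h']
        _ = y.2 * (x.2 : G)⁻¹ := by group
    have h2 := disjoint_S_oddPart S (mul_mem (inv_mem y.1.2) x.1.2)
      (h1 ▸ mul_mem y.2.2 (inv_mem x.2.2))
    rw [inv_mul_eq_one] at h2
    rw [← h2, mul_right_inj] at h'
    exact Prod.ext (Subtype.ext h2.symm) (Subtype.ext h')
  · obtain ⟨s, hs, w, hw, he⟩ := cent_prod S hS c.2
    exact ⟨(⟨s, hs⟩, ⟨w, hw⟩), Subtype.ext he.symm⟩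

variable (hD : ConjByOrder G)

include hS hD in
/-- Orbit formula for the normaliser of `S`. -/
theorem card_normalizer_eq {t : G} (ht : t ∈ (S : Subgroup G)) (ht2 : orderOf t = 2) :
    Nat.card (normalizer ((S : Subgroup G) : Set G)) =
      Nat.card ((normalizer ((S : Subgroup G) : Set G) ⊓ centralizer ({t} : Set G) : Subgroup G)) *
        (Nat.card (S : Subgroup G) - 1) := by
  classical
  set N := normalizer ((S : Subgroup G) : Set G) with hN
  set C₀ := (centralizer ({t} : Set G)).subgroupOf N with hC₀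
  let f : N ⧸ C₀ → {s : (S : Subgroup G) // s ≠ 1} :=
    Quotient.lift (fun n : N => ⟨⟨(n : G) * t * (n : G)⁻¹, (mem_normalizer_iff.1 n.2 t).1 ht⟩,
      fun h => Invol.invol_ne_one ht2 (by simpa [mul_inv_eq_one] using congrArg Subtype.val h)⟩)
      (fun n m h => by
        have h0 : n⁻¹ * m ∈ C₀ := QuotientGroup.leftRel_apply.1 h
        have h' : (n : G)⁻¹ * m ∈ centralizer ({t} : Set G) := h0
        have h'' := mem_centralizer_singleton_iff.1 h'
        refine Subtype.ext (Subtype.ext ?_)
        show (n : G) * t * (n : G)⁻¹ = (m : G) * t * (m : G)⁻¹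
        calc (n : G) * t * (n : G)⁻¹ = (n : G) * (t * ((n : G)⁻¹ * m)) * (m : G)⁻¹ := by group
          _ = (n : G) * ((n : G)⁻¹ * m * t) * (m : G)⁻¹ := by rw [h'']
          _ = (m : G) * t * (m : G)⁻¹ := by group)
  have hf : Function.Bijective f := by
    refine ⟨fun x y => ?_, fun s => ?_⟩
    · refine Quotient.inductionOn₂ x y fun n m h => ?_
      apply Quotient.sound
      refine QuotientGroup.leftRel_apply.2 ?_
      show (n : G)⁻¹ * m ∈ centralizer ({t} : Set G)
      refine mem_centralizer_singleton_iff.2 ?_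
      have h' : (n : G) * t * (n : G)⁻¹ = (m : G) * t * (m : G)⁻¹ :=
        congrArg (fun z : {s : (S : Subgroup G) // s ≠ 1} => ((z : (S : Subgroup G)) : G)) h
      calc (n : G)⁻¹ * m * t = (n : G)⁻¹ * ((m : G) * t * (m : G)⁻¹) * m := by group
        _ = (n : G)⁻¹ * ((n : G) * t * (n : G)⁻¹) * m := by rw [h']
        _ = t * ((n : G)⁻¹ * m) := by group
    · obtain ⟨n, hn, hns⟩ := invol_fused S hS hD ht (Invol.invol_ne_one ht2) s.1.2
        (fun h => s.2 (Subtype.ext h))
      exact ⟨QuotientGroup.mk ⟨n, hn⟩, Subtype.ext (Subtype.ext hns)⟩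
  have h1 : Nat.card (N ⧸ C₀) = Nat.card (S : Subgroup G) - 1 := by
    haveI := Fintype.ofFinite (S : Subgroup G)
    rw [Nat.card_congr (Equiv.ofBijective f hf), Nat.card_eq_fintype_card, Nat.card_eq_fintype_card,
      Fintype.card_subtype_compl, Fintype.card_subtype_eq]
  have h2 : Nat.card C₀ = Nat.card ((N ⊓ centralizer ({t} : Set G) : Subgroup G)) := by
    rw [hC₀, ← inf_subgroupOf_left]
    exact Nat.card_congr (subgroupOfEquivOfLe inf_le_left).toEquiv
  rw [← h1, ← h2, mul_comm, ← Subgroup.card_eq_card_quotient_mul_card_subgroup]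

include hS in
/-- For a four group `S`, the square of an element of `N(S)` fixing `t` centralises `S`. -/
theorem sq_cent_four (h4 : Nat.card (S : Subgroup G) = 4) {t x : G} (ht : t ∈ (S : Subgroup G))
    (ht2 : orderOf t = 2) (hx : x ∈ normalizer ((S : Subgroup G) : Set G)) (hxt : x * t = t * x) :
    x * x ∈ centralizer ((S : Subgroup G) : Set G) := by
  have hfix : x * t * x⁻¹ = t := mul_inv_eq_iff_eq_mul.2 hxt
  refine mem_centralizer_iff.2 fun u hu => ?_
  suffices x * (x * u * x⁻¹) * x⁻¹ = u by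
    calc u * (x * x) = x * (x * u * x⁻¹) * x⁻¹ * (x * x) := by rw [this]
      _ = x * x * u := by group
  by_cases hu1 : u = 1
  · simp [hu1]
  by_cases hut : u = t
  · rw [hut, hfix, hfix]
  have hu2 := invol_of_mem S hS hu hu1
  have hV := Invol.isKleinFour_closure_pair ht2 hu2 (Ne.symm hut) (comm_of_mem S hS ht hu).eq
  have hVS : closure ({t, u} : Set G) = (S : Subgroup G) := eq_of_le_of_card_ge
    (by rw [closure_le]; rintro z (rfl | rfl); exacts [ht, hu]) (by rw [h4, hV.card_four])
  rcases Invol.mem_klein ht2 hu2 (Ne.symm hut) (comm_of_mem S hS ht hu).eq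
    (hVS ▸ (mem_normalizer_iff.1 hx u).1 hu) with e | e | e | e
  · exact absurd (by simpa [mul_inv_eq_one] using e) hu1
  · rw [← hfix] at e
    exact absurd (mul_left_cancel (mul_right_cancel e)) hut
  · rw [e, e]
  · calc x * (x * u * x⁻¹) * x⁻¹ = x * (t * u) * x⁻¹ := by rw [e]
      _ = x * t * x⁻¹ * (x * u * x⁻¹) := by group
      _ = t * (t * u) := by rw [hfix, e]
      _ = u := by rw [← mul_assoc, Invol.invol_mul_self ht2, one_mul]

include hS hD in
theorem four_normal (hO : Cfsg.oddCore G = ⊥) (h4 : Nat.card (S : Subgroup G) = 4)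
    (hn : (S : Subgroup G).Normal) : Nonempty (G ≃* alternatingGroup (Fin 4)) := by
  haveI := Fact.mk Nat.prime_two
  have htop : normalizer ((S : Subgroup G) : Set G) = ⊤ := normalizer_eq_top_iff.2 hn
  have hW : oddPart S = ⊥ := by
    haveI : (oddPart S).Normal := ⟨fun w hw g => oddPart_conj S (by rw [htop]; trivial) hw⟩
    have h := Coprime.le_pPrimeCore_of_not_dvd Nat.prime_two (N := oddPart S)
      (fun h2 => Nat.not_even_iff_odd.2 (oddPart_odd S) (even_iff_two_dvd.2 h2))
    rwa [show Cfsg.pPrimeCore 2 G = ⊥ from hO, le_bot_iff] at h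
  have hC : ∀ t ∈ (S : Subgroup G), orderOf t = 2 →
      normalizer ((S : Subgroup G) : Set G) ⊓ centralizer ({t} : Set G) ≤ (S : Subgroup G) := by
    intro t ht ht2 x ⟨hx, hxt⟩
    have hxt' := mem_centralizer_singleton_iff.1 hxt
    obtain ⟨s, hs, w, hw, rfl⟩ := cent_prod S hS (cent_of_sq S hS hx (sq_cent_four S hS h4 ht ht2 hx hxt'))
    rw [hW, Subgroup.mem_bot] at hw
    rwa [hw, mul_one]
  have hCeq : ∀ t ∈ (S : Subgroup G), orderOf t = 2 →
      normalizer ((S : Subgroup G) : Set G) ⊓ centralizer ({t} : Set G) = (S : Subgroup G) :=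
    fun t ht ht2 => le_antisymm (hC t ht ht2)
      (le_inf le_normalizer fun s hs => mem_centralizer_singleton_iff.2 (comm_of_mem S hS hs ht).eq)
  obtain ⟨t, ht, ht2⟩ := Invol.exists_invol_mem (H := (S : Subgroup G)) (by rw [h4]; decide)
  have h12 : Nat.card G = 12 := by
    have h := card_normalizer_eq S hS hD ht ht2
    rw [hCeq t ht ht2, htop, card_top, h4] at h
    exact h
  refine Invol.mulEquiv_alternating_four h12 fun z hz hzc => ?_
  obtain ⟨g, hg⟩ := exists_conj_into S hS hz
  rw [mem_center_iff.1 hzc g, mul_inv_cancel_right] at hg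
  have hle := hCeq z hg hz
  rw [show centralizer ({z} : Set G) = ⊤ from eq_top_iff.2 fun x _ =>
    mem_centralizer_singleton_iff.2 (mem_center_iff.1 hzc x), htop, top_inf_eq] at hle
  rw [← card_top, hle, h4] at h12
  omega

include hS in
/-- An involution centraliser is `2`-nilpotent when `S` is a four group. -/
theorem solvable_cent_four (h4 : Nat.card (S : Subgroup G) = 4) {t : G} (ht : t ∈ (S : Subgroup G))
    (ht2 : orderOf t = 2) : Group.IsSolvable (centralizer ({t} : Set G)) := by
  haveI := Fact.mk Nat.prime_two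
  set C := centralizer ({t} : Set G) with hCdef
  have hSC : (S : Subgroup G) ≤ C := fun s hs => mem_centralizer_singleton_iff.2 (comm_of_mem S hS hs ht).eq
  set S' := S.subtype hSC with hS'
  have hsub : ∀ x : C, x ∈ (S' : Subgroup C) ↔ (x : G) ∈ (S : Subgroup G) := fun x => by
    rw [hS', Sylow.coe_subtype, mem_subgroupOf]
  have hN : normalizer ((S' : Subgroup C) : Set C) ≤ centralizer ((S' : Subgroup C) : Set C) := by
    intro c hc
    have hcN : (c : G) ∈ normalizer ((S : Subgroup G) : Set G) := by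
      refine mem_normalizer_iff.2 fun u => ⟨fun hu => ?_, fun hu => ?_⟩
      · exact (hsub _).1 ((mem_normalizer_iff.1 hc ⟨u, hSC hu⟩).1 ((hsub _).2 hu))
      · have hu' : u ∈ C := by
          have := mul_mem (mul_mem (inv_mem c.2) (hSC hu)) c.2
          rwa [show (c : G)⁻¹ * ((c : G) * u * (c : G)⁻¹) * c = u by group] at this
        exact (hsub _).1 ((mem_normalizer_iff.1 hc ⟨u, hu'⟩).2 ((hsub _).2 hu))
    have h := cent_of_sq S hS hcN
      (sq_cent_four S hS h4 ht ht2 hcN (mem_centralizer_singleton_iff.1 c.2))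
    exact mem_centralizer_iff.2 fun u hu => Subtype.ext (mem_centralizer_iff.1 h _ ((hsub u).1 hu))
  set K := (MonoidHom.transferSylow S' hN).ker with hK
  haveI : Group.IsSolvable K := FT.isSolvable_of_odd _ (by
    rw [← Nat.not_even_iff_odd, even_iff_two_dvd]
    exact MonoidHom.not_dvd_card_ker_transferSylow S' hN)
  haveI : Group.IsSolvable (C ⧸ K) := by
    refine Group.isSolvable_of_comm fun a b => ?_
    refine (QuotientGroup.kerLift_injective (MonoidHom.transferSylow S' hN)) ?_
    rw [map_mul, map_mul]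
    exact Subtype.ext (Subtype.ext (comm_of_mem S hS
      ((hsub _).1 (QuotientGroup.kerLift (MonoidHom.transferSylow S' hN) a).2)
      ((hsub _).1 (QuotientGroup.kerLift (MonoidHom.transferSylow S' hN) b).2)).eq)
  exact (Group.isSolvable_iff_subgroup_quotient K).2 ⟨inferInstance, inferInstance⟩

include hS hD in
/-- For `|S| = 32` all involution centralisers are solvable. -/
theorem solvable_cent_five (h32 : Nat.card (S : Subgroup G) = 32)
    (hcard : Nat.card (normalizer ((S : Subgroup G) : Set G)) = Nat.card (oddPart S) * 4960)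
    {t : G} (ht : t ∈ (S : Subgroup G)) (ht2 : orderOf t = 2) :
    Group.IsSolvable (centralizer ({t} : Set G)) := by
  classical
  haveI := Fact.mk Nat.prime_two
  haveI : Fact (Nat.Prime 5) := ⟨by norm_num⟩
  set N := normalizer ((S : Subgroup G) : Set G) with hN
  set M : Subgroup G := N ⊓ centralizer ({t} : Set G) with hM
  set K := (centralizer ((S : Subgroup G) : Set G)).subgroupOf M with hK
  have htS : ∀ x ∈ (S : Subgroup G), t * x = x * t := fun x hx => (comm_of_mem S hS ht hx).eq
  have hCM : centralizer ((S : Subgroup G) : Set G) ≤ M := fun c hc =>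
    ⟨centralizer_le_normalizer S hS hc, mem_centralizer_singleton_iff.2 (mem_centralizer_iff.1 hc t ht).symm⟩
  haveI : K.Normal := by
    refine ⟨fun k hk n => mem_subgroupOf.2 (mem_centralizer_iff.2 fun z hz => ?_)⟩
    have hz' : (n : G)⁻¹ * z * n ∈ (S : Subgroup G) := by
      have := (mem_normalizer_iff.1 (inv_mem n.2.1) z).1 hz
      rwa [inv_inv] at this
    have h := mem_centralizer_iff.1 (mem_subgroupOf.1 hk) _ hz'
    calc z * ((n : G) * k * (n : G)⁻¹) = (n : G) * ((n : G)⁻¹ * z * n * k) * (n : G)⁻¹ := by group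
      _ = (n : G) * (k * ((n : G)⁻¹ * z * n)) * (n : G)⁻¹ := by rw [h]
      _ = (n : G) * k * (n : G)⁻¹ * z := by group
  have hKi : K.index = 5 := by
    have h1 : Nat.card N = Nat.card M * (Nat.card (S : Subgroup G) - 1) :=
      card_normalizer_eq S hS hD ht ht2
    rw [hcard, h32] at h1
    have h2 := K.card_mul_index
    rw [hK, Nat.card_congr (subgroupOfEquivOfLe hCM).toEquiv, card_centralizer S hS, h32,
      ← hK] at h2
    have h0 : 0 < Nat.card (oddPart S) := Nat.card_pos
    refine Nat.eq_of_mul_eq_mul_left (show 0 < 32 * Nat.card (oddPart S) by omega) ?_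
    rw [h2]
    omega
  have hpow : ∀ w : M, ∀ x ∈ (S : Subgroup G), (w : G) ^ 5 * x = x * (w : G) ^ 5 := fun w x hx => by
    have h := K.pow_index_mem w
    rw [hKi] at h
    have h' := mem_subgroupOf.1 h
    rw [Subgroup.coe_pow] at h'
    exact (mem_centralizer_iff.1 h' x hx).symm
  -- fixed points of an automorphism of order five
  have hcong : ∀ w : M, ∀ D : Subgroup G, D ≤ (S : Subgroup G) → (∀ d ∈ D, (w : G) * d * (w : G)⁻¹ ∈ D) →
      Nat.card D ≡ Nat.card ((D ⊓ centralizer ({(w : G)} : Set G) : Subgroup G)) [MOD 5] := by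
    intro w D hDS hinv
    have hwD : (w : G) ∈ normalizer (D : Set G) := mem_normalizer_fintype fun d hd => hinv d hd
    let α : MulAut D := (MulAut.congr (subgroupOfEquivOfLe le_normalizer))
      (MulAut.conjNormal (H := D.subgroupOf (normalizer (D : Set G))) ⟨(w : G), hwD⟩)
    have hα : ∀ d : D, ((α d : D) : G) = (w : G) * d * (w : G)⁻¹ := fun d => rfl
    have hαn : ∀ (n : ℕ) (d : D), (((α ^ n) d : D) : G) = (w : G) ^ n * d * ((w : G) ^ n)⁻¹ := by
      intro n
      induction n with
      | zero => intro d; simp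
      | succ n ih => intro d; rw [pow_succ, MulAut.mul_apply, ih, hα, pow_succ]; group
    have hA : IsPGroup 5 (zpowers α) := by
      have h5 : α ^ 5 = 1 := MulEquiv.ext fun d => Subtype.ext (by
        rw [hαn, hpow w d (hDS d.2), mul_inv_cancel_right]; rfl)
      rintro ⟨β, hβ⟩
      obtain ⟨i, rfl⟩ := mem_zpowers_iff.1 hβ
      refine ⟨1, Subtype.ext ?_⟩
      show (α ^ i) ^ (5 ^ 1) = 1
      rw [pow_one, ← zpow_natCast, zpow_comm, zpow_natCast, h5, _root_.one_zpow]
    have hfp : Nat.card (MulAction.fixedPoints (zpowers α) D) =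
        Nat.card ((D ⊓ centralizer ({(w : G)} : Set G) : Subgroup G)) := by
      refine Nat.card_congr
        { toFun := fun x => ⟨((x.1 : D) : G), x.1.2, ?_⟩
          invFun := fun x => ⟨⟨(x : G), x.2.1⟩, fun β => ?_⟩
          left_inv := fun x => rfl
          right_inv := fun x => rfl }
      · have h : α x.1 = x.1 := x.2 ⟨α, mem_zpowers α⟩
        have := congrArg Subtype.val h
        rw [hα] at this
        exact mem_centralizer_singleton_iff.2 (mul_inv_eq_iff_eq_mul.1 this).symm
      · obtain ⟨i, hi⟩ := mem_zpowers_iff.1 β.2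
        show (β : MulAut D) • (⟨(x : G), x.2.1⟩ : D) = _
        rw [← hi]
        refine MulAction.mem_fixedBy_zpow (g := α) (Subtype.ext ?_) i
        show ((α _ : D) : G) = _
        rw [hα]
        exact mul_inv_eq_iff_eq_mul.2 (mem_centralizer_singleton_iff.1 x.2.2).symm
    rw [← hfp]
    exact hA.card_modEq_card_fixedPoints D
  have hfix : ∀ w : M, (∃ x ∈ (S : Subgroup G), (w : G) * x ≠ x * w) →
      ∀ d ∈ (S : Subgroup G), (w : G) * d = d * w → d = 1 ∨ d = t := by
    intro w ⟨x, hx, hne⟩ d hd hdw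
    set D := (S : Subgroup G) ⊓ centralizer ({(w : G)} : Set G) with hDdef
    have hmod := hcong w (S : Subgroup G) le_rfl fun y hy => (mem_normalizer_iff.1 w.2.1 y).1 hy
    rw [← hDdef, h32] at hmod
    have hdvd : Nat.card D ∣ 2 ^ 5 := by
      rw [show (2 : ℕ) ^ 5 = 32 by norm_num, ← h32]; exact card_dvd_of_le inf_le_left
    obtain ⟨j, hj5, hj⟩ := (Nat.dvd_prime_pow Nat.prime_two).1 hdvd
    rw [hj] at hmod
    rcases (show j = 1 ∨ j = 5 by interval_cases j <;> revert hmod <;> decide) with rfl | rfl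
    · have htD : t ∈ D := ⟨ht, mem_centralizer_singleton_iff.2 (mem_centralizer_singleton_iff.1 w.2.2).symm⟩
      have hDt : zpowers t = D := eq_of_le_of_card_ge (zpowers_le.2 htD)
        (by rw [hj, Nat.card_zpowers, ht2, pow_one])
      have hdD : d ∈ D := ⟨hd, mem_centralizer_singleton_iff.2 hdw.symm⟩
      rw [← hDt] at hdD
      obtain ⟨i, rfl⟩ := mem_zpowers_iff.1 hdD
      rw [← zpow_mod_orderOf, ht2]
      rcases Int.emod_two_eq_zero_or_one i with e | e <;>
        rw [show ((2 : ℕ) : ℤ) = 2 from rfl, e]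
      · exact Or.inl (zpow_zero t)
      · exact Or.inr (zpow_one t)
    · have hDS' : D = (S : Subgroup G) := eq_of_le_of_card_ge inf_le_left (by rw [hj, h32]; norm_num)
      exact absurd (mem_centralizer_singleton_iff.1 (hDS'.ge hx).2).symm hne
  have key : ∀ w : M, (∃ x ∈ (S : Subgroup G), (w : G) * x ≠ x * w) → ∀ D : Subgroup G,
      D ≤ (S : Subgroup G) → t ∈ D → (∀ d ∈ D, (w : G) * d * (w : G)⁻¹ ∈ D) →
      D ≤ zpowers t ∨ D = (S : Subgroup G) := by
    intro w hw D hDS htD hinv
    have hmod := hcong w D hDS hinv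
    have hF : D ⊓ centralizer ({(w : G)} : Set G) = zpowers t := by
      refine le_antisymm (fun d hd => ?_) (zpowers_le.2
        ⟨htD, mem_centralizer_singleton_iff.2 (mem_centralizer_singleton_iff.1 w.2.2).symm⟩)
      rcases hfix w hw d (hDS hd.1) (mem_centralizer_singleton_iff.1 hd.2).symm with e | e
      · rw [e]; exact one_mem _
      · rw [e]; exact mem_zpowers t
    rw [hF, Nat.card_zpowers, ht2] at hmod
    have hdvd : Nat.card D ∣ 2 ^ 5 := by
      rw [show (2 : ℕ) ^ 5 = 32 by norm_num, ← h32]; exact card_dvd_of_le hDS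
    obtain ⟨j, hj5, hj⟩ := (Nat.dvd_prime_pow Nat.prime_two).1 hdvd
    rw [hj] at hmod
    rcases (show j = 1 ∨ j = 5 by interval_cases j <;> revert hmod <;> decide) with rfl | rfl
    · exact Or.inl (eq_of_le_of_card_ge (zpowers_le.2 htD) (by rw [hj, Nat.card_zpowers, ht2, pow_one])).ge
    · exact Or.inr (eq_of_le_of_card_ge hDS (by rw [hj, h32]; norm_num))
  -- the quotient by `t`
  set C := centralizer ({t} : Set G) with hCdef
  have hSC : (S : Subgroup G) ≤ C := fun s hs => mem_centralizer_singleton_iff.2 (comm_of_mem S hS hs ht).eq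
  have htC : t ∈ C := hSC ht
  set Z : Subgroup C := zpowers ⟨t, htC⟩ with hZ
  have hZc : Z ≤ center C := zpowers_le.2 (mem_center_iff.2 fun c =>
    Subtype.ext (mem_centralizer_singleton_iff.1 c.2))
  haveI : Z.Normal := ⟨fun n hn g => by
    rw [mem_center_iff.1 (hZc hn) g, mul_inv_cancel_right]; exact hn⟩
  set μ := QuotientGroup.mk' Z with hμ
  have hker : ∀ a b : C, μ a = μ b → (b : G) = a ∨ (b : G) = a * t := by
    intro a b h
    obtain ⟨i, hi⟩ := mem_zpowers_iff.1 (QuotientGroup.eq.1 h)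
    have hi' : t ^ i = (a : G)⁻¹ * b := by
      rw [← Subgroup.coe_inv, ← Subgroup.coe_mul, ← hi, Subgroup.coe_zpow]
    rw [← zpow_mod_orderOf, ht2] at hi'
    rcases Int.emod_two_eq_zero_or_one i with e | e <;>
      rw [show ((2 : ℕ) : ℤ) = 2 from rfl, e] at hi'
    · rw [zpow_zero, eq_comm, inv_mul_eq_one] at hi'
      exact Or.inl hi'.symm
    · rw [zpow_one] at hi'
      exact Or.inr (by rw [hi', mul_inv_cancel_left])
  set E := (S.subtype hSC).mapSurjective (f := μ) (QuotientGroup.mk'_surjective Z) with hE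
  have hEc : (E : Subgroup (C ⧸ Z)) = ((S : Subgroup G).subgroupOf C).map μ := by
    rw [hE, Sylow.coe_mapSurjective, Sylow.coe_subtype]
  have hZS : Z ≤ (S : Subgroup G).subgroupOf C := zpowers_le.2 (mem_subgroupOf.2 ht)
  have hlift : ∀ w : C, μ w ∈ normalizer ((E : Subgroup (C ⧸ Z)) : Set (C ⧸ Z)) → (w : G) ∈ M := by
    intro w hw
    have hmem : ∀ x : C, μ x ∈ (E : Subgroup (C ⧸ Z)) ↔ (x : G) ∈ (S : Subgroup G) := by
      intro x
      rw [hEc, ← mem_comap, comap_map_eq_self (by rw [hμ, QuotientGroup.ker_mk']; exact hZS), mem_subgroupOf]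
    refine ⟨mem_normalizer_iff.2 fun u => ⟨fun hu => ?_, fun hu => ?_⟩, w.2⟩
    · have h1 := (mem_normalizer_iff.1 hw (μ ⟨u, hSC hu⟩)).1 ((hmem _).2 hu)
      rw [← map_inv, ← map_mul, ← map_mul] at h1
      exact (hmem _).1 h1
    · have hu' : u ∈ C := by
        have := mul_mem (mul_mem (inv_mem w.2) (hSC hu)) w.2
        rwa [show (w : G)⁻¹ * ((w : G) * u * (w : G)⁻¹) * w = u by group] at this
      refine (hmem ⟨u, hu'⟩).1 ((mem_normalizer_iff.1 hw _).2 ?_)
      rw [← map_inv, ← map_mul, ← map_mul]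
      exact (hmem _).2 hu
  have hEmem : ∀ e ∈ (E : Subgroup (C ⧸ Z)), ∃ x : C, (x : G) ∈ (S : Subgroup G) ∧ μ x = e := fun e he => by
    rw [hEc] at he
    exact he
  have hcomm : ∀ w : C, ∀ x : C, (w : G) * x = (x : G) * w → μ w * μ x = μ x * μ w := fun w x h => by
    rw [← map_mul, ← map_mul, show w * x = x * w from Subtype.ext h]
  have h16 : CfsgLib.TwoNilp.Sixteen E := by
    refine ⟨?_, ?_, ?_, ?_, ?_⟩
    · have h := Subgroup.card_eq_card_quotient_mul_card_subgroup (Z.subgroupOf ((S : Subgroup G).subgroupOf C))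
      rw [Nat.card_congr (subgroupOfEquivOfLe hSC).toEquiv, h32,
        Nat.card_congr (subgroupOfEquivOfLe hZS).toEquiv,
        show Nat.card Z = 2 by rw [hZ, Nat.card_zpowers, ← Subgroup.orderOf_coe]; exact ht2] at h
      have hker' : ((μ).comp ((S : Subgroup G).subgroupOf C).subtype).ker =
          Z.subgroupOf ((S : Subgroup G).subgroupOf C) := by
        ext x
        rw [MonoidHom.mem_ker, mem_subgroupOf, MonoidHom.comp_apply, hμ, QuotientGroup.mk'_apply,
          QuotientGroup.eq_one_iff]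
        rfl
      rw [hEc, ← range_subtype ((S : Subgroup G).subgroupOf C), MonoidHom.map_range,
        ← Nat.card_congr (QuotientGroup.quotientKerEquivRange _).toEquiv,
        Nat.card_congr (QuotientGroup.quotientMulEquivOfEq hker').toEquiv]
      omega
    · intro e he
      obtain ⟨x, hx, rfl⟩ := hEmem e he
      rw [← map_mul, show x * x = 1 from Subtype.ext (sq_of_mem S hS hx), map_one]
    · intro w' hw' e he he1 hc y hy
      obtain ⟨w, rfl⟩ := QuotientGroup.mk'_surjective Z w'
      obtain ⟨x, hx, rfl⟩ := hEmem e he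
      obtain ⟨z, hz, rfl⟩ := hEmem y hy
      have hwM := hlift w hw'
      refine hcomm w z ?_
      by_contra hwz
      rw [← map_mul, ← map_mul] at hc
      have hx1 : (x : G) = 1 ∨ (x : G) = t := by
        refine hfix ⟨w, hwM⟩ ⟨_, hz, hwz⟩ _ hx ?_
        rcases hker _ _ hc with e | e
        · exact e.symm
        · exfalso
          simp only [Subgroup.coe_mul] at e
          set v : G := (w : G) with hv
          set a : G := (x : G) with ha
          have hvt : Commute v t := mem_centralizer_singleton_iff.1 w.2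
          have h1 : v * a * v⁻¹ = a * t := by
            have h2 : a * v = v * (a * t) := by rw [e, mul_assoc]
            calc v * a * v⁻¹ = v * (a * t) * t⁻¹ * v⁻¹ := by group
              _ = a * v * (t⁻¹ * v⁻¹) := by rw [← h2, mul_assoc]
              _ = a * (v * t⁻¹ * v⁻¹) := by group
              _ = a * t := by
                rw [hvt.inv_right.eq, mul_inv_cancel_right, Invol.invol_inv ht2]
          have hn : ∀ n : ℕ, v ^ n * a * (v ^ n)⁻¹ = a * t ^ n := by
            intro n
            induction n with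
            | zero => simp
            | succ n ih =>
              rw [pow_succ' v, show v * v ^ n * a * (v * v ^ n)⁻¹ = v * (v ^ n * a * (v ^ n)⁻¹) * v⁻¹ by group,
                ih, show v * (a * t ^ n) * v⁻¹ = (v * a * v⁻¹) * (v * t ^ n * v⁻¹) by group, h1,
                (hvt.pow_right n).eq, mul_inv_cancel_right, mul_assoc, ← pow_succ']
          have h5 := hn 5
          rw [hpow ⟨v, hwM⟩ a hx, mul_inv_cancel_right, left_eq_mul] at h5
          rw [show t ^ 5 = t ^ 2 * t ^ 2 * t by simp [pow_succ, mul_assoc],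
            show t ^ 2 = 1 by rw [sq]; exact Invol.invol_mul_self ht2, one_mul, one_mul] at h5
          exact Invol.invol_ne_one ht2 h5
      refine he1 ?_
      refine (QuotientGroup.eq_one_iff _).2 ?_
      rcases hx1 with h | h
      · rw [show x = 1 from Subtype.ext h]; exact one_mem _
      · rw [show x = ⟨t, htC⟩ from Subtype.ext h]; exact mem_zpowers _
    · intro w' hw' ⟨y, hy, hwy⟩ D hDE hinv
      obtain ⟨w, rfl⟩ := QuotientGroup.mk'_surjective Z w'
      obtain ⟨z, hz, rfl⟩ := hEmem y hy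
      have hwM := hlift w hw'
      have hwS : ∃ x ∈ (S : Subgroup G), ((⟨w, hwM⟩ : M) : G) * x ≠ x * (⟨w, hwM⟩ : M) :=
        ⟨_, hz, fun h => hwy (hcomm w z h)⟩
      set D₀ := (D.comap μ).map C.subtype with hD₀
      have hD₀S : D₀ ≤ (S : Subgroup G) := by
        rintro _ ⟨x, hx, rfl⟩
        have := hDE hx
        rw [hEc, ← mem_comap, comap_map_eq_self (by rw [hμ, QuotientGroup.ker_mk']; exact hZS),
          mem_subgroupOf] at this
        exact this
      have ht0 : t ∈ D₀ := ⟨⟨t, htC⟩, by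
        show μ ⟨t, htC⟩ ∈ D
        rw [hμ, QuotientGroup.mk'_apply, (QuotientGroup.eq_one_iff _).2 (mem_zpowers _)]
        exact one_mem _, rfl⟩
      rcases key ⟨w, hwM⟩ hwS D₀ hD₀S ht0 (by
          rintro _ ⟨x, hx, rfl⟩
          refine ⟨w * x * w⁻¹, ?_, rfl⟩
          show μ (w * x * w⁻¹) ∈ D
          rw [map_mul, map_mul, map_inv]
          exact hinv _ hx) with h | h
      · refine Or.inl ((eq_bot_iff_forall _).2 fun d hd => ?_)
        obtain ⟨x, rfl⟩ := QuotientGroup.mk'_surjective Z d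
        refine (QuotientGroup.eq_one_iff _).2 ?_
        obtain ⟨i, hi⟩ := mem_zpowers_iff.1 (h ⟨x, hd, rfl⟩)
        exact mem_zpowers_iff.2 ⟨i, Subtype.ext (by rw [Subgroup.coe_zpow]; exact hi)⟩
      · refine Or.inr (le_antisymm hDE fun e he => ?_)
        obtain ⟨x, hx, rfl⟩ := hEmem e he
        obtain ⟨x', hx', he'⟩ := h.ge hx
        exact (show x' = x from Subtype.ext he') ▸ hx'
    · intro e he
      obtain ⟨x, hx, rfl⟩ := hEmem e he
      obtain ⟨w₀, hw₀⟩ : ∃ w₀ : M, w₀ ∉ K := by
        by_contra! hall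
        rw [show K = ⊤ from eq_top_iff.2 fun y _ => hall y, index_top] at hKi
        omega
      let v : C := ⟨w₀, w₀.2.2⟩
      refine ⟨(Finset.range 5).image fun i => μ (v ^ i * x * (v ^ i)⁻¹),
        Finset.card_image_le.trans (by simp), fun w' hw' => ?_⟩
      obtain ⟨w, rfl⟩ := QuotientGroup.mk'_surjective Z w'
      have hwM := hlift w hw'
      haveI : IsCyclic (M ⧸ K) := isCyclic_of_prime_card (p := 5) hKi
      have hgen : (QuotientGroup.mk ⟨w, hwM⟩ : M ⧸ K) ∈ zpowers (QuotientGroup.mk w₀ : M ⧸ K) :=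
        mem_zpowers_of_prime_card (p := 5) hKi fun h => hw₀ ((QuotientGroup.eq_one_iff _).1 h)
      obtain ⟨n, hn⟩ := mem_zpowers_iff.1 hgen
      have h5 : (QuotientGroup.mk w₀ : M ⧸ K) ^ 5 = 1 := by
        rw [← hKi]; exact pow_card_eq_one'
      refine Finset.mem_image.2 ⟨(n % 5).toNat, Finset.mem_range.2 (by omega), ?_⟩
      have hn' : (QuotientGroup.mk w₀ : M ⧸ K) ^ (n % 5).toNat = QuotientGroup.mk ⟨w, hwM⟩ := by
        rw [← hn, ← zpow_natCast, Int.toNat_of_nonneg (Int.emod_nonneg _ (by norm_num))]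
        exact (zpow_eq_zpow_emod' n h5).symm
      rw [← QuotientGroup.mk_pow] at hn'
      have hk := mem_subgroupOf.1 (QuotientGroup.eq.1 hn')
      rw [← map_inv, ← map_mul, ← map_mul]
      refine congrArg μ (Subtype.ext ?_)
      set i := (n % 5).toNat
      show (w₀ : G) ^ i * (x : G) * ((w₀ : G) ^ i)⁻¹ = (w : G) * x * (w : G)⁻¹
      have hk' := mem_centralizer_iff.1 hk (x : G) hx
      simp only [Subgroup.coe_mul, Subgroup.coe_inv, Subgroup.coe_pow] at hk'
      calc (w₀ : G) ^ i * (x : G) * ((w₀ : G) ^ i)⁻¹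
          = (w₀ : G) ^ i * ((x : G) * (((w₀ : G) ^ i)⁻¹ * w)) * (w : G)⁻¹ := by group
        _ = (w₀ : G) ^ i * ((((w₀ : G) ^ i)⁻¹ * w) * x) * (w : G)⁻¹ := by rw [hk']
        _ = (w : G) * x * (w : G)⁻¹ := by group
  haveI hNE : Group.IsSolvable (normalizer ((E : Subgroup (C ⧸ Z)) : Set (C ⧸ Z))) := by
    haveI := normalizer_solvable S hS
    haveI : Group.IsSolvable M :=
      Group.isSolvable_of_isSolvable_injective (f := Subgroup.inclusion (inf_le_left : M ≤ N))
        (Subgroup.inclusion_injective _)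
    haveI : Group.IsSolvable ((M.subgroupOf C).map μ) := by
      haveI : Group.IsSolvable (M.subgroupOf C) :=
        Group.isSolvable_of_isSolvable_injective (f := (subgroupOfEquivOfLe (inf_le_right : M ≤ C)).toMonoidHom)
          (subgroupOfEquivOfLe _).injective
      exact Group.isSolvable_of_surjective ((μ).subgroupMap_surjective _)
    have hle : normalizer ((E : Subgroup (C ⧸ Z)) : Set (C ⧸ Z)) ≤ (M.subgroupOf C).map μ := fun w' hw' => by
      obtain ⟨w, rfl⟩ := QuotientGroup.mk'_surjective Z w'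
      exact mem_map_of_mem μ (mem_subgroupOf.2 (hlift w hw'))
    exact Group.isSolvable_of_isSolvable_injective (f := Subgroup.inclusion hle) (Subgroup.inclusion_injective hle)
  have htop := h16.eq_top
  set O := Cfsg.pPrimeCore 2 (C ⧸ Z) with hOdef
  haveI : O.Normal := by rw [hOdef, Coprime.pPrimeCore_eq_piCore Nat.prime_two]; infer_instance
  haveI : Group.IsSolvable O := FT.isSolvable_of_odd _ (by
    rw [← Nat.not_even_iff_odd, even_iff_two_dvd]
    exact Coprime.pPrimeCore_not_dvd Nat.prime_two)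
  haveI : Group.IsSolvable ((C ⧸ Z) ⧸ O) := by
    refine Group.isSolvable_of_surjective
      (f := (QuotientGroup.mk' O).comp (normalizer ((E : Subgroup (C ⧸ Z)) : Set (C ⧸ Z))).subtype) fun y => ?_
    obtain ⟨x, rfl⟩ := QuotientGroup.mk'_surjective O y
    obtain ⟨a, ha, b, hb, rfl⟩ := mem_sup_of_normal_left.1 (htop.ge (mem_top x))
    refine ⟨⟨b, hb⟩, ?_⟩
    rw [map_mul, show QuotientGroup.mk' O a = 1 from (QuotientGroup.eq_one_iff a).2 ha, one_mul]
    rfl
  haveI : Group.IsSolvable (C ⧸ Z) := (Group.isSolvable_iff_subgroup_quotient O).2 ⟨inferInstance, inferInstance⟩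
  haveI : Group.IsSolvable Z := Group.isSolvable_of_comm fun a b =>
    Subtype.ext (mem_center_iff.1 (hZc b.2) a)
  exact (Group.isSolvable_iff_subgroup_quotient Z).2 ⟨inferInstance, inferInstance⟩

end CfsgLib.EqualOrder2
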