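import Cfsg.Agent.Lib.MinNonCA.Action
import Cfsg.Agent.Lib.GW.FieldPart
import Cfsg.Agent.Lib.CIT.PslModel
import Cfsg.Agent.Lib.EqualOrder.Linear
import Cfsg.Agent.Lib.Classical.ProjLine
import Cfsg.Agent.Lib.Invol.Basic

/-!
# Facts on `PSL(2, q)` used in the classification by conjugacy of subgroups of equal order
-/

set_option autoImplicit false
set_option linter.unusedSectionVars false
set_option linter.style.haveILetI false

namespace CfsgLib.EqualOrder2

open Subgroup Matrix CfsgLib.AutPSL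

variable {F : Type} [Field F] [Fintype F]

local notation "SL2" => Matrix.SpecialLinearGroup (Fin 2) F
local notation "PSL2" => Matrix.ProjectiveSpecialLinearGroup (Fin 2) F
local notation "π" => QuotientGroup.mk' (Subgroup.center (Matrix.SpecialLinearGroup (Fin 2) F))
local notation:max "↟" A:max => ((A : Matrix.SpecialLinearGroup (Fin 2) F) : Matrix (Fin 2) (Fin 2) F)

theorem indHom_mem_inn (g : GL (Fin 2) F) (hg : IsSquare g.1.det) :
    indHom g ∈ Cfsg.Inn PSL2 := by
  rw [mem_inn_iff]
  obtain ⟨r, hr⟩ := hg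
  have hr0 : r ≠ 0 := fun e => (g.isUnit.map Matrix.detMonoidHom).ne_zero (by
    show g.1.det = 0
    rw [hr, e, mul_zero])
  have hdet : ((r⁻¹ : F) • g.1).det = 1 := by
    rw [Matrix.det_smul, hr, Fintype.card_fin]
    field_simp
  refine ⟨⟨_, hdet⟩, ?_⟩
  rw [indHom_apply, ← ind_scal_mul (Units.mk0 r⁻¹ (inv_ne_zero hr0)) g 1]
  refine congrArg (fun y => ind y 1) (Units.ext ?_)
  rw [Units.val_mul, scal_val, smul_mul_assoc, one_mul]
  rfl

theorem indHom_sq_mem_inn (g : GL (Fin 2) F) : indHom g * indHom g ∈ Cfsg.Inn PSL2 := by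
  rw [← map_mul]
  exact indHom_mem_inn _ ⟨g.1.det, by rw [Units.val_mul, Matrix.det_mul]⟩

theorem isSquare_mul_apply (σ : RingAut F) (d : F) : IsSquare (d * σ d) := by
  by_cases h2 : (2 : F) = 0
  · refine FiniteField.isSquare_of_char_two ?_ _
    by_contra hne
    exact Ring.two_ne_zero hne h2
  by_cases hd : IsSquare d
  · exact hd.mul (hd.map σ)
  · refine GW.isSquare_mul_nonsquare h2 hd fun hh => hd ?_
    have := hh.map σ.symm
    rwa [RingEquiv.symm_apply_apply] at this

/-- The square of an automorphism agrees with the square of its field part modulo inner ones. -/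
theorem ind_sq (g : GL (Fin 2) F) (σ : RingAut F) :
    ind g σ * ind g σ * (fieldHom (σ * σ))⁻¹ ∈ Cfsg.Inn PSL2 := by
  rw [ind_mul, ← ind_mul_fieldHom, fieldHom_apply, mul_inv_cancel_right, ← indHom_apply]
  refine indHom_mem_inn _ ?_
  rw [Units.val_mul, Matrix.det_mul, glField_val]
  rw [show (g.1.map σ).det = σ g.1.det from (RingHom.map_det σ.toRingHom _).symm]
  exact isSquare_mul_apply σ _

theorem fieldHom_injective : Function.Injective (fieldHom (n := 2) (F := F)) :=
  fun _ _ h => GW.field_unique h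

/-- The image of the unipotent elements. -/
def rootU : Subgroup PSL2 :=
  (MonoidHom.mk' (fun t : Multiplicative F => π (MinNonCA.uT (Multiplicative.toAdd t))) fun s t => by
    rw [toAdd_mul, ← map_mul, MinNonCA.uT_mul]).range

theorem mem_rootU {x : PSL2} : x ∈ (rootU : Subgroup PSL2) ↔ ∃ t : F, π (MinNonCA.uT t) = x :=
  ⟨fun ⟨t, ht⟩ => ⟨Multiplicative.toAdd t, ht⟩, fun ⟨t, ht⟩ => ⟨Multiplicative.ofAdd t, ht⟩⟩

theorem card_rootU : Nat.card (rootU : Subgroup PSL2) = Fintype.card F := by
  unfold rootU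
  rw [← Nat.card_congr (MonoidHom.ofInjective fun s t h =>
    Multiplicative.toAdd.injective (MinNonCA.pi_uT_inj h)).toEquiv, Nat.card_congr Multiplicative.toAdd,
    Nat.card_eq_fintype_card]

theorem card_psl_dvd : Nat.card PSL2 ∣ Fintype.card F * ((Fintype.card F - 1) * (Fintype.card F + 1)) :=
  Dvd.intro_left _ (Classical.card_psl2 (F := F))

variable (p : ℕ) [Fact p.Prime] [CharP F p]

theorem not_dvd_index_rootU : ¬ p ∣ (rootU : Subgroup PSL2).index := by
  intro hd
  obtain ⟨n, hpp, hn⟩ := FiniteField.card F p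
  have h1 := (rootU : Subgroup PSL2).card_mul_index
  have h4 := card_psl_dvd (F := F)
  rw [← h1, card_rootU] at h4
  have h6 := hd.trans (Nat.dvd_of_mul_dvd_mul_left Fintype.card_pos h4)
  have hpq : p ∣ Fintype.card F := hn ▸ dvd_pow_self p n.ne_zero
  rcases hpp.dvd_mul.1 h6 with h | h
  · have := Nat.dvd_sub hpq h
    rw [Nat.sub_sub_self Fintype.card_pos] at this
    exact hpp.one_lt.ne' (Nat.dvd_one.1 this)
  · exact hpp.one_lt.ne' (Nat.dvd_one.1 ((Nat.dvd_add_right hpq).1 h))

/-- The normaliser of the unipotent subgroup is solvable. -/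
theorem solvable_normalizer_rootU (h2 : (2 : F) ≠ 0) :
    Group.IsSolvable (normalizer ((rootU : Subgroup PSL2) : Set PSL2)) := by
  have hval : ∀ A B : SL2, ↟(A * B) = ↟A * ↟B := fun _ _ => rfl
  let B : Subgroup SL2 :=
    { carrier := {M | ↟M 1 0 = 0}
      one_mem' := by simp
      mul_mem' := fun {a b} ha hb => by
        simp only [Set.mem_ofPred_eq] at ha hb ⊢
        rw [hval, Matrix.mul_apply, Fin.sum_univ_two, ha, hb, zero_mul, mul_zero, add_zero]
      inv_mem' := fun {a} ha => by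
        simp only [Set.mem_ofPred_eq] at ha ⊢
        rw [Matrix.SpecialLinearGroup.coe_inv, Matrix.adjugate_fin_two]
        simp [ha] }
  have hmem : ∀ M : SL2, M ∈ B ↔ ↟M 1 0 = 0 := fun _ => Iff.rfl
  have hdet : ∀ M ∈ B, ↟M 0 0 * ↟M 1 1 = 1 := fun M hM => by
    have := M.det_coe
    rw [Matrix.det_fin_two, (hmem M).1 hM, mul_zero, sub_zero] at this
    exact this
  let χ : B →* Fˣ := MonoidHom.mk'
    (fun M => Units.mkOfMulEqOne _ _ (hdet M.1 M.2)) fun a b => Units.ext (by
      show ↟((a * b : B) : SL2) 0 0 = ↟(a : SL2) 0 0 * ↟(b : SL2) 0 0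
      rw [Subgroup.coe_mul, hval, Matrix.mul_apply, Fin.sum_univ_two, (hmem b.1).1 b.2, mul_zero, add_zero])
  have hker : ∀ a ∈ χ.ker, ↟(a : SL2) 0 0 = 1 ∧ ↟(a : SL2) 1 1 = 1 := fun a ha => by
    have h1 : ↟(a : SL2) 0 0 = 1 := congrArg Units.val (MonoidHom.mem_ker.1 ha)
    refine ⟨h1, ?_⟩
    have := hdet a.1 a.2
    rwa [h1, one_mul] at this
  haveI : Group.IsSolvable χ.ker := Group.isSolvable_of_comm fun a b => by
    refine Subtype.ext (Subtype.ext (Subtype.ext ?_))
    show ↟((a : B) : SL2) * ↟((b : B) : SL2) = ↟((b : B) : SL2) * ↟((a : B) : SL2)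
    obtain ⟨a0, a1⟩ := hker a a.2
    obtain ⟨b0, b1⟩ := hker b b.2
    have a2 := (hmem _).1 (a : B).2
    have b2 := (hmem _).1 (b : B).2
    ext i j
    fin_cases i <;> fin_cases j <;>
      simp [Matrix.mul_apply, Fin.sum_univ_two, a0, a1, a2, b0, b1, b2, add_comm]
  haveI : Group.IsSolvable Fˣ := Group.isSolvable_of_comm fun a b => mul_comm a b
  haveI : Group.IsSolvable (B ⧸ χ.ker) := Group.isSolvable_of_comm fun a b =>
    QuotientGroup.induction_on a fun x => QuotientGroup.induction_on b fun y =>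
      (QuotientGroup.eq.2 (by
        rw [MonoidHom.mem_ker, map_mul, map_inv, map_mul, map_mul, mul_comm (χ y) (χ x), inv_mul_cancel]))
  haveI : Group.IsSolvable B := (Group.isSolvable_iff_subgroup_quotient χ.ker).2 ⟨inferInstance, inferInstance⟩
  have hle : normalizer ((rootU : Subgroup PSL2) : Set PSL2) ≤ B.map π := by
    intro y hy
    obtain ⟨M, rfl⟩ := QuotientGroup.mk'_surjective _ y
    refine mem_map_of_mem π ((hmem M).2 ?_)
    obtain ⟨t, ht⟩ := mem_rootU.1 ((mem_normalizer_iff.1 hy _).1 (mem_rootU.2 ⟨1, rfl⟩))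
    have e : π (M * MinNonCA.uT 1) = π (MinNonCA.uT t * M) := by
      rw [map_mul, map_mul, ht, inv_mul_cancel_right]
    rcases MinNonCA.pi_eq_cases e with e | e <;> rw [hval, hval] at e
    · have e1 := congrFun₂ e 1 1
      simp [MinNonCA.uT, Matrix.mul_apply, Fin.sum_univ_two] at e1
      linear_combination e1
    · have e1 := congrFun₂ e 1 0
      simp [MinNonCA.uT, Matrix.mul_apply, Fin.sum_univ_two] at e1
      exact (mul_eq_zero.1 (show (2 : F) * ↟M 1 0 = 0 by linear_combination e1)).resolve_left h2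
  haveI : Group.IsSolvable (B.map π) := Group.isSolvable_of_surjective ((π).subgroupMap_surjective B)
  exact Group.isSolvable_of_isSolvable_injective (f := Subgroup.inclusion hle) (Subgroup.inclusion_injective hle)

/-- Sylow subgroups in the natural characteristic. -/
theorem sylow_char (h2 : (2 : F) ≠ 0) (P : Sylow p PSL2) :
    Nat.card (P : Subgroup PSL2) = Fintype.card F ∧ (∀ x ∈ (P : Subgroup PSL2), x ^ p = 1) ∧
      Group.IsSolvable (normalizer ((P : Subgroup PSL2) : Set PSL2)) := by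
  have hUp : IsPGroup p (rootU : Subgroup PSL2) := by
    rintro ⟨x, hx⟩
    obtain ⟨t, rfl⟩ := mem_rootU.1 hx
    exact ⟨1, Subtype.ext (by rw [pow_one]; exact MinNonCA.pi_uT_pow p t)⟩
  set U := hUp.toSylow (not_dvd_index_rootU p) with hU
  have hUc : (U : Subgroup PSL2) = rootU := rfl
  obtain ⟨g, rfl⟩ := MulAction.exists_smul_eq PSL2 U P
  set c := (MulAut.conj g).toMonoidHom
  have hP : ((g • U : Sylow p PSL2) : Subgroup PSL2) = (rootU : Subgroup PSL2).map c := by
    rw [Sylow.coe_subgroup_smul, hUc]; rfl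
  refine ⟨?_, ?_, ?_⟩
  · rw [hP, card_map_of_injective (MulAut.conj g).injective, card_rootU]
  · intro x hx
    rw [hP] at hx
    obtain ⟨y, hy, rfl⟩ := hx
    obtain ⟨t, rfl⟩ := mem_rootU.1 hy
    rw [← map_pow, MinNonCA.pi_uT_pow p t, map_one]
  · rw [hP]
    haveI := solvable_normalizer_rootU (F := F) h2
    have h : normalizer (((rootU : Subgroup PSL2).map c : Subgroup PSL2) : Set PSL2) ≤
        (normalizer ((rootU : Subgroup PSL2) : Set PSL2)).map c := by
      intro z hz
      refine ⟨g⁻¹ * z * g, mem_normalizer_iff.2 fun u => ?_, by simp [c, mul_assoc]⟩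
      have := mem_normalizer_iff.1 hz (c u)
      rw [← mem_map_iff_mem (f := c) (MulAut.conj g).injective (x := u),
        ← mem_map_iff_mem (f := c) (MulAut.conj g).injective (x := g⁻¹ * z * g * u * (g⁻¹ * z * g)⁻¹), this]
      simp [c, mul_assoc]
    haveI : Group.IsSolvable ((normalizer ((rootU : Subgroup PSL2) : Set PSL2)).map c) :=
      Group.isSolvable_of_surjective (c.subgroupMap_surjective _)
    exact Group.isSolvable_of_isSolvable_injective (f := Subgroup.inclusion h) (Subgroup.inclusion_injective h)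

omit [Fact p.Prime] [CharP F p] in
theorem three_dvd_card : 3 ∣ Nat.card PSL2 := by
  have h := Classical.card_psl2 (F := F)
  have h3 : 3 ∣ Fintype.card F * ((Fintype.card F - 1) * (Fintype.card F + 1)) := by
    have hpos := Fintype.card_pos (α := F)
    rcases (show Fintype.card F % 3 = 0 ∨ Fintype.card F % 3 = 1 ∨ Fintype.card F % 3 = 2 by omega) with e | e | e
    · exact dvd_mul_of_dvd_left (Nat.dvd_of_mod_eq_zero e) _
    · exact dvd_mul_of_dvd_right (dvd_mul_of_dvd_left (show 3 ∣ Fintype.card F - 1 by omega) _) _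
    · exact dvd_mul_of_dvd_right (dvd_mul_of_dvd_right (show 3 ∣ Fintype.card F + 1 by omega) _) _
  rw [← h] at h3
  refine (Nat.Coprime.dvd_of_dvd_mul_left ?_ h3)
  exact Nat.Coprime.coprime_dvd_right (Nat.gcd_dvd_left _ _) (by norm_num)

theorem psl_zmod (h : Fintype.card F = p) :
    Nonempty (PSL2 ≃* Matrix.ProjectiveSpecialLinearGroup (Fin 2) (ZMod p)) :=
  CIT.psl_congr (ZMod.ringEquiv F h).symm

theorem psl_galois (h : Fintype.card F = p ^ 3) :
    Nonempty (PSL2 ≃* Matrix.ProjectiveSpecialLinearGroup (Fin 2) (GaloisField p 3)) := by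
  haveI := Fintype.ofFinite (GaloisField p 3)
  exact CIT.psl_congr (FiniteField.ringEquivOfCardEq (K := F) (K' := GaloisField p 3) (by
    rw [h, ← Nat.card_eq_fintype_card, GaloisField.card p 3 (by norm_num)]))

end CfsgLib.EqualOrder2
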