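import Cfsg.Agent.Lib.EqualOrder2.Basic
import Cfsg.Agent.Lib.EqualOrder2.PslFacts
import Cfsg.Agent.Lib.FT.NoMinSimple
import Cfsg.Agent.S4020
import Cfsg.Agent.S4025

/-!
# Odd extensions of `PSL(2, q)` with conjugate subgroups of equal prime power order
-/

set_option autoImplicit false
set_option linter.unusedSectionVars false
set_option linter.style.haveILetI false

namespace CfsgLib.EqualOrder2

open Subgroup CfsgLib.AutPSL
open CfsgLib.EqualOrder (ConjByOrder)

universe u

variable {G : Type u} [Group G] [Finite G] {F : Type} [Field F] [Fintype F]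

local notation "PSL2" => Matrix.ProjectiveSpecialLinearGroup (Fin 2) F

variable (N : Subgroup G) [N.Normal] (e : ↥N ≃* Matrix.ProjectiveSpecialLinearGroup (Fin 2) F) (hC : centralizer (N : Set G) = ⊥)

theorem ringChar_two_of_card {r : ℕ} (hF : Fintype.card F = 2 ^ r) (hr : r ≠ 0) : ringChar F = 2 := by
  by_contra hne
  have := FiniteField.odd_card_of_char_ne_two hne
  rw [hF] at this
  have h : 2 ∣ 2 ^ r := dvd_pow_self 2 hr
  omega

theorem charTwo_of_card {r : ℕ} (hF : Fintype.card F = 2 ^ r) (hr : r ≠ 0) : CharP F 2 :=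
  ringChar_two_of_card hF hr ▸ ringChar.charP F

/-- The field part of conjugation on `N`. -/
noncomputable def fpart : G →* RingAut F := GW.fieldPartHom.comp (GW.conjVia N e)

include hC in
theorem mem_of_inn {y : G} (h : GW.conjVia N e y ∈ Cfsg.Inn PSL2) : y ∈ N := by
  obtain ⟨t, ht⟩ := h
  have h1 : GW.conjVia N e y = GW.conjVia N e ((e.symm t : N) : G) := by
    rw [GW.conjVia_mem, MulEquiv.apply_symm_apply, ht]
  exact GW.conjVia_injective N e hC h1 ▸ (e.symm t).2

theorem fpart_eq_one {y : G} (hy : y ∈ N) : fpart N e y = 1 := by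
  obtain ⟨s, hs⟩ := (mem_inn_iff (F := F) (n := 2)).1 ⟨e ⟨y, hy⟩, rfl⟩
  refine GW.mem_ker_fieldPartHom.2 ⟨Matrix.SpecialLinearGroup.toGL s, ?_⟩
  rw [indHom_apply, ← hs]
  exact GW.conjVia_mem N e ⟨y, hy⟩

variable (hodd : Odd N.index)

include e hC hodd in
theorem ker_fpart : (fpart N e).ker = N := by
  refine le_antisymm (fun y hy => ?_) fun y hy => MonoidHom.mem_ker.2 (fpart_eq_one N e hy)
  obtain ⟨g, hg⟩ := GW.mem_ker_fieldPartHom.1 (MonoidHom.mem_ker.1 hy)
  have hsq : y * y ∈ N := mem_of_inn N e hC (by rw [map_mul, hg]; exact indHom_sq_mem_inn g)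
  obtain ⟨k, hk⟩ := hodd
  have h1 := N.pow_index_mem y
  rw [hk, pow_succ, pow_mul, sq] at h1
  exact (N.mul_mem_cancel_left (pow_mem hsq k)).1 h1

include e hC hodd in
theorem card_range_fpart : Nat.card (fpart N e).range = N.index := by
  rw [← Subgroup.index_ker, ker_fpart N e hC hodd]

include e hC hodd in
theorem odd_orderOf_fpart (y : G) : Odd (orderOf (fpart N e y)) :=
  hodd.of_dvd_nat (card_range_fpart N e hC hodd ▸
    Subgroup.orderOf_dvd_natCard _ (⟨y, rfl⟩ : fpart N e y ∈ (fpart N e).range))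

include e hC hodd in
theorem exists_field_preimage (y : G) : ∃ z : G, GW.conjVia N e z = fieldHom (fpart N e y) := by
  set σ := fpart N e y with hσ
  obtain ⟨τ, g, hg⟩ := GW.exists_ind (GW.conjVia N e y)
  have hτ : τ = σ := by
    rw [hσ, fpart, MonoidHom.comp_apply, hg, GW.fieldPartHom_ind]
  rw [← hτ] at hσ ⊢
  clear_value σ
  subst hτ
  obtain ⟨t, ht⟩ := ind_sq g τ
  obtain ⟨j, hj⟩ := odd_orderOf_fpart N e hC hodd y
  refine ⟨(((e.symm t : N) : G)⁻¹ * (y * y)) ^ (j + 1), ?_⟩
  rw [map_pow, map_mul, map_inv, GW.conjVia_mem, MulEquiv.apply_symm_apply, map_mul, hg, ht,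
    show (ind g τ * ind g τ * (fieldHom (τ * τ))⁻¹)⁻¹ * (ind g τ * ind g τ) = fieldHom (τ * τ) by group,
    ← map_pow]
  congr 1
  rw [← sq, ← pow_mul, show 2 * (j + 1) = orderOf τ + 1 by rw [hσ, hj]; ring, pow_succ, pow_orderOf_eq_one,
    one_mul]

include e hC hodd in
theorem not_dvd_card (hD : ConjByOrder G) {l : ℕ} (hl : l.Prime) (hdvd : l ∣ N.index) :
    ¬ l ∣ Nat.card N := by
  intro hN
  haveI := Fact.mk hl
  haveI : Finite (fpart N e).range := Finite.of_surjective _ (fpart N e).rangeRestrict_surjective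
  obtain ⟨⟨σ, y, hy⟩, hσ⟩ := exists_prime_orderOf_dvd_card' (G := (fpart N e).range) l
    (by rwa [card_range_fpart N e hC hodd])
  rw [← Subgroup.orderOf_coe] at hσ
  obtain ⟨z, hz⟩ := exists_field_preimage N e hC hodd y
  rw [hy] at hz
  have hzo : orderOf z = l := by
    rw [← orderOf_injective (GW.conjVia N e) (GW.conjVia_injective N e hC), hz,
      orderOf_injective fieldHom fieldHom_injective]
    exact hσ
  obtain ⟨⟨x, hx⟩, hxo⟩ := exists_prime_orderOf_dvd_card' (G := N) l hN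
  rw [← Subgroup.orderOf_coe] at hxo
  obtain ⟨g, hg⟩ := conj_zpowers hD hl hxo hzo
  obtain ⟨x', hx', hxz⟩ := hg ▸ mem_zpowers z
  have hzN : z ∈ N := by
    rw [← hxz]
    exact (inferInstance : N.Normal).conj_mem x' (zpowers_le.2 hx hx') g
  have h1 := fpart_eq_one N e hzN
  rw [fpart, MonoidHom.comp_apply, hz, fieldHom_apply, GW.fieldPartHom_ind] at h1
  have hσ' : orderOf σ = l := hσ
  rw [h1, orderOf_one] at hσ'
  exact hl.one_lt.ne hσ'

include e hC hodd in
theorem index_dvd : N.index ∣ Nat.card (F ≃+* F) := by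
  rw [← card_range_fpart N e hC hodd]
  exact Subgroup.card_subgroup_dvd_card _

include e in
theorem card_psl_eq : Nat.card N = Nat.card PSL2 := Nat.card_congr e.toEquiv

theorem mod_eight_pow {p : ℕ} (hp : Odd p) (k : ℕ) : p ^ (2 * k) % 8 = 1 ∧ p ^ (2 * k + 1) % 8 = p % 8 := by
  have h1 : p ^ 2 % 8 = 1 := by
    rw [sq, Nat.mul_mod]
    obtain ⟨j, rfl⟩ := hp
    rcases (show (2 * j + 1) % 8 = 1 ∨ (2 * j + 1) % 8 = 3 ∨ (2 * j + 1) % 8 = 5 ∨ (2 * j + 1) % 8 = 7 by omega)
      with e | e | e | e <;> rw [e]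
  have h2 : p ^ (2 * k) % 8 = 1 := by rw [pow_mul, Nat.pow_mod, h1, one_pow]; norm_num
  refine ⟨h2, ?_⟩
  rw [pow_succ, Nat.mul_mod, h2, one_mul, Nat.mod_mod]

include e hC hodd in
/-- The odd case: `N` is everything and `q` is `p` or `p ^ 3`. -/
theorem odd_case (hD : ConjByOrder G) (hq : Fintype.card F % 8 = 3 ∨ Fintype.card F % 8 = 5) :
    ∃ (p : ℕ) (_ : Fact p.Prime), (p % 8 = 3 ∨ p % 8 = 5) ∧ N = ⊤ ∧
      (Fintype.card F = p ∨ Fintype.card F = p ^ 3) := by
  obtain ⟨p, hp⟩ := CharP.exists F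
  haveI := hp
  obtain ⟨n, hpp, hn⟩ := FiniteField.card F p
  haveI hpf := Fact.mk hpp
  have hpodd : Odd p := by
    rcases hpp.eq_two_or_odd' with rfl | h
    · exfalso
      have : 2 ∣ Fintype.card F := hn ▸ dvd_pow_self 2 n.ne_zero
      omega
    · exact h
  have h2 : (2 : F) ≠ 0 := Classical.two_ne_zero_of_odd_card (hn ▸ hpodd.pow)
  obtain ⟨k, hk⟩ : Odd (n : ℕ) := by
    rcases Nat.even_or_odd (n : ℕ) with ⟨k, hk⟩ | h
    · exfalso
      rw [hn, hk, ← two_mul, (mod_eight_pow hpodd k).1] at hq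
      omega
    · exact h
  have hp8 : p % 8 = 3 ∨ p % 8 = 5 := by
    rwa [hn, hk, (mod_eight_pow hpodd k).2] at hq
  have hgal : Nat.card (F ≃+* F) = n :=
    EqualOrder.card_galoisAut p (F := F) (by rw [Nat.card_eq_fintype_card, hn])
  have hcN := card_psl_eq N e
  have hone : ∀ m : ℕ, (n : ℕ) = m → (m = 1 ∨ m = 3) → N = ⊤ := by
    intro m hm hm'
    have hi := index_dvd N e hC hodd
    rw [hgal, hm] at hi
    refine Subgroup.index_eq_one.1 ?_
    rcases hm' with rfl | rfl
    · exact Nat.dvd_one.1 hi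
    · rcases (Nat.dvd_prime Nat.prime_three).1 hi with h | h
      · exact h
      · exact absurd (hcN ▸ three_dvd_card) (not_dvd_card N e hC hodd hD Nat.prime_three (by rw [h]))
  rcases Nat.eq_zero_or_pos k with rfl | hk0
  · exact ⟨p, hpf, hp8, hone 1 (by omega) (Or.inl rfl), Or.inl (by rw [hn, hk]; simp)⟩
  suffices h3 : (n : ℕ) = 3 from ⟨p, hpf, hp8, hone 3 h3 (Or.inr rfl), Or.inr (by rw [hn, h3])⟩
  have hpN : p ∣ Nat.card N := by
    obtain ⟨Q⟩ : Nonempty (Sylow p PSL2) := inferInstance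
    rw [hcN]
    exact (dvd_pow_self p n.ne_zero).trans (hn ▸ (sylow_char p h2 Q).1 ▸ card_subgroup_dvd_card _)
  obtain ⟨P⟩ : Nonempty (Sylow p G) := inferInstance
  have hPN : (P : Subgroup G) ≤ N := fun x hx => by
    rw [← ker_fpart N e hC hodd, MonoidHom.mem_ker]
    by_contra hne
    obtain ⟨i, hi⟩ := P.2 ⟨x, hx⟩
    have h1 : orderOf (fpart N e x) ∣ p ^ i :=
      (orderOf_map_dvd _ x).trans (orderOf_dvd_of_pow_eq_one (by simpa using congrArg Subtype.val hi))
    obtain ⟨j, -, hj⟩ := (Nat.dvd_prime_pow hpp).1 h1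
    have hj0 : j ≠ 0 := fun h => hne (orderOf_eq_one_iff.1 (by rw [hj, h, pow_zero]))
    refine not_dvd_card N e hC hodd hD hpp ((dvd_pow_self p hj0).trans (hj ▸ ?_)) hpN
    exact card_range_fpart N e hC hodd ▸
      Subgroup.orderOf_dvd_natCard _ (⟨x, rfl⟩ : fpart N e x ∈ (fpart N e).range)
  set Q := (P.subtype hPN).mapSurjective (f := e.toMonoidHom) e.surjective with hQ
  obtain ⟨hQc, hQp, hQs⟩ := sylow_char p h2 Q
  have hQmem : ∀ x (hx : x ∈ N), e ⟨x, hx⟩ ∈ (Q : Subgroup PSL2) ↔ x ∈ (P : Subgroup G) := by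
    intro x hx
    show e ⟨x, hx⟩ ∈ ((P.subtype hPN : Sylow p N) : Subgroup N).map e.toMonoidHom ↔ _
    rw [Sylow.coe_subtype]
    exact (mem_map_iff_mem (f := e.toMonoidHom) (x := ⟨x, hx⟩) e.injective).trans mem_subgroupOf
  have hPc : Nat.card (P : Subgroup G) = p ^ (n : ℕ) := by
    rw [← hn, ← hQc, show (Q : Subgroup PSL2) = ((P.subtype hPN : Sylow p N) : Subgroup N).map e.toMonoidHom from rfl,
      Sylow.coe_subtype, card_map_of_injective (f := e.toMonoidHom) e.injective]
    exact (Nat.card_congr (subgroupOfEquivOfLe hPN).toEquiv).symm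
  have hPp : ∀ x ∈ (P : Subgroup G), x ^ p = 1 := fun x hx => by
    have h := hQp _ ((hQmem x (hPN hx)).2 hx)
    rw [← map_pow, MulEquiv.map_eq_one_iff] at h
    simpa using congrArg Subtype.val h
  have hel : Cfsg.IsElementaryAbelian p (P : Subgroup G) := by
    rcases Cfsg.Agent.S4020.result hD P with h | h | ⟨⟨f⟩⟩
    · exfalso
      obtain ⟨g, hg⟩ := h.exists_ofOrder_eq_natCard
      have h1 := orderOf_dvd_of_pow_eq_one (show g ^ p = 1 from Subtype.ext (by simpa using hPp g g.2))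
      rw [hg, hPc] at h1
      have := Nat.pow_dvd_pow_iff_le_right hpp.one_lt |>.1 (show p ^ (n : ℕ) ∣ p ^ 1 by simpa using h1)
      omega
    · exact h
    · exfalso
      have h1 := Nat.card_congr f.toEquiv
      rw [hPc, Nat.card_eq_fintype_card (α := QuaternionGroup 2), QuaternionGroup.card] at h1
      have : 2 ∣ p ^ (n : ℕ) := h1 ▸ (by norm_num)
      exact (Nat.not_even_iff_odd.2 hpodd.pow) (even_iff_two_dvd.2 this)
  set M := normalizer ((P : Subgroup G) : Set G) with hM
  set K := N.subgroupOf M with hK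
  haveI : Group.IsSolvable K := by
    haveI := hQs
    let f : K →* normalizer ((Q : Subgroup PSL2) : Set PSL2) :=
      MonoidHom.codRestrict (e.toMonoidHom.comp
        (MonoidHom.codRestrict (M.subtype.comp K.subtype) N fun x => x.2)) _ fun x => by
        refine mem_normalizer_iff.2 fun y => ?_
        obtain ⟨⟨a, ha⟩, rfl⟩ := e.surjective y
        have hxa : ((x : M) : G) * a * ((x : M) : G)⁻¹ ∈ N := mul_mem (mul_mem x.2 ha) (inv_mem x.2)
        show _ ↔ e ⟨((x : M) : G), x.2⟩ * e ⟨a, ha⟩ * (e ⟨((x : M) : G), x.2⟩)⁻¹ ∈ _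
        rw [← map_inv, ← map_mul, ← map_mul, hQmem a ha]
        refine (mem_normalizer_iff.1 (x : M).2 a).trans ?_
        exact (hQmem _ hxa).symm
    exact Group.isSolvable_of_isSolvable_injective (f := f) fun a b h => by
      have := e.injective (congrArg Subtype.val h)
      exact Subtype.ext (Subtype.ext (congrArg (fun z : N => (z : G)) this))
  haveI : Group.IsSolvable (M ⧸ K) := FT.isSolvable_of_odd _ (by
    rw [← Subgroup.index_eq_card]
    exact hodd.of_dvd_nat (relIndex_dvd_index_of_normal N M))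
  haveI : Group.IsSolvable M := (Group.isSolvable_iff_subgroup_quotient K).2 ⟨inferInstance, inferInstance⟩
  rcases Cfsg.Agent.S4025.result (fun H L hH hL hc => hD p hpp H L hH hL hc) P n (by omega) hel hPc M rfl
    inferInstance with ⟨h, -⟩ | ⟨-, h, -⟩
  · exact h
  · exact absurd hpodd (by rw [h]; decide)

include e hC hodd in
theorem even_three (hD : ConjByOrder G) (h8 : Fintype.card F = 2 ^ 3) : N = ⊤ := by
  haveI := charTwo_of_card h8 (by norm_num)
  have hi := index_dvd N e hC hodd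
  rw [EqualOrder.card_galoisAut 2 (F := F) (n := 3) (by rw [Nat.card_eq_fintype_card, h8])] at hi
  refine Subgroup.index_eq_one.1 ?_
  rcases (Nat.dvd_prime Nat.prime_three).1 hi with h | h
  · exact h
  · exact absurd (card_psl_eq N e ▸ three_dvd_card) (not_dvd_card N e hC hodd hD Nat.prime_three (by rw [h]))

include e hC hodd in
theorem even_five (h32 : Fintype.card F = 2 ^ 5) (h5 : 5 ∣ Nat.card G) :
    Nonempty (G ≃* MulAut PSL2) := by
  haveI := charTwo_of_card h32 (by norm_num)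
  have hgal : Nat.card (F ≃+* F) = 5 :=
    EqualOrder.card_galoisAut 2 (F := F) (n := 5) (by rw [Nat.card_eq_fintype_card, h32])
  have hi5 : N.index = 5 := by
    have hi := index_dvd N e hC hodd
    rw [hgal] at hi
    refine ((Nat.dvd_prime (by norm_num)).1 hi).resolve_left fun h => ?_
    rw [← N.card_mul_index, h, mul_one, card_psl_eq N e] at h5
    have h := Classical.card_psl2 (F := F)
    rw [h32] at h
    norm_num at h
    omega
  haveI : Finite (RingAut F) := Finite.of_injective (fun σ : F ≃+* F => (σ : F → F)) DFunLike.coe_injective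
  have hrange : (fpart N e).range = ⊤ :=
    eq_top_of_card_eq _ (by rw [card_range_fpart N e hC hodd, hi5]; exact hgal.symm)
  have hchar : ringChar F = 2 := ringChar_two_of_card h32 (by norm_num)
  refine ⟨MulEquiv.ofBijective (GW.conjVia N e) ⟨GW.conjVia_injective N e hC, fun β => ?_⟩⟩
  obtain ⟨σ, g, rfl⟩ := GW.exists_ind β
  obtain ⟨y, hy⟩ := hrange.ge (mem_top σ)
  obtain ⟨z, hz⟩ := exists_field_preimage N e hC hodd y
  obtain ⟨t, ht⟩ := indHom_mem_inn g (FiniteField.isSquare_of_char_two hchar g.1.det)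
  refine ⟨((e.symm t : N) : G) * z, ?_⟩
  rw [map_mul, GW.conjVia_mem, MulEquiv.apply_symm_apply, ht, hz, hy, indHom_apply, fieldHom_apply, ind_mul,
    map_one, mul_one, one_mul]

end CfsgLib.EqualOrder2
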