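import Cfsg.Agent.Lib.EqualOrder2.Local
import Cfsg.Agent.Lib.EqualOrder.Linear
import Cfsg.Agent.Lib.Bender.OddQuot.GLThree
import Cfsg.Agent.Lib.PGroup.Kulakoff
import Cfsg.Agent.Lib.Coprime.Action
import Cfsg.Agent.Lib.AutPSL.GraphCentralizer

/-!
# Balance

With `K = O(N(S))` the intersections `K ∩ O(C(t))`, `t ∈ S#`, coincide, and `t ↦ O(C(t))` is balanced
on `S`.
-/

set_option autoImplicit false
set_option linter.unusedSectionVars false
set_option linter.style.haveILetI false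

namespace CfsgLib.EqualOrder2

open Subgroup
open CfsgLib.EqualOrder (ConjByOrder)

universe u

variable (G : Type u) [Group G] [Finite G]

/-- The configuration of part A. -/
structure Ctx where
  hD : ConjByOrder G
  hO : Cfsg.oddCore G = ⊥
  S : Sylow 2 G
  hS : Cfsg.IsElementaryAbelian 2 (S : Subgroup G)
  h8 : Nat.card (S : Subgroup G) = 8
  loc : ∀ t : G, orderOf t = 2 → Local G t

variable {G}

/-- A subgroup containing all Sylow subgroups of another contains it. -/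
theorem le_of_ppow_mem {A B : Subgroup G}
    (h : ∀ l : ℕ, l.Prime → ∀ z ∈ A, (∃ j, z ^ l ^ j = 1) → z ∈ B) : A ≤ B := by
  refine inf_eq_left.1 (eq_of_le_of_card_ge inf_le_left (Nat.le_of_dvd Nat.card_pos ?_))
  refine (Nat.dvd_iff_prime_pow_dvd_dvd _ _).2 fun l k hlp hd => ?_
  haveI := Fact.mk hlp
  obtain ⟨P⟩ : Nonempty (Sylow l A) := inferInstance
  refine (P.pow_dvd_card_of_pow_dvd_card hd).trans ?_
  rw [← card_map_of_injective A.subtype_injective]
  refine card_dvd_of_le ?_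
  rintro _ ⟨z, hz, rfl⟩
  obtain ⟨j, hj⟩ := P.2 ⟨z, hz⟩
  exact ⟨z.2, h l hlp z z.2 ⟨j, congrArg Subtype.val (congrArg Subtype.val hj)⟩⟩

/-- Normal subgroups: equal intersections with one Sylow subgroup from equal orders. -/
theorem index_not_dvd_inf {p : ℕ} [Fact p.Prime] {K A : Subgroup G} (hAK : A ≤ K)
    (hK : ∀ k ∈ K, ∀ a ∈ A, k * a * k⁻¹ ∈ A) (P : Sylow p K) :
    Nat.card (((P : Subgroup K) ⊓ A.subgroupOf K : Subgroup K)) = p ^ (Nat.card A).factorization p := by
  haveI : (A.subgroupOf K).Normal := ⟨fun a ha k => hK k k.2 a ha⟩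
  set N := A.subgroupOf K
  have hle : (P : Subgroup K) ⊓ N ≤ N := inf_le_right
  let Q : Sylow p N := ((P.2.to_le (inf_le_left : (P : Subgroup K) ⊓ N ≤ P)).of_equiv
      (subgroupOfEquivOfLe hle).symm).toSylow (Fusion.not_dvd_relIndex_inf_of_normal P N)
  have := Q.card_eq_multiplicity
  have hQ : (Q : Subgroup N) = ((P : Subgroup K) ⊓ N).subgroupOf N := IsPGroup.toSylow_coe _ _
  rwa [hQ, Nat.card_congr (subgroupOfEquivOfLe hle).toEquiv,
    Nat.card_congr (subgroupOfEquivOfLe hAK).toEquiv] at this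

theorem small_orbit {l k : ℕ} (hl : 5 ≤ l) (hodd : Odd l) (hk : 2 ≤ k)
    (h : l ^ k - 1 ∣ 21 * (l - 1)) : False := by
  have hpos : 0 < 21 * (l - 1) := by omega
  rcases (show k = 2 ∨ 3 ≤ k by omega) with rfl | h3
  · obtain ⟨j, rfl⟩ := hodd
    rw [show (2 * j + 1) ^ 2 - 1 = (2 * (j + 1)) * (2 * j) by
      have : (2 * j + 1) ^ 2 = (2 * (j + 1)) * (2 * j) + 1 := by ring
      omega, show 2 * j + 1 - 1 = 2 * j by omega] at h
    have h2 := Nat.dvd_of_mul_dvd_mul_right (by omega) h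
    have : 2 ∣ 21 := (dvd_mul_right 2 (j + 1)).trans h2
    omega
  · have h1 := Nat.le_of_dvd hpos h
    have h2 : l ^ 3 ≤ l ^ k := Nat.pow_le_pow_right (by omega) h3
    have h3' : 25 * l ≤ l ^ 3 := by
      rw [show l ^ 3 = (l * l) * l by ring]
      exact Nat.mul_le_mul_right _ (Nat.mul_le_mul hl hl)
    omega

theorem conj_mem_self (H : Subgroup G) {x y : G} (hx : x ∈ H) (hy : y ∈ H) : x * y * x⁻¹ ∈ H :=
  H.mul_mem (H.mul_mem hx hy) (H.inv_mem hx)

namespace Ctx

variable (C : Ctx G)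

/-- `O(N(S))`, the odd part of `C(S)`. -/
abbrev K : Subgroup G := EqConj.oddPart C.S

theorem K_le_cent {t : G} (ht : t ∈ (C.S : Subgroup G)) : C.K ≤ centralizer ({t} : Set G) :=
  fun _ hx => mem_centralizer_singleton_iff.2 (EqConj.oddPart_commute C.S hx ht)

theorem S_le_cent {t : G} (ht : t ∈ (C.S : Subgroup G)) : (C.S : Subgroup G) ≤ centralizer ({t} : Set G) :=
  fun _ hx => mem_centralizer_singleton_iff.2 (comm_of_mem C.S C.hS hx ht).eq

theorem invol_mem {t : G} (ht : t ∈ (C.S : Subgroup G)) (h1 : t ≠ 1) : orderOf t = 2 :=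
  invol_of_mem C.S C.hS ht h1

/-- A prime dividing `|O(C(t))|` or `|K|` does not divide the simple part. -/
theorem not_dvd_psl {t : G} (ht : orderOf t = 2) {l : ℕ} (hl : l.Prime)
    (h : l ∣ Nat.card (core t) ∨ l ∣ Nat.card C.K) :
    ¬ l ∣ Nat.card (Matrix.ProjectiveSpecialLinearGroup (Fin 2) (C.loc t ht).F) := by
  intro hd
  have hl2 : l ≠ 2 := by
    rintro rfl
    rcases h with h | h
    · exact Nat.not_even_iff_odd.2 (core_odd t) (even_iff_two_dvd.2 h)
    · exact Nat.not_even_iff_odd.2 (EqConj.oddPart_odd C.S) (even_iff_two_dvd.2 h)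
  obtain ⟨h1, h2⟩ := not_dvd_core C.S C.hS C.h8 C.hD ht (C.loc t ht) hl hl2 hd
  exact h.elim h1 h2

theorem three_dvd_psl {t : G} (ht : orderOf t = 2) :
    3 ∣ Nat.card (Matrix.ProjectiveSpecialLinearGroup (Fin 2) (C.loc t ht).F) := by
  set L := C.loc t ht
  have hq := L.five_le
  have hc := Classical.card_psl2 (F := L.F)
  have h2 : Nat.gcd 2 (Fintype.card L.F - 1) = 2 := Nat.gcd_eq_left (by
    rcases L.mod_eight with h | h <;> omega)
  rw [h2] at hc
  have h3 : 3 ∣ Fintype.card L.F * ((Fintype.card L.F - 1) * (Fintype.card L.F + 1)) := by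
    rcases (show Fintype.card L.F % 3 = 0 ∨ Fintype.card L.F % 3 = 1 ∨ Fintype.card L.F % 3 = 2 by omega)
      with h | h | h
    · exact dvd_mul_of_dvd_left (Nat.dvd_of_mod_eq_zero h) _
    · exact dvd_mul_of_dvd_right (dvd_mul_of_dvd_left (by omega) _) _
    · exact dvd_mul_of_dvd_right (dvd_mul_of_dvd_right (by omega) _) _
  rw [← hc] at h3
  exact (Nat.Coprime.dvd_of_dvd_mul_left (by norm_num) h3)

theorem core_conj {t n : G} (ht : t ∈ (C.S : Subgroup G)) {x : G} (hx : x ∈ core t) :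
    n * x * n⁻¹ ∈ core (n * t * n⁻¹) := by
  have hmap : ∀ y ∈ centralizer ({t} : Set G), n * y * n⁻¹ ∈ centralizer ({n * t * n⁻¹} : Set G) :=
    fun y hy => mem_centralizer_singleton_iff.2
      ((show Commute y t from mem_centralizer_singleton_iff.1 hy).map (MulAut.conj n).toMonoidHom).eq
  let f : ↥(centralizer ({t} : Set G)) →* ↥(centralizer ({n * t * n⁻¹} : Set G)) :=
    ((MulAut.conj n).toMonoidHom.comp (centralizer ({t} : Set G)).subtype).codRestrict _ fun y => hmap y y.2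
  have hf : Function.Bijective f := by
    refine ⟨fun a b h => Subtype.ext ((MulAut.conj n).injective (congrArg Subtype.val h)), fun z => ?_⟩
    refine ⟨⟨n⁻¹ * z * n, mem_centralizer_singleton_iff.2 ?_⟩, Subtype.ext (by
      show n * (n⁻¹ * (z : G) * n) * n⁻¹ = z; group)⟩
    have h := (show Commute (z : G) (n * t * n⁻¹) from mem_centralizer_singleton_iff.1 z.2).map
      (MulAut.conj n⁻¹).toMonoidHom
    simp only [MulEquiv.coe_toMonoidHom, MulAut.conj_apply, inv_inv] at h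
    rw [show n⁻¹ * (n * t * n⁻¹) * n = t by group] at h
    exact h.eq
  obtain ⟨y, hy, rfl⟩ := hx
  exact ⟨f y, Coprime.map_pPrimeCore_le hf.2 2 ⟨y, hy, rfl⟩, rfl⟩

/-- The image of `K` under `φ` is commutative. -/
theorem comm_mem_core {t : G} (ht : t ∈ (C.S : Subgroup G)) (h1 : t ≠ 1) {x y : G}
    (hx : x ∈ C.K) (hy : y ∈ C.K) : x * y * x⁻¹ * y⁻¹ ∈ core t := by
  classical
  have ht2 := C.invol_mem ht h1
  set L := C.loc t ht2
  let x' : ↥(centralizer ({t} : Set G)) := ⟨x, C.K_le_cent ht hx⟩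
  let y' : ↥(centralizer ({t} : Set G)) := ⟨y, C.K_le_cent ht hy⟩
  have hzK : x * y * x⁻¹ * y⁻¹ ∈ C.K := mul_mem (mul_mem (mul_mem hx hy) (inv_mem hx)) (inv_mem hy)
  have hodd : Odd (orderOf (x * y * x⁻¹ * y⁻¹)) :=
    (EqConj.oddPart_odd C.S).of_dvd_nat (Subgroup.orderOf_dvd_natCard _ hzK)
  obtain ⟨a, b, ha, hb, hne, hab, hfix⟩ := L.exists_four ht2 C.S C.hS C.h8 ht
  refine L.mem_core_of_ker ht2 (x := x' * y' * x'⁻¹ * y'⁻¹) hodd ?_
  obtain ⟨hza, hzb⟩ := hfix (x' * y' * x'⁻¹ * y'⁻¹) fun s hs => EqConj.oddPart_commute C.S hzK hs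
  haveI : IsCyclic (RingAut L.F) := by
    obtain ⟨q, hq⟩ := CharP.exists L.F
    obtain ⟨f, hqp, hf⟩ := FiniteField.card L.F q
    haveI := Fact.mk hqp
    obtain ⟨θ⟩ := CfsgLib.AutPSL.exists_ringAut_equiv hf
    exact isCyclic_of_surjective θ.symm θ.symm.surjective
  have h2 : (2 : L.F) ≠ 0 :=
    CfsgLib.Perm.Dickson.two_ne_zero_of_odd (F := L.F) (by rw [Nat.card_eq_fintype_card]; exact L.odd_field)
  refine BGroup.field_injective h2 ?_ ha hb hne hab hza hzb ?_
  · exact (show Odd (orderOf (x' * y' * x'⁻¹ * y'⁻¹)) by rwa [← Subgroup.orderOf_coe]).of_dvd_nat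
      (orderOf_map_dvd _ _)
  · simp only [map_mul, map_inv]
    letI := IsCyclic.commGroup (α := RingAut L.F)
    rw [mul_right_comm _ _ (CfsgLib.GW.fieldPartHom (L.φ x'))⁻¹, mul_inv_cancel, one_mul, mul_inv_cancel]

theorem K_core_conj {t n : G} (hn : n ∈ normalizer ((C.S : Subgroup G) : Set G)) (ht : t ∈ (C.S : Subgroup G))
    {x : G} (hx : x ∈ C.K ⊓ core t) : n * x * n⁻¹ ∈ C.K ⊓ core (n * t * n⁻¹) :=
  ⟨EqConj.oddPart_conj C.S hn hx.1, C.core_conj ht hx.2⟩

theorem card_K_core {s t : G} (hs : s ∈ (C.S : Subgroup G)) (hs1 : s ≠ 1) (ht : t ∈ (C.S : Subgroup G))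
    (ht1 : t ≠ 1) : Nat.card ↥(C.K ⊓ core t) = Nat.card ↥(C.K ⊓ core s) := by
  have key : ∀ s t : G, s ∈ (C.S : Subgroup G) → s ≠ 1 → t ∈ (C.S : Subgroup G) → t ≠ 1 →
      Nat.card ↥(C.K ⊓ core s) ≤ Nat.card ↥(C.K ⊓ core t) := by
    intro s t hs hs1 ht ht1
    obtain ⟨n, hn, rfl⟩ := invol_fused C.S C.hS C.hD hs hs1 ht ht1
    refine Nat.card_le_card_of_injective
      (fun x => (⟨n * (x : G) * n⁻¹, C.K_core_conj hn hs x.2⟩ : ↥(C.K ⊓ core (n * s * n⁻¹))))
      fun a b h => Subtype.ext (mul_left_cancel (mul_right_cancel (congrArg Subtype.val h)))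
  exact le_antisymm (key t s ht ht1 hs hs1) (key s t hs hs1 ht ht1)

theorem K_normal {t : G} (ht : t ∈ (C.S : Subgroup G)) :
    ∀ k ∈ C.K, ∀ a ∈ C.K ⊓ core t, k * a * k⁻¹ ∈ C.K ⊓ core t := fun k hk a ha =>
  Subgroup.mem_inf.2 ⟨C.K.mul_mem (C.K.mul_mem hk (Subgroup.mem_inf.1 ha).1) (C.K.inv_mem hk),
    core_conj_cent (C.K_le_cent ht hk) (Subgroup.mem_inf.1 ha).2⟩

/-- The normalizer of `S` induces at most twenty-one automorphisms on `S`. -/
theorem exists_ker_index : ∃ M : Subgroup G, M ≤ normalizer ((C.S : Subgroup G) : Set G) ∧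
    (∀ g, g ∈ M ↔ g ∈ centralizer ((C.S : Subgroup G) : Set G)) ∧
    M.relIndex (normalizer ((C.S : Subgroup G) : Set G)) ∣ 21 := by
  classical
  haveI := Fact.mk Nat.prime_two
  set S := (C.S : Subgroup G)
  set N := normalizer (S : Set G)
  set M := centralizer (S : Set G)
  have hMN : M ≤ N := Coprime.centralizer_le_normalizer_self S
  refine ⟨M, hMN, fun g => Iff.rfl, ?_⟩
  haveI : (S.subgroupOf N).Normal := (normal_subgroupOf_iff_le_normalizer le_normalizer).2 le_rfl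
  let f : N →* MulAut ↥(S.subgroupOf N) := MulAut.conjNormal
  have hker : f.ker = M.subgroupOf N := by
    ext n
    rw [MonoidHom.mem_ker, mem_subgroupOf]
    constructor
    · intro h
      refine mem_centralizer_iff.2 fun s hs => ?_
      have := congrArg (fun z : S.subgroupOf N => ((z : N) : G))
        (DFunLike.congr_fun h (⟨⟨s, le_normalizer hs⟩, hs⟩ : S.subgroupOf N))
      simp only [f, MulAut.conjNormal_apply, MulAut.one_apply] at this
      exact (mul_inv_eq_iff_eq_mul.1 this).symm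
    · intro h
      refine MulEquiv.ext fun z => Subtype.ext (Subtype.ext ?_)
      show (n : G) * ((z : N) : G) * (n : G)⁻¹ = ((z : N) : G)
      exact mul_inv_eq_iff_eq_mul.2 (mem_centralizer_iff.1 h _ z.2).symm
  have hrel : M.relIndex N = Nat.card f.range := by
    rw [relIndex, ← hker, Subgroup.index_ker]
  have hodd : ¬ 2 ∣ M.relIndex N := fun h => C.S.not_dvd_index (h.trans
    ((relIndex_dvd_index_of_le hMN).trans (index_dvd_of_le (fun s hs =>
      mem_centralizer_iff.2 fun x hx => (comm_of_mem C.S C.hS hx hs).eq))))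
  have h168 : M.relIndex N ∣ 168 := by
    rw [hrel]
    refine (card_subgroup_dvd_card _).trans ?_
    have hc8 : Nat.card ↥(S.subgroupOf N) = 8 := by
      rw [Nat.card_congr (subgroupOfEquivOfLe le_normalizer).toEquiv, C.h8]
    letI : CommGroup ↥(S.subgroupOf N) :=
      { (inferInstance : Group ↥(S.subgroupOf N)) with
        mul_comm := fun a b => Subtype.ext (Subtype.ext (comm_of_mem C.S C.hS a.2 b.2).eq) }
    exact (Bender.OddQuot.GLThree.card_mulAut
      (fun a : ↥(S.subgroupOf N) => Subtype.ext (Subtype.ext (sq_of_mem C.S C.hS a.2))) hc8).dvd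
  have hcop : (M.relIndex N).Coprime 8 :=
    (Nat.Coprime.pow_right 3 ((Nat.prime_two.coprime_iff_not_dvd).2 hodd).symm :)
  exact hcop.dvd_of_dvd_mul_left (show M.relIndex N ∣ 8 * 21 from h168)

/-- **`K ∩ O(C(t))` does not depend on `t`.** -/
theorem K_core_eq {s t : G} (hs : s ∈ (C.S : Subgroup G)) (hs1 : s ≠ 1) (ht : t ∈ (C.S : Subgroup G))
    (ht1 : t ≠ 1) : C.K ⊓ core t ≤ core s := by
  classical
  refine le_of_ppow_mem fun l hl z hz ⟨j, hj⟩ => ?_
  by_cases hz1 : z = 1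
  · rw [hz1]; exact one_mem _
  haveI := Fact.mk hl
  have hlz : l ∣ orderOf z := by
    obtain ⟨i, -, hi⟩ := (Nat.dvd_prime_pow hl).1 (orderOf_dvd_of_pow_eq_one hj)
    rcases Nat.eq_zero_or_pos i with rfl | hi0
    · rw [pow_zero, orderOf_eq_one_iff] at hi; exact absurd hi hz1
    · rw [hi]; exact dvd_pow_self l hi0.ne'
  have hlK : l ∣ Nat.card C.K := hlz.trans (Subgroup.orderOf_dvd_natCard _ hz.1)
  have ht2 := C.invol_mem ht ht1
  have hl5 : 5 ≤ l := by
    have h1 := C.not_dvd_psl ht2 hl (Or.inr hlK)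
    have hl2 : l ≠ 2 := by
      rintro rfl
      exact Nat.not_even_iff_odd.2 (EqConj.oddPart_odd C.S) (even_iff_two_dvd.2 hlK)
    have hl3 : l ≠ 3 := fun h => h1 (h ▸ C.three_dvd_psl ht2)
    have hl4 : l ≠ 4 := fun h => by rw [h] at hl; norm_num at hl
    have := hl.two_le
    omega
  -- a Sylow subgroup of `K` through `z`
  obtain ⟨P, hP⟩ : ∃ P : Sylow l C.K, zpowers (⟨z, hz.1⟩ : C.K) ≤ P := by
    refine IsPGroup.exists_le_sylow ?_
    obtain ⟨i, -, hi⟩ := (Nat.dvd_prime_pow hl).1 (orderOf_dvd_of_pow_eq_one hj)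
    exact IsPGroup.of_card (n := i) (by rw [Nat.card_zpowers, ← Subgroup.orderOf_coe]; exact hi)
  let Q : G → Subgroup C.K := fun r => (P : Subgroup C.K) ⊓ (C.K ⊓ core r).subgroupOf C.K
  have hQc : ∀ r, r ∈ (C.S : Subgroup G) → r ≠ 1 → Nat.card (Q r) = Nat.card (Q t) := by
    intro r hr hr1
    show Nat.card ↥((P : Subgroup C.K) ⊓ _) = Nat.card ↥((P : Subgroup C.K) ⊓ _)
    rw [index_not_dvd_inf inf_le_left (C.K_normal hr) P, index_not_dvd_inf inf_le_left (C.K_normal ht) P,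
      C.card_K_core hr hr1 ht ht1]
  have hzQ : (⟨z, hz.1⟩ : C.K) ∈ Q t := ⟨hP (mem_zpowers _), hz⟩
  suffices h : Q t ≤ Q s from (h hzQ).2.2
  -- the shape of `P`
  obtain ⟨P', hP'⟩ := (P.2.map C.K.subtype).exists_le_sylow
  rcases Cfsg.Agent.S4020.result (fun p hp => C.hD p hp) P' with hc | hel | ⟨⟨e⟩⟩
  · haveI : IsCyclic ↥((P : Subgroup C.K).map C.K.subtype) :=
      isCyclic_of_injective (Subgroup.inclusion hP') (Subgroup.inclusion_injective hP')
    haveI : IsCyclic (P : Subgroup C.K) :=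
      isCyclic_of_surjective ((P : Subgroup C.K).equivMapOfInjective _ C.K.subtype_injective).symm.toMonoidHom
        ((P : Subgroup C.K).equivMapOfInjective _ C.K.subtype_injective).symm.surjective
    have hsub : ∀ A B : Subgroup (P : Subgroup C.K), Nat.card A = Nat.card B → A = B := fun A B h =>
      CfsgLib.PGroup.Kulakoff.eq_of_card_eq h
    have e := hsub ((Q t).subgroupOf P) ((Q s).subgroupOf P) (by
      rw [Nat.card_congr (subgroupOfEquivOfLe (inf_le_left : Q t ≤ P)).toEquiv,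
        Nat.card_congr (subgroupOfEquivOfLe (inf_le_left : Q s ≤ P)).toEquiv, hQc s hs hs1])
    intro x hx
    exact (e.le (show (⟨x, hx.1⟩ : (P : Subgroup C.K)) ∈ (Q t).subgroupOf P from hx) :)
  swap
  · exfalso
    have h8' : Nat.card (P' : Subgroup G) = 8 := by
      rw [Nat.card_congr e.toEquiv, Nat.card_eq_fintype_card, QuaternionGroup.card]
    obtain ⟨i, hi⟩ := P'.2.exists_card_eq
    rw [h8'] at hi
    rcases Nat.eq_zero_or_pos i with rfl | hi0
    · norm_num at hi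
    · have : l ∣ 2 ^ 3 := by rw [show 2 ^ 3 = 8 by norm_num, hi]; exact dvd_pow_self l hi0.ne'
      exact absurd (Nat.le_of_dvd two_pos (hl.dvd_of_dvd_pow this)) (by omega)
  -- `P` elementary
  by_cases htop : Q t = P
  · intro x hx
    have hle : Q s ≤ P := inf_le_left
    have : Q s = P := eq_of_le_of_card_ge hle (by rw [hQc s hs hs1, htop])
    rw [this]; exact hx.1
  exfalso
  have hPmem : ∀ x : C.K, x ∈ (P : Subgroup C.K) → (x : G) ∈ (P' : Subgroup G) := fun x hx => hP' ⟨x, hx, rfl⟩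
  have hPc : ∀ x ∈ (P : Subgroup C.K), ∀ y ∈ (P : Subgroup C.K), Commute x y := fun x hx y hy =>
    Subtype.ext (show (x : G) * y = y * x from
      congrArg Subtype.val (hel.1.is_comm.comm ⟨_, hPmem x hx⟩ ⟨_, hPmem y hy⟩))
  have hPexp : ∀ x ∈ (P : Subgroup C.K), x ^ l = 1 := fun x hx =>
    Subtype.ext (hel.2 _ (hPmem x hx))
  -- the normalizer
  set P₀ := (P : Subgroup C.K).map C.K.subtype with hP₀
  set NS := normalizer ((C.S : Subgroup G) : Set G)
  set N := normalizer (P₀ : Set G) ⊓ NS with hN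
  have hfuse : ∀ x ∈ P₀, ∀ y ∈ P₀, x ≠ 1 → y ≠ 1 → ∃ n ∈ N, n * x * n⁻¹ ∈ zpowers y := by
    intro x hx y hy hx1 hy1
    have hord : ∀ w ∈ P₀, w ≠ 1 → orderOf w = l := fun w hw hw1 => by
      obtain ⟨w', hw', rfl⟩ := hw
      exact orderOf_eq_prime (congrArg Subtype.val (hPexp w' hw')) hw1
    have hS : ∀ w ∈ P₀, ∀ a ∈ zpowers w, ∀ r ∈ (C.S : Subgroup G), r * a = a * r := by
      intro w hw a ha r hr
      obtain ⟨w', -, rfl⟩ := hw
      exact (EqConj.oddPart_commute C.S (zpowers_le.2 w'.2 ha) hr).symm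
    obtain ⟨g, hg⟩ := conj_zpowers C.hD hl (hord x hx hx1) (hord y hy hy1)
    obtain ⟨n, hn, hny⟩ := EqConj.exists_normalizer_conj C.S (hS x hx) (hS y hy) hg
    -- both `P₀` and its image are Sylow subgroups of `C_K(y)`
    set D := C.K ⊓ centralizer ({y} : Set G) with hDdef
    have hP₀D : P₀ ≤ D := by
      rintro _ ⟨w, hw, rfl⟩
      obtain ⟨y', hy', rfl⟩ := hy
      exact ⟨w.2, mem_centralizer_singleton_iff.2 (congrArg Subtype.val (hPc w hw y' hy').eq)⟩
    have hnP₀D : P₀.map (MulAut.conj n).toMonoidHom ≤ D := by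
      rintro _ ⟨w, hw, rfl⟩
      obtain ⟨w', hw', rfl⟩ := hw
      refine ⟨EqConj.oddPart_conj C.S hn w'.2, mem_centralizer_singleton_iff.2 ?_⟩
      obtain ⟨x', hx', hxy⟩ := hny ▸ mem_zpowers y
      obtain ⟨i, rfl⟩ := mem_zpowers_iff.1 hx'
      rw [← hxy]
      obtain ⟨x'', hx'', rfl⟩ := hx
      exact (((show Commute (w' : G) x'' from congrArg Subtype.val (hPc w' hw' x'' hx'').eq).zpow_right i).map
        (MulAut.conj n).toMonoidHom).eq
    have hmult : ∀ R : Subgroup G, IsPGroup l R → R ≤ D → Nat.card R = Nat.card P₀ →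
        ¬ l ∣ (R.subgroupOf D).index := by
      intro R hR hRD hc h
      have h1 := (P₀.subgroupOf D).card_mul_index
      have h2 := (R.subgroupOf D).card_mul_index
      rw [Nat.card_congr (subgroupOfEquivOfLe hP₀D).toEquiv] at h1
      rw [Nat.card_congr (subgroupOfEquivOfLe hRD).toEquiv, hc, ← h1] at h2
      have h3 := Nat.eq_of_mul_eq_mul_left Nat.card_pos h2
      rw [h3] at h
      have h4 : P₀.relIndex D ∣ P₀.relIndex C.K :=
        ⟨_, (relIndex_mul_relIndex P₀ D C.K hP₀D inf_le_left).symm⟩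
      have h5 : P₀.relIndex C.K = (P : Subgroup C.K).index := by
        rw [relIndex, hP₀, subgroupOf, comap_map_eq_self_of_injective C.K.subtype_injective]
      exact P.not_dvd_index (h5 ▸ (h.trans h4))
    have hP₀p : IsPGroup l P₀ := P.2.map _
    let R₁ : Sylow l D := (hP₀p.of_equiv (subgroupOfEquivOfLe hP₀D).symm).toSylow (hmult P₀ hP₀p hP₀D rfl)
    have hcn : Nat.card ↥(P₀.map (MulAut.conj n).toMonoidHom) = Nat.card P₀ :=
      card_map_of_injective (MulAut.conj n).injective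
    let R₂ : Sylow l D := ((hP₀p.map _).of_equiv (subgroupOfEquivOfLe hnP₀D).symm).toSylow
      (hmult _ (hP₀p.map _) hnP₀D hcn)
    obtain ⟨c, hc⟩ := MulAction.exists_smul_eq D R₂ R₁
    refine ⟨(c : G) * n, ⟨?_, mul_mem ?_ hn⟩, ?_⟩
    · refine Invol.mem_normalizer_of_conj_map_eq (eq_of_le_of_card_ge ?_
        (card_map_of_injective (MulAut.conj ((c : G) * n)).injective).ge)
      rintro _ ⟨w, hw, rfl⟩
      have hw2 : MulAut.conj c (⟨n * w * n⁻¹, hnP₀D ⟨w, hw, rfl⟩⟩ : D) ∈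
          ((c • R₂ : Sylow l D) : Subgroup D) := by
        rw [Sylow.coe_subgroup_smul]
        exact ⟨_, (IsPGroup.mem_toSylow _ _).2 (show n * w * n⁻¹ ∈ P₀.map _ from ⟨w, hw, rfl⟩), rfl⟩
      have hR : (R₁ : Subgroup D) = P₀.subgroupOf D := IsPGroup.toSylow_coe _ _
      rw [hc, hR] at hw2
      have hw3 : (c : G) * (n * w * n⁻¹) * (c : G)⁻¹ ∈ P₀ := hw2
      show (c : G) * n * w * ((c : G) * n)⁻¹ ∈ P₀
      rwa [show (c : G) * n * w * ((c : G) * n)⁻¹ = (c : G) * (n * w * n⁻¹) * (c : G)⁻¹ by group]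
    · have hcK := c.2.1
      exact Coprime.centralizer_le_normalizer_self _ (mem_centralizer_iff.2 fun r hr =>
        (EqConj.oddPart_commute C.S hcK hr).symm)
    · have hmem : n * x * n⁻¹ ∈ zpowers y := by rw [hny]; exact ⟨x, mem_zpowers x, rfl⟩
      obtain ⟨i, hi⟩ := mem_zpowers_iff.1 hmem
      have hcy : Commute (c : G) y := mem_centralizer_singleton_iff.1 c.2.2
      rw [show (c : G) * n * x * ((c : G) * n)⁻¹ = (c : G) * (n * x * n⁻¹) * (c : G)⁻¹ by group, ← hi,
        (hcy.zpow_right i).eq, mul_inv_cancel_right]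
      exact ⟨i, rfl⟩
  -- the intersection of all `Q r` is trivial
  let D : Subgroup C.K := ⨅ r : {r : G // r ∈ (C.S : Subgroup G) ∧ r ≠ 1}, Q r
  have hD : D = ⊥ := by
    by_contra hne
    obtain ⟨x, hxD, hx1⟩ := (bot_or_exists_ne_one D).resolve_left hne
    apply htop
    refine le_antisymm inf_le_left fun y hy => ?_
    by_cases hy1 : y = 1
    · rw [hy1]; exact one_mem _
    have hDle : ∀ r, r ∈ (C.S : Subgroup G) → r ≠ 1 → D ≤ Q r := fun r hr hr1 =>
      iInf_le (fun r : {r : G // r ∈ (C.S : Subgroup G) ∧ r ≠ 1} => Q r) ⟨r, hr, hr1⟩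
    have hxP : x ∈ (P : Subgroup C.K) := (hDle t ht ht1 hxD).1
    obtain ⟨n, hn, hny⟩ := hfuse _ ⟨x, hxP, rfl⟩ _ ⟨y, hy, rfl⟩
      (fun h => hx1 (Subtype.ext h)) (fun h => hy1 (Subtype.ext h))
    set r := n⁻¹ * t * n with hr
    have hrS : r ∈ (C.S : Subgroup G) := by
      have := (mem_normalizer_iff.1 (inv_mem hn.2) t).1 ht
      rwa [inv_inv] at this
    have hr1 : r ≠ 1 := fun h => ht1 (by
      rw [hr, mul_assoc, inv_mul_eq_one] at h; exact mul_eq_right.1 h.symm)
    have hxr := C.K_core_conj hn.2 hrS (hDle r hrS hr1 hxD).2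
    rw [show n * r * n⁻¹ = t by rw [hr]; group] at hxr
    obtain ⟨i, hi⟩ := mem_zpowers_iff.1 hny
    have hy0 : (y : G) ∈ C.K ⊓ core t := by
      have hne : n * (x : G) * n⁻¹ ≠ 1 := fun h => hx1 (Subtype.ext (by simpa [mul_inv_eq_one] using h))
      have hgen : (y : G) ∈ zpowers (n * (x : G) * n⁻¹) := by
        have hyo : orderOf (y : G) = l := orderOf_eq_prime (congrArg Subtype.val (hPexp y hy))
          (fun h => hy1 (Subtype.ext h))
        have hle : zpowers (n * (x : G) * n⁻¹) ≤ zpowers (y : G) := zpowers_le.2 hny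
        have heq : zpowers (n * (x : G) * n⁻¹) = zpowers (y : G) := by
          refine eq_of_le_of_card_ge hle ?_
          rw [Nat.card_zpowers, Nat.card_zpowers, hyo]
          rcases (Nat.dvd_prime hl).1 (hyo ▸ Nat.card_zpowers (y : G) ▸
            Nat.card_zpowers (n * (x : G) * n⁻¹) ▸ card_dvd_of_le hle) with h | h
          · exact absurd (orderOf_eq_one_iff.1 h) hne
          · exact h.ge
        rw [heq]; exact mem_zpowers _
      exact zpowers_le.2 hxr hgen
    exact ⟨hy, hy0⟩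
  -- the action on `P₀`
  have hNP : ∀ n ∈ N, ∀ w ∈ P₀, n * w * n⁻¹ ∈ P₀ := fun n hn w hw => (mem_normalizer_iff.1 hn.1 w).1 hw
  letI : CommGroup P₀ :=
    { (inferInstance : Group P₀) with
      mul_comm := fun a b => by
        obtain ⟨a', ha', hae⟩ := a.2
        obtain ⟨b', hb', hbe⟩ := b.2
        refine Subtype.ext ?_
        show (a : G) * b = b * a
        rw [← hae, ← hbe]
        exact congrArg Subtype.val (hPc a' ha' b' hb').eq }
  have hexp : ∀ w : P₀, w ^ l = 1 := fun w => by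
    obtain ⟨a', ha', hae⟩ := w.2
    refine Subtype.ext ?_
    show (w : G) ^ l = 1
    rw [← hae]
    exact congrArg Subtype.val (hPexp a' ha')
  let π : N →* MulAut P₀ :=
    { toFun := fun n =>
        { toFun := fun w => ⟨(n : G) * w * (n : G)⁻¹, hNP n n.2 w w.2⟩
          invFun := fun w => ⟨(n : G)⁻¹ * w * n, by
            simpa using hNP _ (inv_mem n.2) w w.2⟩
          left_inv := fun w => Subtype.ext (by show _ = (w : G); simp [mul_assoc])
          right_inv := fun w => Subtype.ext (by show _ = (w : G); simp [mul_assoc])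
          map_mul' := fun a b => Subtype.ext (by show _ = _; simp [mul_assoc]) }
      map_one' := MulEquiv.ext fun w => Subtype.ext (by simp)
      map_mul' := fun a b => MulEquiv.ext fun w => Subtype.ext (by simp [mul_assoc]) }
  obtain ⟨M, hMN, hMmem, hM21⟩ := C.exists_ker_index
  have hker : M.subgroupOf N ≤ π.ker := by
    intro n hn
    obtain ⟨r, hr, w, hw, hrw⟩ := EqConj.cent_prod C.S C.hS ((hMmem _).1 (mem_subgroupOf.1 hn))
    rw [MonoidHom.mem_ker]
    refine MulEquiv.ext fun x => Subtype.ext ?_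
    show (n : G) * x * (n : G)⁻¹ = x
    obtain ⟨x', hx', hxe⟩ := x.2
    have hxK : (x : G) ∈ C.K := by rw [← hxe]; exact x'.2
    have hcx : Commute r (x : G) := ((EqConj.oddPart_commute C.S hxK hr).symm :)
    have hwN : w * (x : G) * w⁻¹ ∈ P₀ := by
      have := hNP n n.2 x x.2
      rw [hrw, show r * w * (x : G) * (r * w)⁻¹ = r * (w * x * w⁻¹) * r⁻¹ by group] at this
      obtain ⟨y', hy', hye⟩ := id this
      have hzK : w * (x : G) * w⁻¹ ∈ C.K := mul_mem (mul_mem hw hxK) (inv_mem hw)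
      rwa [((show Commute r (w * (x : G) * w⁻¹) from (EqConj.oddPart_commute C.S hzK hr).symm)).eq,
        mul_inv_cancel_right] at this
    have hwx : w * (x : G) * w⁻¹ = x := by
      obtain ⟨z', hz', hze⟩ := hwN
      have hmem : (⟨w, hw⟩ : C.K) * x' * (⟨w, hw⟩ : C.K)⁻¹ * x'⁻¹ ∈ D := by
        refine mem_iInf.2 fun r => ⟨?_, ?_⟩
        · refine (P : Subgroup C.K).mul_mem ?_ ((P : Subgroup C.K).inv_mem hx')
          have e : (⟨w, hw⟩ : C.K) * x' * (⟨w, hw⟩ : C.K)⁻¹ = z' := Subtype.ext (by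
            show w * (x' : G) * w⁻¹ = z'
            rw [show (x' : G) = x from hxe]
            exact hze.symm)
          rw [e]; exact hz'
        · exact Subgroup.mem_inf.2 ⟨((⟨w, hw⟩ : C.K) * x' * (⟨w, hw⟩ : C.K)⁻¹ * x'⁻¹).2, C.comm_mem_core r.2.1 r.2.2 hw x'.2⟩
      rw [hD, mem_bot, mul_inv_eq_one] at hmem
      rw [← hxe]
      exact congrArg Subtype.val hmem
    rw [hrw, show r * w * (x : G) * (r * w)⁻¹ = r * (w * x * w⁻¹) * r⁻¹ by group, hwx, hcx.eq,
      mul_inv_cancel_right]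
  have hπ : Nat.card π.range ∣ 21 := by
    rw [← Subgroup.index_ker]
    refine (index_dvd_of_le hker).trans (dvd_trans ?_ hM21)
    haveI hMn : (M.subgroupOf NS).Normal := by
      refine ⟨fun m hm n => ?_⟩
      rw [mem_subgroupOf, hMmem] at hm ⊢
      exact Coprime.normalizer_le_normalizer_centralizer (C.S : Subgroup G) n.2 |> fun h =>
        (mem_normalizer_iff.1 h _).1 hm
    show M.relIndex N ∣ M.relIndex NS
    rw [← relIndex_subgroupOf (inf_le_right : N ≤ NS), relIndex, relIndex]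
    exact (M.subgroupOf NS).relIndex_dvd_index_of_normal (N.subgroupOf NS)
  -- scalars
  have hcomm : ∀ (n : N) (c : (ZMod l)ˣ), Commute (π n) (EqualOrder.powAut hexp c) := fun n c =>
    MulEquiv.ext fun x => map_pow (π n) x _
  let hom := π.noncommCoprod (EqualOrder.powAut hexp) hcomm
  have hLdvd : Nat.card hom.range ∣ 21 * (l - 1) := by
    let h2 := π.range.subtype.noncommCoprod (EqualOrder.powAut hexp) fun a c => by
      obtain ⟨n, hn⟩ := a.2
      rw [Subgroup.coe_subtype, ← hn]; exact hcomm n c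
    have hr : hom.range ≤ h2.range := by
      rintro _ ⟨⟨n, c⟩, rfl⟩
      exact ⟨(⟨π n, n, rfl⟩, c), rfl⟩
    refine (card_dvd_of_le hr).trans ((card_range_dvd h2).trans ?_)
    rw [Nat.card_prod, Nat.card_units, Nat.card_zmod]
    exact mul_dvd_mul_right hπ _
  -- one orbit
  obtain ⟨x₀, hx₀⟩ : ∃ x : P₀, x ≠ 1 := by
    refine ⟨⟨z, ⟨⟨z, hz.1⟩, hP (mem_zpowers _), rfl⟩⟩, fun h => hz1 (congrArg Subtype.val h)⟩
  have horb : MulAction.orbit hom.range x₀ = {x | x ≠ 1} := by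
    ext x
    constructor
    · rintro ⟨g, rfl⟩ h
      exact hx₀ ((g : MulAut P₀).injective (h.trans (map_one _).symm))
    · intro hx
      obtain ⟨n, hn, hnx⟩ := hfuse x₀ x₀.2 x x.2 (fun h => hx₀ (Subtype.ext h)) (fun h => hx (Subtype.ext h))
      set y := π ⟨n, hn⟩ x₀ with hy
      obtain ⟨i, hi⟩ : ∃ i : ℕ, x ^ i = y := by
        obtain ⟨i, hi⟩ := mem_zpowers_iff.1 hnx
        have hmem : y ∈ zpowers x := ⟨i, Subtype.ext (hi : (x : G) ^ i = ((y : P₀) : G))⟩
        obtain ⟨j, hj⟩ := ((isOfFinOrder_of_finite x).mem_powers_iff_mem_zpowers).2 hmem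
        exact ⟨j, hj⟩
      have hxo : orderOf x = l := orderOf_eq_prime (hexp x) hx
      have hi0 : (i : ZMod l) ≠ 0 := fun h => by
        have : x ^ i = 1 := orderOf_dvd_iff_pow_eq_one.1 (hxo ▸ (ZMod.natCast_eq_zero_iff i l).1 h)
        rw [this] at hi
        exact hx₀ ((π ⟨n, hn⟩).injective ((hi.symm).trans (map_one _).symm))
      let c : (ZMod l)ˣ := Units.mk0 (i : ZMod l) hi0
      refine ⟨⟨hom (⟨n, hn⟩, c⁻¹), ⟨_, rfl⟩⟩, ?_⟩
      show (π ⟨n, hn⟩ * EqualOrder.powAut hexp c⁻¹) x₀ = x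
      rw [MulAut.mul_apply, EqualOrder.powAut_apply, map_pow, ← hy, ← hi, ← pow_mul]
      refine (EqualOrder.pow_eq_of_cast_eq hexp x (b := 1) ?_).trans (pow_one x)
      rw [Nat.cast_mul, ZMod.natCast_zmod_val, Nat.cast_one]
      exact mul_inv_cancel₀ hi0
  have hcard : Nat.card P₀ - 1 ∣ 21 * (l - 1) := by
    refine dvd_trans (dvd_of_eq ?_) ((MulAction.index_stabilizer hom.range x₀ ▸
      (MulAction.stabilizer hom.range x₀).index_dvd_card).trans hLdvd)
    rw [horb, show {x : P₀ | x ≠ 1} = ({1} : Set P₀)ᶜ from rfl, Set.ncard_compl, Set.ncard_singleton]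
  obtain ⟨k, hk⟩ := (P.2.map C.K.subtype : IsPGroup l P₀).exists_card_eq
  rcases (show k = 0 ∨ k = 1 ∨ 2 ≤ k by omega) with rfl | rfl | h2
  · exact hx₀ (by
      haveI : Subsingleton P₀ := Finite.card_le_one_iff_subsingleton.1 (by rw [hk, pow_zero])
      exact Subsingleton.elim _ _)
  · apply htop
    refine eq_of_le_of_card_ge inf_le_left ?_
    have h1 : Nat.card (P : Subgroup C.K) = l := by
      rw [← card_map_of_injective C.K.subtype_injective, hk, pow_one]
    rw [h1]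
    have h2 : zpowers (⟨z, hz.1⟩ : C.K) ≤ Q t := zpowers_le.2 hzQ
    refine le_trans ?_ (Nat.le_of_dvd Nat.card_pos (card_dvd_of_le h2))
    rw [Nat.card_zpowers, ← Subgroup.orderOf_coe]
    exact Nat.le_of_dvd (orderOf_pos _) hlz
  · exact small_orbit hl5 (hl.odd_of_ne_two (by omega)) h2 (hk ▸ hcard)

/-- **Balance.** -/
theorem balance {s t : G} (hs : s ∈ (C.S : Subgroup G)) (hs1 : s ≠ 1) (ht : t ∈ (C.S : Subgroup G))
    (ht1 : t ≠ 1) : core t ⊓ centralizer ({s} : Set G) ≤ core s := by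
  classical
  set X := core t ⊓ centralizer ({s} : Set G) with hX
  have hs2 := C.invol_mem hs hs1
  set L := C.loc s hs2
  have hSX : (C.S : Subgroup G) ≤ normalizer (X : Set G) := by
    intro r hr
    have h1 : ∀ r ∈ (C.S : Subgroup G), ∀ x ∈ X, r * x * r⁻¹ ∈ X := fun r hr x hx =>
      ⟨core_conj_cent (C.S_le_cent ht hr) hx.1,
        conj_mem_self (centralizer ({s} : Set G)) (C.S_le_cent hs hr) hx.2⟩
    refine mem_normalizer_iff.2 fun x => ⟨h1 r hr x, fun h => ?_⟩
    have := h1 r⁻¹ (inv_mem hr) _ h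
    rwa [show r⁻¹ * (r * x * r⁻¹) * r⁻¹⁻¹ = x by group] at this
  -- an element with inner image
  have hinner : ∀ z, ∀ hz : z ∈ X, ∀ k, L.φ ⟨z, hz.2⟩ = MulAut.conj k → k = 1 := by
    intro z hz k hk
    by_contra hk1
    obtain ⟨l, hl, hld⟩ := Nat.exists_prime_and_dvd (fun h => hk1 (orderOf_eq_one_iff.1 h))
    refine C.not_dvd_psl hs2 hl ?_ (hld.trans (orderOf_dvd_natCard k))
    left
    have hlz : l ∣ orderOf z := by
      refine hld.trans ?_
      rw [← orderOf_injective _ L.conj_injective k, ← hk]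
      exact (orderOf_map_dvd _ _).trans (by rw [← Subgroup.orderOf_coe])
    rw [show Nat.card (core s) = Nat.card (core t) from ?_]
    · exact hlz.trans (Subgroup.orderOf_dvd_natCard _ hz.1)
    obtain ⟨n, hn, hnt⟩ := invol_fused C.S C.hS C.hD hs hs1 ht ht1
    refine Nat.card_congr (Equiv.subtypeEquiv (MulAut.conj n).toEquiv fun x => ?_)
    subst hnt
    constructor
    · exact fun h => C.core_conj hs h
    · intro h
      have := C.core_conj (n := n⁻¹) ht h
      simp only [MulEquiv.toEquiv_eq_coe, EquivLike.coe_coe, MulAut.conj_apply, inv_inv] at this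
      rwa [show n⁻¹ * (n * s * n⁻¹) * n = s by group, show n⁻¹ * (n * x * n⁻¹) * n = x by group] at this
  intro x hx
  set N := X ⊓ core s with hNdef
  have hSN : (C.S : Subgroup G) ≤ normalizer (N : Set G) := by
    intro r hr
    have h1 : ∀ r ∈ (C.S : Subgroup G), ∀ x ∈ N, r * x * r⁻¹ ∈ N := fun r hr x hx =>
      ⟨(mem_normalizer_iff.1 (hSX hr) x).1 hx.1, core_conj_cent (C.S_le_cent hs hr) hx.2⟩
    refine mem_normalizer_iff.2 fun x => ⟨h1 r hr x, fun h => ?_⟩
    have := h1 r⁻¹ (inv_mem hr) _ h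
    rwa [show r⁻¹ * (r * x * r⁻¹) * r⁻¹⁻¹ = x by group] at this
  have hxN : x ∈ normalizer (N : Set G) := by
    refine mem_normalizer_iff.2 fun y => ⟨fun hy => ⟨conj_mem_self X hx hy.1,
      core_conj_cent hx.2 hy.2⟩, fun h => ?_⟩
    have h' : x⁻¹ * (x * y * x⁻¹) * x⁻¹⁻¹ ∈ N := ⟨conj_mem_self X (X.inv_mem hx) h.1,
      core_conj_cent ((centralizer ({s} : Set G)).inv_mem hx.2) h.2⟩
    rwa [show x⁻¹ * (x * y * x⁻¹) * x⁻¹⁻¹ = y by group] at h'
  have hfix : ∀ a ∈ (C.S : Subgroup G), a * x * a⁻¹ * x⁻¹ ∈ N := by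
    intro a ha
    have hz : a * x * a⁻¹ * x⁻¹ ∈ X := mul_mem ((mem_normalizer_iff.1 (hSX ha) x).1 hx) (inv_mem hx)
    refine ⟨hz, ?_⟩
    let a' : ↥(centralizer ({s} : Set G)) := ⟨a, C.S_le_cent hs ha⟩
    let x' : ↥(centralizer ({s} : Set G)) := ⟨x, hx.2⟩
    obtain ⟨k, hk⟩ := L.invol_inner a' (Subtype.ext (sq_of_mem C.S C.hS ha))
    have hφ : L.φ (a' * x' * a'⁻¹ * x'⁻¹) = MulAut.conj (k * (L.φ x') k⁻¹) := by
      simp only [map_mul, map_inv, hk]
      refine MulEquiv.ext fun y => ?_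
      simp only [MulAut.mul_apply, MulAut.conj_apply, MulAut.conj_inv_apply, map_mul, map_inv,
        MulAut.apply_inv_self, mul_assoc, mul_inv_rev, inv_inv]
    have hk' := hinner _ hz _ hφ
    refine L.mem_core_of_ker hs2 (x := a' * x' * a'⁻¹ * x'⁻¹)
      ((core_odd t).of_dvd_nat (Subgroup.orderOf_dvd_natCard _ hz.1)) ?_
    rw [hφ, hk', map_one]
  have hcop : (Nat.card (C.S : Subgroup G)).Coprime (Nat.card N) := by
    rw [C.h8, show 8 = 2 ^ 3 by norm_num]
    refine Nat.Coprime.pow_left 3 ((Nat.prime_two.coprime_iff_not_dvd).2 fun h => ?_)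
    exact Nat.not_even_iff_odd.2 (core_odd t)
      (even_iff_two_dvd.2 (h.trans (card_dvd_of_le (inf_le_left.trans inf_le_left))))
  obtain ⟨n, hn, hxn⟩ := Coprime.exists_fixed_in_coset hSN hcop
    (Or.inl (Coprime.isSolvable_of_isMulCommutative C.hS.1)) hxN hfix
  have hxnX : x * n ∈ X := mul_mem hx hn.1
  have hK : x * n ∈ C.K := EqConj.mem_oddPart C.S C.hS
    (fun r hr => (mem_centralizer_iff.1 hxn r hr).symm)
    ((core_odd t).of_dvd_nat (Subgroup.orderOf_dvd_natCard _ hxnX.1))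
  have := mul_mem (C.K_core_eq hs hs1 ht ht1 ⟨hK, hxnX.1⟩) (inv_mem hn.2)
  rwa [mul_inv_cancel_right] at this

end Ctx

end CfsgLib.EqualOrder2
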