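import Cfsg.Agent.Lib.EqualOrder.NoExtraspecial
import Cfsg.Agent.Lib.Invol.Basic
import Cfsg.Agent.Lib.Invol.InvertedOdd
import Cfsg.Agent.Lib.Invol.EqualOrderConj.Basic
import Cfsg.Agent.Lib.Coprime.Core
import Mathlib.GroupTheory.Sylow
import Mathlib.GroupTheory.Subgroup.Simple

/-!
# Groups in which `p`-subgroups of equal order are conjugate: shared lemmas
-/

set_option autoImplicit false
set_option linter.unusedSectionVars false
set_option linter.style.haveILetI false

namespace CfsgLib.EqualOrder2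

open Subgroup
open CfsgLib.EqualOrder (ConjByOrder)

universe u

variable {G : Type u} [Group G] [Finite G]

/-- The hypothesis passes to quotients. -/
theorem quotient (hD : ConjByOrder G) (N : Subgroup G) [N.Normal] : ConjByOrder (G ⧸ N) := by
  intro p hp H K hH hK hHK
  haveI := Fact.mk hp
  set π := QuotientGroup.mk' N with hπ
  have hsur : Function.Surjective π := QuotientGroup.mk'_surjective N
  have key : ∀ H : Subgroup (G ⧸ N), IsPGroup p H → ∃ P : Subgroup G, IsPGroup p P ∧ P.map π = H ∧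
      Nat.card P = p ^ (Nat.card N * Nat.card H).factorization p := by
    intro H hH
    set f := π.subgroupComap H with hf
    have hfs : Function.Surjective f := π.subgroupComap_surjective_of_surjective H hsur
    obtain ⟨Q⟩ : Nonempty (Sylow p (H.comap π)) := inferInstance
    refine ⟨(Q : Subgroup (H.comap π)).map (H.comap π).subtype, Q.2.map _, ?_, ?_⟩
    · have hQ : (Q.mapSurjective hfs : Subgroup H) = ⊤ := by
        refine (((Q.mapSurjective hfs).3 ?_ le_top)).symm
        exact hH.of_equiv Subgroup.topEquiv.symm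
      rw [Sylow.coe_mapSurjective] at hQ
      apply le_antisymm
      · rintro _ ⟨_, ⟨x, -, rfl⟩, rfl⟩
        exact x.2
      · intro h hh
        obtain ⟨x, hx, hxh⟩ : (⟨h, hh⟩ : H) ∈ (Q : Subgroup (H.comap π)).map f := hQ.ge (mem_top _)
        exact ⟨x, ⟨x, hx, rfl⟩, congrArg Subtype.val hxh⟩
    · rw [card_map_of_injective (H.comap π).subtype_injective, Q.card_eq_multiplicity]
      congr 3
      have h1 := (H.comap π).card_mul_index
      rw [index_comap_of_surjective _ hsur, ← N.card_mul_index] at h1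
      refine Nat.eq_of_mul_eq_mul_right (m := H.index) (Nat.pos_of_ne_zero FiniteIndex.index_ne_zero) ?_
      rw [h1, mul_assoc, H.card_mul_index, Subgroup.index_eq_card]
  obtain ⟨P, hP, hPH, hPc⟩ := key H hH
  obtain ⟨R, hR, hRK, hRc⟩ := key K hK
  obtain ⟨g, hg⟩ := hD p hp P R hP hR (by rw [hPc, hRc, hHK])
  refine ⟨π g, ?_⟩
  rw [← hRK, hg, ← hPH, map_map, map_map]
  congr 1

/-- Two elements of the same prime power order generate conjugate subgroups. -/
theorem conj_zpowers (hD : ConjByOrder G) {p : ℕ} (hp : p.Prime) {x y : G}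
    (hx : orderOf x = p) (hy : orderOf y = p) :
    ∃ g : G, zpowers y = (zpowers x).map (MulAut.conj g).toMonoidHom := by
  haveI := Fact.mk hp
  exact hD p hp _ _ (IsPGroup.of_card (n := 1) (by rw [Nat.card_zpowers, hx, pow_one]))
    (IsPGroup.of_card (n := 1) (by rw [Nat.card_zpowers, hy, pow_one]))
    (by rw [Nat.card_zpowers, Nat.card_zpowers, hx, hy])

/-- Conjugation carries commuting elements along. -/
theorem exists_conj_mem {p : ℕ} [Fact p.Prime] {x y g : G} (hy : orderOf y = p)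
    (hg : zpowers y = (zpowers x).map (MulAut.conj g).toMonoidHom) {a : G} (ha : Commute a x) :
    Commute (g * a * g⁻¹) y := by
  obtain ⟨x', hx', hxy⟩ := hg ▸ mem_zpowers y
  obtain ⟨k, rfl⟩ := mem_zpowers_iff.1 hx'
  rw [← hxy]
  exact (ha.zpow_right k).map (MulAut.conj g).toMonoidHom

section Elementary

variable (S : Sylow 2 G) (hS : Cfsg.IsElementaryAbelian 2 (S : Subgroup G))
include hS

theorem comm_of_mem {a b : G} (ha : a ∈ (S : Subgroup G)) (hb : b ∈ (S : Subgroup G)) : Commute a b :=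
  congrArg Subtype.val (hS.1.is_comm.comm (⟨a, ha⟩ : (S : Subgroup G)) ⟨b, hb⟩)

theorem sq_of_mem {a : G} (ha : a ∈ (S : Subgroup G)) : a * a = 1 := by
  rw [← sq]; exact hS.2 a ha

theorem invol_of_mem {a : G} (ha : a ∈ (S : Subgroup G)) (h1 : a ≠ 1) : orderOf a = 2 :=
  Invol.invol_iff.2 ⟨sq_of_mem S hS ha, h1⟩

theorem elementary_smul (g : G) : Cfsg.IsElementaryAbelian 2 ((g • S : Sylow 2 G) : Subgroup G) := by
  have hmem : ∀ a ∈ ((g • S : Sylow 2 G) : Subgroup G), ∃ s ∈ (S : Subgroup G), g * s * g⁻¹ = a := by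
    intro a ha
    rw [Sylow.coe_subgroup_smul] at ha
    obtain ⟨s, hs, rfl⟩ := ha
    exact ⟨s, hs, rfl⟩
  refine ⟨⟨⟨fun a b => Subtype.ext ?_⟩⟩, fun a ha => ?_⟩
  · obtain ⟨s, hs, hsa⟩ := hmem a a.2
    obtain ⟨s', hs', hsb⟩ := hmem b b.2
    show (a : G) * b = b * a
    rw [← hsa, ← hsb]
    exact ((comm_of_mem S hS hs hs').map (MulAut.conj g).toMonoidHom).eq
  · obtain ⟨s, hs, rfl⟩ := hmem a ha
    rw [← MulAut.conj_apply, ← map_pow, hS.2 s hs, map_one]

theorem elementary_sylow (T : Sylow 2 G) : Cfsg.IsElementaryAbelian 2 (T : Subgroup G) := by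
  haveI := Fact.mk Nat.prime_two
  obtain ⟨g, rfl⟩ := MulAction.exists_smul_eq G S T
  exact elementary_smul S hS g

/-- All involutions of an elementary Sylow `2`-subgroup are fused in its normaliser. -/
theorem invol_fused (hD : ConjByOrder G) {s t : G} (hs : s ∈ (S : Subgroup G)) (hs1 : s ≠ 1)
    (ht : t ∈ (S : Subgroup G)) (ht1 : t ≠ 1) :
    ∃ n ∈ normalizer ((S : Subgroup G) : Set G), n * s * n⁻¹ = t := by
  haveI := Fact.mk Nat.prime_two
  obtain ⟨g, hg⟩ := conj_zpowers hD Nat.prime_two (invol_of_mem S hS hs hs1) (invol_of_mem S hS ht ht1)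
  obtain ⟨n, hn, hnt⟩ := EqConj.exists_normalizer_conj S
    (A := zpowers s) (B := zpowers t)
    (fun a ha x hx => (comm_of_mem S hS hx (zpowers_le.2 hs ha)).eq)
    (fun a ha x hx => (comm_of_mem S hS hx (zpowers_le.2 ht ha)).eq) hg
  refine ⟨n, hn, ?_⟩
  have hmem : n * s * n⁻¹ ∈ zpowers t := by
    rw [hnt]; exact ⟨s, mem_zpowers s, rfl⟩
  obtain ⟨k, hk⟩ := mem_zpowers_iff.1 hmem
  rw [← zpow_mod_orderOf, invol_of_mem S hS ht ht1] at hk
  rcases Int.emod_two_eq_zero_or_one k with e | e <;>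
    rw [show ((2 : ℕ) : ℤ) = 2 from rfl, e] at hk
  · rw [zpow_zero, eq_comm, mul_inv_eq_one] at hk
    simp at hk
    exact absurd hk hs1
  · rw [← hk, zpow_one]

theorem exists_conj_into {s : G} (hs : orderOf s = 2) : ∃ g : G, g * s * g⁻¹ ∈ (S : Subgroup G) := by
  haveI := Fact.mk Nat.prime_two
  obtain ⟨g, hg⟩ := Invol.exists_conj_le_sylow
    (IsPGroup.of_card (n := 1) (by rw [Nat.card_zpowers, hs, pow_one]) : IsPGroup 2 (zpowers s)) S
  exact ⟨g, hg s (mem_zpowers s)⟩

/-- All involutions are conjugate. -/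
theorem invol_all_conj (hD : ConjByOrder G) {s t : G} (hs : orderOf s = 2) (ht : orderOf t = 2) :
    ∃ g : G, g * s * g⁻¹ = t := by
  obtain ⟨g, hg⟩ := exists_conj_into S hS hs
  obtain ⟨h, hh⟩ := exists_conj_into S hS ht
  obtain ⟨n, -, hn⟩ := invol_fused S hS hD hg (Invol.invol_ne_one (Invol.invol_conj hs g))
    hh (Invol.invol_ne_one (Invol.invol_conj ht h))
  refine ⟨h⁻¹ * n * g, ?_⟩
  calc h⁻¹ * n * g * s * (h⁻¹ * n * g)⁻¹ = h⁻¹ * (n * (g * s * g⁻¹) * n⁻¹) * h := by group
    _ = h⁻¹ * (h * t * h⁻¹) * h := by rw [hn]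
    _ = t := by group

/-- With trivial odd core and `S` not normal, the involutions generate a simple normal subgroup with
trivial centralizer. -/
theorem exists_simple_normal_of_conj
    (hall2 : ∀ s t : G, orderOf s = 2 → orderOf t = 2 → ∃ g : G, g * s * g⁻¹ = t) (hO : Cfsg.oddCore G = ⊥)
    (hn : ¬ (S : Subgroup G).Normal) :
    ∃ M : Subgroup G, M.Normal ∧ IsSimpleGroup M ∧ ¬ IsMulCommutative M ∧
      centralizer (M : Set G) = ⊥ ∧ (∀ x : G, orderOf x = 2 → x ∈ M) ∧ (S : Subgroup G) ≤ M := by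
  haveI := Fact.mk Nat.prime_two
  set M := closure {x : G | orderOf x = 2} with hM
  haveI hMn : M.Normal := by
    refine ⟨fun n hn g => ?_⟩
    have hmap : M.map (MulAut.conj g).toMonoidHom ≤ M := by
      rw [hM, MonoidHom.map_closure, closure_le]
      rintro _ ⟨t, ht, rfl⟩
      exact subset_closure (Invol.invol_conj ht g)
    exact hmap ⟨n, hn, rfl⟩
  have hinv : ∀ x : G, orderOf x = 2 → x ∈ M := fun x hx => subset_closure hx
  have hSM : (S : Subgroup G) ≤ M := fun s hs => by
    by_cases h1 : s = 1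
    · rw [h1]; exact one_mem _
    · exact hinv s (invol_of_mem S hS hs h1)
  have hodd_bot : ∀ K : Subgroup G, K.Normal → Odd (Nat.card K) → K = ⊥ := by
    intro K hK hodd
    haveI := hK
    have h := Coprime.le_pPrimeCore_of_not_dvd Nat.prime_two (N := K)
      (fun h2 => Nat.not_even_iff_odd.2 hodd (even_iff_two_dvd.2 h2))
    rwa [show Cfsg.pPrimeCore 2 G = ⊥ from hO, le_bot_iff] at h
  -- no normal `2`-subgroup
  have hno2 : ∀ K : Subgroup G, K.Normal → IsPGroup 2 K → K = ⊥ := by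
    intro K hK hK2
    by_contra hne
    haveI := hK
    have heven : Even (Nat.card K) := by
      by_contra hodd
      exact hne (hodd_bot K hK (Nat.not_even_iff_odd.1 hodd))
    obtain ⟨d, hd, hd2⟩ := Invol.exists_invol_mem heven
    have hle : M ≤ K := (closure_le _).2 fun x hx => by
      obtain ⟨g, hg⟩ := hall2 _ _ hd2 hx
      exact hg ▸ hK.conj_mem d hd g
    exact hn (S.3 (hK2.to_le hle) hSM ▸ hMn)
  have hMO : Cfsg.oddCore M = ⊥ := by
    have h := Coprime.pPrimeCore_map_subtype_eq (p := 2) Nat.prime_two M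
    rw [show Cfsg.pPrimeCore 2 G = ⊥ from hO, bot_inf_eq] at h
    exact (map_eq_bot_iff_of_injective _ M.subtype_injective).1 h
  -- a minimal normal subgroup of `M`
  have hMne : (⊤ : Subgroup M) ≠ ⊥ := by
    intro h
    obtain ⟨g, hg⟩ : ∃ g : G, g ∈ (S : Subgroup G) ∧ g ≠ 1 := by
      by_contra hc
      push Not at hc
      exact hn ((eq_bot_iff_forall _).2 hc ▸ inferInstance)
    have := h.le (mem_top (⟨g, hSM hg.1⟩ : M))
    exact hg.2 (congrArg Subtype.val (mem_bot.1 this))
  obtain ⟨K, ⟨hKn, hKne⟩, hKmin⟩ : ∃ K : Subgroup M, (K.Normal ∧ K ≠ ⊥) ∧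
      ∀ L : Subgroup M, L.Normal → L ≤ K → L = ⊥ ∨ L = K := by
    obtain ⟨K, hK, hmin⟩ := (Set.toFinite {K : Subgroup M | K.Normal ∧ K ≠ ⊥}).exists_minimal
      ⟨⊤, inferInstance, hMne⟩
    refine ⟨K, hK, fun L hL hLK => ?_⟩
    by_cases h : L = ⊥
    · exact Or.inl h
    · exact Or.inr (le_antisymm hLK (hmin ⟨hL, h⟩ hLK))
  -- conjugates of `K`
  let conjK : G → Subgroup M := fun g => K.map (MulAut.conjNormal g : MulAut M).toMonoidHom
  have hcn : ∀ g, (conjK g).Normal := fun g =>
    hKn.map _ (MulAut.conjNormal g : MulAut M).surjective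
  have hcne : ∀ g, conjK g ≠ ⊥ := fun g h => hKne
    ((map_eq_bot_iff_of_injective _ (MulAut.conjNormal g : MulAut M).injective).1 h)
  have hcmin : ∀ g, ∀ L : Subgroup M, L.Normal → L ≤ conjK g → L = ⊥ ∨ L = conjK g := by
    intro g L hL hle
    have hL' : L.map (MulAut.conjNormal g⁻¹ : MulAut M).toMonoidHom ≤ K := by
      rintro _ ⟨x, hx, rfl⟩
      obtain ⟨k, hk, rfl⟩ := hle hx
      show MulAut.conjNormal g⁻¹ (MulAut.conjNormal g k) ∈ K
      rwa [map_inv, MulAut.inv_apply_self]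
    rcases hKmin _ (hL.map _ (MulAut.conjNormal g⁻¹ : MulAut M).surjective) hL' with h | h
    · exact Or.inl ((map_eq_bot_iff_of_injective _ (MulAut.conjNormal g⁻¹ : MulAut M).injective).1 h)
    · refine Or.inr (le_antisymm hle ?_)
      rintro _ ⟨k, hk, rfl⟩
      obtain ⟨x, hx, rfl⟩ := h.ge hk
      show MulAut.conjNormal g (MulAut.conjNormal g⁻¹ x) ∈ L
      rwa [map_inv, MulAut.apply_inv_self]
  -- `K` has an involution
  have hKeven : Even (Nat.card K) := by
    by_contra hodd
    haveI := hKn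
    have h := Coprime.le_pPrimeCore_of_not_dvd Nat.prime_two (N := K)
      (fun h2 => hodd (even_iff_two_dvd.2 h2))
    rw [show Cfsg.pPrimeCore 2 M = ⊥ from hMO, le_bot_iff] at h
    exact hKne h
  obtain ⟨d, hd, hd2⟩ := Invol.exists_invol_mem hKeven
  have hd2' : orderOf (d : G) = 2 := by rwa [Subgroup.orderOf_coe]
  have hall : ∀ x : G, ∀ hx : orderOf x = 2, ∃ g, (⟨x, hinv x hx⟩ : M) ∈ conjK g := fun x hx => by
    obtain ⟨g, hg⟩ := hall2 _ _ hd2' hx
    exact ⟨g, d, hd, Subtype.ext hg⟩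
  -- `K` is not commutative
  have hKab : ∀ g, ¬ (∀ a ∈ conjK g, ∀ b ∈ conjK g, Commute a b) := by
    intro g hab
    have hcomm : ∀ a ∈ K, ∀ b ∈ K, Commute a b := by
      intro a ha b hb
      have := hab _ ⟨a, ha, rfl⟩ _ ⟨b, hb, rfl⟩
      exact (MulAut.conjNormal g : MulAut M).injective (by rw [map_mul, map_mul]; exact this.eq)
    haveI := hKn
    obtain ⟨L, hL⟩ : ∃ L : Subgroup M, L = K ⊓ Cfsg.pCore 2 M := ⟨_, rfl⟩
    haveI : IsMulCommutative K := ⟨⟨fun a b => Subtype.ext (hcomm a a.2 b b.2)⟩⟩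
    -- the involutions of `K` form a normal subgroup
    let E : Subgroup M :=
      { carrier := {x | x ∈ K ∧ x * x = 1}
        one_mem' := ⟨one_mem _, one_mul 1⟩
        mul_mem' := fun {a b} ha hb => ⟨mul_mem ha.1 hb.1, by
          rw [(hcomm b hb.1 a ha.1).mul_mul_mul_comm, ha.2, hb.2, one_mul]⟩
        inv_mem' := fun {a} ha => ⟨inv_mem ha.1, by rw [← mul_inv_rev, ha.2, inv_one]⟩ }
    have hEn : E.Normal := ⟨fun n hn g => ⟨hKn.conj_mem n hn.1 g, by
      rw [show g * n * g⁻¹ * (g * n * g⁻¹) = g * (n * n) * g⁻¹ by group, hn.2]; simp⟩⟩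
    have hE2 : IsPGroup 2 E := fun x => ⟨1, Subtype.ext (by rw [pow_one, Subgroup.coe_pow, sq]; exact x.2.2)⟩
    have hEcore : E ≤ Cfsg.pCore 2 M := Coprime.le_pCore hE2
    have hbot : (Cfsg.pCore 2 M).map M.subtype = ⊥ := by
      haveI : (Cfsg.pCore 2 M).Characteristic := Coprime.pCore_characteristic 2
      exact hno2 _ (Coprime.map_subtype_normal_of_characteristic M _)
        ((Coprime.pCore_isPGroup (G := M) 2).map _)
    have hdE : d ∈ E := ⟨hd, Invol.invol_mul_self hd2⟩
    have := (map_eq_bot_iff_of_injective _ M.subtype_injective).1 hbot ▸ hEcore hdE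
    exact Invol.invol_ne_one hd2 (mem_bot.1 this)
  -- distinct conjugates commute and meet trivially
  have hdisj : ∀ g h, conjK g ≠ conjK h → ∀ a ∈ conjK g, ∀ b ∈ conjK h, Commute a b ∧
      (a ∈ conjK h → a = 1) := by
    intro g h hne a ha b hb
    have hbot : conjK g ⊓ conjK h = ⊥ := by
      haveI := hcn g; haveI := hcn h
      rcases hcmin g (conjK g ⊓ conjK h) inferInstance inf_le_left with e | e
      · exact e
      · rcases hcmin h (conjK g) (hcn g) (e ▸ inf_le_right) with e' | e'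
        · exact absurd e' (hcne g)
        · exact absurd e' hne
    exact ⟨Subgroup.commute_of_normal_of_disjoint _ _ (hcn g) (hcn h) (disjoint_iff.2 hbot) a b ha hb,
      fun hah => mem_bot.1 (hbot ▸ (⟨ha, hah⟩ : a ∈ conjK g ⊓ conjK h))⟩
  -- all involutions of a Sylow subgroup lie in one conjugate
  have hsame : ∀ a b : M, orderOf a = 2 → orderOf b = 2 → Commute a b → ∀ g h, a ∈ conjK g →
      b ∈ conjK h → conjK g = conjK h := by
    intro a b ha hb hab g h hag hbh
    by_contra hne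
    have hne1 : a ≠ b := fun e => Invol.invol_ne_one ha ((hdisj g h hne a hag b hbh).2 (e ▸ hbh))
    have hab2 : orderOf (a * b) = 2 := Invol.invol_iff.2 ⟨by
      rw [hab.symm.mul_mul_mul_comm, Invol.invol_mul_self ha, Invol.invol_mul_self hb, one_mul],
      fun e => hne1 (by rw [mul_eq_one_iff_eq_inv, Invol.invol_inv hb] at e; exact e)⟩
    obtain ⟨k, hk⟩ := hall (a * b : M) (by rwa [Subgroup.orderOf_coe])
    have hk' : a * b ∈ conjK k := hk
    haveI := hcn g; haveI := hcn h; haveI := hcn k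
    have hmem : a * b ∈ conjK k ⊓ (conjK g ⊔ conjK h) :=
      ⟨hk', mul_mem (mem_sup_left hag) (mem_sup_right hbh)⟩
    rcases hcmin k (conjK k ⊓ (conjK g ⊔ conjK h)) inferInstance inf_le_left with e | e
    · exact Invol.invol_ne_one hab2 (mem_bot.1 (e ▸ hmem))
    have hle : conjK k ≤ conjK g ⊔ conjK h := e ▸ inf_le_right
    by_cases hkg : conjK k = conjK g
    · have : b ∈ conjK g := by
        have h1 := mul_mem (inv_mem hag) (hkg ▸ hk')
        rwa [inv_mul_cancel_left] at h1
      exact Invol.invol_ne_one hb ((hdisj h g (Ne.symm hne) b hbh a hag).2 this)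
    by_cases hkh : conjK k = conjK h
    · have : a ∈ conjK h := by
        have h1 := mul_mem (hkh ▸ hk') (inv_mem hbh)
        rwa [mul_inv_cancel_right] at h1
      exact Invol.invol_ne_one ha ((hdisj g h hne a hag b hbh).2 this)
    refine hKab k fun x hx y hy => ?_
    have hcent : conjK g ⊔ conjK h ≤ centralizer ({x} : Set M) := sup_le
      (fun z hz => mem_centralizer_singleton_iff.2 ((hdisj k g hkg x hx z hz).1).symm.eq)
      (fun z hz => mem_centralizer_singleton_iff.2 ((hdisj k h hkh x hx z hz).1).symm.eq)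
    exact ((mem_centralizer_singleton_iff.1 (hcent (hle hy))).symm : x * y = y * x)
  obtain ⟨g₀, hg₀⟩ := exists_conj_into S hS hd2'
  obtain ⟨k₀, hk₀⟩ := hall _ (Invol.invol_conj hd2' g₀)
  have hSk : ∀ (g : G), (⟨g₀ * d * g₀⁻¹, hinv _ (Invol.invol_conj hd2' g₀)⟩ : M) ∈ conjK g →
      (S : Subgroup G).subgroupOf M ≤ conjK g := by
    intro g hg s hs
    by_cases hs1 : s = 1
    · rw [hs1]; exact one_mem _
    have hso : orderOf (s : G) = 2 := invol_of_mem S hS hs (fun e => hs1 (Subtype.ext e))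
    obtain ⟨k, hk⟩ := hall _ hso
    have := hsame _ s (by rw [← Subgroup.orderOf_coe]; exact Invol.invol_conj hd2' g₀)
      (by rw [← Subgroup.orderOf_coe]; exact hso)
      (Subtype.ext (comm_of_mem S hS hg₀ hs).eq) g k hg hk
    rw [this]; exact hk
  have hSK := hSk k₀ hk₀
  -- every conjugate contains `S`
  have hfix : ∀ g, conjK g = conjK k₀ := by
    intro g
    have heq : ∀ h k, conjK (h * k) = (conjK k).map (MulAut.conjNormal h : MulAut M).toMonoidHom := by
      intro h k
      show K.map _ = (K.map _).map _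
      rw [map_map, map_mul]; rfl
    set c := g * k₀⁻¹
    have h1 : conjK g = (conjK k₀).map (MulAut.conjNormal c : MulAut M).toMonoidHom := by
      rw [← heq, inv_mul_cancel_right]
    have hSM' : ((c • S : Sylow 2 G) : Subgroup G) ≤ M := by
      intro x hx
      rw [Sylow.coe_subgroup_smul] at hx
      obtain ⟨s, hs, rfl⟩ := hx
      exact hMn.conj_mem s (hSM hs) c
    obtain ⟨l, hl⟩ := MulAction.exists_smul_eq M (S.subtype hSM) ((c • S).subtype hSM')
    have hS1 : ((c • S : Sylow 2 G) : Subgroup G).subgroupOf M ≤ conjK g := by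
      intro x hx
      rw [mem_subgroupOf, Sylow.coe_subgroup_smul] at hx
      obtain ⟨s, hs, hsx⟩ := hx
      rw [h1]
      exact ⟨⟨s, hSM hs⟩, hSK hs, Subtype.ext hsx⟩
    have hl' : ∀ s : M, s ∈ (S : Subgroup G).subgroupOf M → l * s * l⁻¹ ∈ conjK g := by
      intro s hs
      refine hS1 ?_
      have : MulAut.conj l s ∈ ((l • S.subtype hSM : Sylow 2 M) : Subgroup M) := by
        rw [Sylow.coe_subgroup_smul]
        exact ⟨s, by rwa [Sylow.coe_subtype], rfl⟩
      rw [hl, Sylow.coe_subtype] at this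
      exact this
    by_contra hne
    have hs0 : (⟨g₀ * d * g₀⁻¹, hinv _ (Invol.invol_conj hd2' g₀)⟩ : M) ∈ (S : Subgroup G).subgroupOf M :=
      hg₀
    have h2 := hl' _ hs0
    haveI := hcn g
    have h3 := (hcn g).conj_mem _ h2 l⁻¹
    rw [show ∀ a b : M, a⁻¹ * (a * b * a⁻¹) * a⁻¹⁻¹ = b from fun a b => by group] at h3
    have := (hdisj g k₀ hne _ h3 _ (one_mem _)).2 (hSK hs0)
    exact Invol.invol_ne_one (Invol.invol_conj hd2' g₀) (congrArg Subtype.val this)
  have hKtop : conjK k₀ = ⊤ := by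
    rw [eq_top_iff]
    rintro ⟨x, hx⟩ -
    have : M ≤ (conjK k₀).map M.subtype := (closure_le _).2 fun y hy => by
      obtain ⟨k, hk⟩ := hall y hy
      exact ⟨_, hfix k ▸ hk, rfl⟩
    obtain ⟨y, hy, hyx⟩ := this hx
    rwa [show (⟨x, hx⟩ : M) = y from Subtype.ext hyx.symm]
  have hnab : ¬ IsMulCommutative M := fun h => hKab k₀ fun a _ b _ => h.is_comm.comm a b
  refine ⟨M, hMn, ?_, hnab, ?_, hinv, hSM⟩
  · haveI : Nontrivial M := (Subgroup.nontrivial_iff_ne_bot (H := M)).2 fun h => hMne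
      ((eq_bot_iff_forall _).2 fun x _ => Subtype.ext ((eq_bot_iff_forall M).1 h x x.2))
    refine ⟨fun L hL => ?_⟩
    rcases hcmin k₀ L hL (hKtop ▸ le_top) with h | h
    · exact Or.inl h
    · exact Or.inr (h.trans hKtop)
  · refine hodd_bot _ ?_ ?_
    · exact Subgroup.normal_centralizer
    · rw [← Nat.not_even_iff_odd]
      intro heven
      obtain ⟨x, hx, hx2⟩ := Invol.exists_invol_mem heven
      have hcent : M ≤ centralizer (M : Set G) := (closure_le _).2 fun y hy => by
        obtain ⟨g, hg⟩ := hall2 _ _ hx2 hy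
        exact hg ▸ Subgroup.Normal.conj_mem Subgroup.normal_centralizer x hx g
      exact hnab ⟨⟨fun a b => Subtype.ext (mem_centralizer_iff.1 (hcent b.2) a a.2)⟩⟩

include hS in
/-- The same for groups in which subgroups of equal order are conjugate. -/
theorem exists_simple_normal (hD : ConjByOrder G) (hO : Cfsg.oddCore G = ⊥)
    (hn : ¬ (S : Subgroup G).Normal) :
    ∃ M : Subgroup G, M.Normal ∧ IsSimpleGroup M ∧ ¬ IsMulCommutative M ∧
      centralizer (M : Set G) = ⊥ ∧ (∀ x : G, orderOf x = 2 → x ∈ M) ∧ (S : Subgroup G) ≤ M :=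
  exists_simple_normal_of_conj S hS (fun _ _ hs ht => invol_all_conj S hS hD hs ht) hO hn

end Elementary

end CfsgLib.EqualOrder2
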