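import Cfsg.Agent.Lib.EqualOrder2.Recognition
import Cfsg.Agent.Lib.Invol.EqualOrderConj.Classify

/-!
# Groups with trivial odd core in which `p`-subgroups of equal order are conjugate
-/

set_option autoImplicit false
set_option linter.unusedSectionVars false
set_option linter.style.haveILetI false

namespace CfsgLib.EqualOrder2

open Subgroup
open CfsgLib.EqualOrder (ConjByOrder)
open CfsgLib.EqConj (oddPart oddPart_odd oddPart_conj normalizer_solvable)

universe u

variable {G : Type u} [Group G] [Finite G]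

/-- The list. -/
def Listed (G : Type u) [Group G] : Prop :=
  (IsCyclic G ∧ IsPGroup 2 G) ∨
    Nonempty (G ≃* Cfsg.affineGroup (GaloisField 2 3)) ∨
    Nonempty (G ≃* Cfsg.semiaffineGroup (GaloisField 2 3)) ∨
    Nonempty (G ≃* Cfsg.semiaffineGroup (GaloisField 2 5)) ∨
    Cfsg.IsJ1 G ∨
    Nonempty (G ≃* Matrix.ProjectiveSpecialLinearGroup (Fin 2) (GaloisField 2 3)) ∨
    Nonempty (G ≃* MulAut (Matrix.ProjectiveSpecialLinearGroup (Fin 2) (GaloisField 2 5))) ∨
    (∃ (p : ℕ) (_ : Fact p.Prime), (p % 8 = 3 ∨ p % 8 = 5) ∧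
      (Nonempty (G ≃* Matrix.ProjectiveSpecialLinearGroup (Fin 2) (ZMod p)) ∨
       Nonempty (G ≃* Matrix.ProjectiveSpecialLinearGroup (Fin 2) (GaloisField p 3)) ∨
       Nonempty (G ≃* Matrix.SpecialLinearGroup (Fin 2) (ZMod p)) ∨
       Nonempty (G ≃* Matrix.SpecialLinearGroup (Fin 2) (GaloisField p 3))))

/-- The four group case gives `PSL(2)`. -/
theorem four_listed (hD : ConjByOrder G) (hO : Cfsg.oddCore G = ⊥) (S : Sylow 2 G)
    (hS : Cfsg.IsElementaryAbelian 2 (S : Subgroup G)) (h4 : Nat.card (S : Subgroup G) = 4) :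
    ∃ (p : ℕ) (_ : Fact p.Prime), (p % 8 = 3 ∨ p % 8 = 5) ∧
      (Nonempty (G ≃* Matrix.ProjectiveSpecialLinearGroup (Fin 2) (ZMod p)) ∨
       Nonempty (G ≃* Matrix.ProjectiveSpecialLinearGroup (Fin 2) (GaloisField p 3))) := by
  rcases four_cases hD hO S hS h4 with ⟨⟨e⟩⟩ | ⟨p, hp, F, iF, iF', hp8, hq, -, -, ⟨e⟩⟩
  · haveI : Fact (Nat.Prime 3) := ⟨Nat.prime_three⟩
    obtain ⟨e3⟩ := psl_three_alt
    exact ⟨3, inferInstance, Or.inl (by norm_num), Or.inl ⟨e.trans e3⟩⟩
  · refine ⟨p, hp, hp8, ?_⟩
    haveI : CharP F p := by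
      rcases hq with h | h
      · exact charP_of_card_eq_prime_pow (f := 1) (by rw [h, pow_one])
      · exact charP_of_card_eq_prime_pow h
    rcases hq with h | h
    · obtain ⟨e'⟩ := psl_zmod (F := F) p h
      exact Or.inl ⟨e.trans e'⟩
    · obtain ⟨e'⟩ := psl_galois (F := F) p h
      exact Or.inr ⟨e.trans e'⟩

/-- Sylow `2`-subgroup quaternion of order `8`. -/
theorem quaternion_listed (hD : ConjByOrder G) (hO : Cfsg.oddCore G = ⊥) (S : Sylow 2 G)
    (e : (S : Subgroup G) ≃* QuaternionGroup 2) :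
    ∃ (p : ℕ) (_ : Fact p.Prime), (p % 8 = 3 ∨ p % 8 = 5) ∧
      (Nonempty (G ≃* Matrix.SpecialLinearGroup (Fin 2) (ZMod p)) ∨
       Nonempty (G ≃* Matrix.SpecialLinearGroup (Fin 2) (GaloisField p 3))) := by
  classical
  haveI := Fact.mk Nat.prime_two
  have hodd_bot : ∀ M : Subgroup G, M.Normal → Odd (Nat.card M) → M = ⊥ := by
    intro M hM hodd
    haveI := hM
    have h := Coprime.le_pPrimeCore_of_not_dvd Nat.prime_two (N := M)
      (fun h2 => Nat.not_even_iff_odd.2 hodd (even_iff_two_dvd.2 h2))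
    rwa [show Cfsg.pPrimeCore 2 G = ⊥ from hO, le_bot_iff] at h
  have hZ : Nat.card (center G) = 2 := Invol.card_center_eq_two S le_rfl even_two e hodd_bot
  obtain ⟨z, hz, hz2⟩ := Invol.exists_invol_mem (H := center G) (by rw [hZ]; exact even_two)
  have hS8 : Nat.card (S : Subgroup G) = 8 := by
    rw [Nat.card_congr e.toEquiv, Nat.card_eq_fintype_card, QuaternionGroup.card]
  have hzS : z ∈ (S : Subgroup G) := by
    obtain ⟨g, hg⟩ := Invol.exists_conj_le_sylow
      (IsPGroup.of_card (n := 1) (by rw [Nat.card_zpowers, hz2, pow_one]) : IsPGroup 2 (zpowers z)) S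
    have := hg z (mem_zpowers z)
    rwa [mem_center_iff.1 hz g, mul_inv_cancel_right] at this
  have hz' : e ⟨z, hzS⟩ * e ⟨z, hzS⟩ = 1 ∧ e ⟨z, hzS⟩ ≠ 1 := by
    refine ⟨?_, fun h => Invol.invol_ne_one hz2
      (congrArg Subtype.val (e.injective (h.trans (map_one e).symm)))⟩
    rw [← map_mul, show (⟨z, hzS⟩ : (S : Subgroup G)) * ⟨z, hzS⟩ = 1 from
      Subtype.ext (Invol.invol_mul_self hz2), map_one]
  have huniq : ∀ x : G, orderOf x = 2 → x = z := by
    intro x hx
    obtain ⟨g, hg⟩ := Invol.exists_conj_le_sylow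
      (IsPGroup.of_card (n := 1) (by rw [Nat.card_zpowers, hx, pow_one]) : IsPGroup 2 (zpowers x)) S
    have hxS := hg x (mem_zpowers x)
    have hxo := Invol.invol_conj hx g
    have hq := EqConj.q8_unique (e ⟨_, hxS⟩) (e ⟨z, hzS⟩)
      (by rw [← map_mul, show (⟨_, hxS⟩ : (S : Subgroup G)) * ⟨_, hxS⟩ = 1 from
        Subtype.ext (Invol.invol_mul_self hxo), map_one])
      (fun h => Invol.invol_ne_one hxo
        (congrArg Subtype.val (e.injective (h.trans (map_one e).symm)))) hz'.1 hz'.2
    have h1 : g * x * g⁻¹ = z := congrArg Subtype.val (e.injective hq)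
    calc x = g⁻¹ * (g * x * g⁻¹) * g := by group
      _ = g⁻¹ * (z * g) := by rw [h1, mul_assoc]
      _ = z := by rw [← mem_center_iff.1 hz g, inv_mul_cancel_left]
  have hzZ : zpowers z = center G :=
    eq_of_le_of_card_ge (zpowers_le.2 hz) (by rw [Nat.card_zpowers, hz2, hZ])
  have hZS : center G ≤ (S : Subgroup G) := hzZ ▸ zpowers_le.2 hzS
  set mk := QuotientGroup.mk' (center G)
  have hmk : Function.Surjective mk := QuotientGroup.mk'_surjective _
  have hker : mk.ker = center G := QuotientGroup.ker_mk' _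
  set T := S.mapSurjective hmk with hT
  have hTc : (T : Subgroup (G ⧸ center G)) = (S : Subgroup G).map mk := Sylow.coe_mapSurjective hmk S
  have hGc := Subgroup.card_eq_card_quotient_mul_card_subgroup (center G)
  rw [hZ] at hGc
  have hT4 : Nat.card (T : Subgroup (G ⧸ center G)) = 4 := by
    rw [hTc]
    refine Nat.eq_of_mul_eq_mul_right (m := (S : Subgroup G).index)
      (Nat.pos_of_ne_zero FiniteIndex.index_ne_zero) ?_
    have h1 := ((S : Subgroup G).map mk).card_mul_index
    rw [index_map_eq _ hmk (hker.trans_le hZS)] at h1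
    have h2 := (S : Subgroup G).card_mul_index
    rw [hS8] at h2
    omega
  have hTsq : ∀ x ∈ (T : Subgroup (G ⧸ center G)), x * x = 1 := by
    intro x hx
    rw [hTc] at hx
    obtain ⟨y, hy, rfl⟩ := hx
    rw [← map_mul, ← MonoidHom.mem_ker, hker]
    rcases EqConj.q8_sq (e ⟨y, hy⟩) (e ⟨z, hzS⟩) hz'.1 hz'.2 with h | h
    · rw [← map_mul, MulEquiv.map_eq_one_iff] at h
      rw [show y * y = 1 from congrArg Subtype.val h]
      exact one_mem _
    · rw [← map_mul] at h
      rw [show y * y = z from congrArg Subtype.val (e.injective h)]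
      exact hz
  have hTS : Cfsg.IsElementaryAbelian 2 (T : Subgroup (G ⧸ center G)) := by
    refine ⟨⟨⟨fun a b => Subtype.ext ?_⟩⟩, fun a ha => by rw [sq]; exact hTsq a ha⟩
    show (a : G ⧸ center G) * b = b * a
    have h := hTsq _ (mul_mem a.2 b.2)
    rw [mul_eq_one_iff_eq_inv, mul_inv_rev, inv_eq_of_mul_eq_one_right (hTsq _ a.2),
      inv_eq_of_mul_eq_one_right (hTsq _ b.2)] at h
    exact h
  have hGq := quotient hD (center G)
  have hOq : Cfsg.oddCore (G ⧸ center G) = ⊥ := GW.oddCore_quotient_central hO (center G) hZ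
  rcases four_cases hGq hOq T hTS hT4 with ⟨⟨eA⟩⟩ | ⟨p, hp, F, iF, iF', hp8, hq, h5, hodd, ⟨eP⟩⟩
  · haveI : Fact (Nat.Prime 3) := ⟨Nat.prime_three⟩
    refine ⟨3, inferInstance, Or.inl (by norm_num), Or.inl ?_⟩
    have hQ12 : Nat.card (G ⧸ center G) = 12 := by
      have h := two_mul_nat_card_alternatingGroup (α := Fin 4)
      rw [← Nat.card_congr eA.toEquiv, Nat.card_perm, Nat.card_fin,
        show Nat.factorial 4 = 24 by decide] at h
      omega
    have h24 : Nat.card G = 24 := by omega
    haveI hTn : (T : Subgroup (G ⧸ center G)).Normal := by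
      -- the four subgroup is the kernel of the action on the three Sylow subgroups
      have hTi : (T : Subgroup (G ⧸ center G)).index = 3 := by
        have h := (T : Subgroup (G ⧸ center G)).card_mul_index
        rw [hT4, hQ12] at h; omega
      by_contra hn
      haveI : Group.IsSolvable (alternatingGroup (Fin 4)) := Perm.Dickson.solvable_of_card_dvd_24 (by
        rw [← Nat.card_congr eA.toEquiv, hQ12]; norm_num)
      obtain ⟨M, -, hMs, hMab, -⟩ := exists_simple_normal T hTS hGq hOq hn
      haveI := hMs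
      haveI : Group.IsSolvable (G ⧸ center G) :=
        Group.isSolvable_of_surjective (f := eA.symm.toMonoidHom) eA.symm.surjective
      exact hMab ⟨⟨fun a b => IsSimpleGroup.comm_iff_isSolvable.2 inferInstance a b⟩⟩
    haveI : (S : Subgroup G).Normal := by
      have h : ((S : Subgroup G).map mk).comap mk = (S : Subgroup G) :=
        comap_map_eq_self (hker.trans_le hZS)
      rw [← h, ← hTc]
      exact hTn.comap mk
    obtain ⟨t, ht⟩ := exists_prime_orderOf_dvd_card' (G := G) 3 (by rw [h24]; norm_num)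
    refine Char.mulEquiv_SL23_of_order_24 h24 (fun x y hx hy => (huniq x hx).trans (huniq y hy).symm)
      (S : Subgroup G) hS8 ?_ ht ?_
    · obtain ⟨a, b, hab⟩ := EqConj.q8_nonab
      refine ⟨e.symm a, (e.symm a).2, e.symm b, (e.symm b).2, fun h => hab ?_⟩
      refine e.symm.injective ?_
      rw [map_mul, map_mul]
      exact Subtype.ext h
    · by_contra hc
      push Not at hc
      have hle : (S : Subgroup G) ⊔ zpowers t ≤ centralizer ({t} : Set G) := sup_le
        (fun a ha => mem_centralizer_singleton_iff.2 (hc a ha).symm)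
        (zpowers_le.2 (mem_centralizer_singleton_iff.2 rfl))
      have htop : centralizer ({t} : Set G) = ⊤ := by
        refine eq_top_of_card_eq _ (Nat.dvd_antisymm (card_subgroup_dvd_card _) ?_)
        rw [h24, show (24 : ℕ) = 8 * 3 by norm_num]
        refine Nat.Coprime.mul_dvd_of_dvd_of_dvd (by norm_num)
          (hS8 ▸ card_dvd_of_le (le_sup_left.trans hle)) ?_
        rw [← ht, ← Nat.card_zpowers]
        exact card_dvd_of_le (le_sup_right.trans hle)
      have hn' : (zpowers t).Normal := ⟨fun x hx g => by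
        obtain ⟨k, rfl⟩ := mem_zpowers_iff.1 hx
        have hg : g * t = t * g := mem_centralizer_singleton_iff.1
          (htop ▸ mem_top g : g ∈ centralizer ({t} : Set G))
        rw [((show Commute g t from hg).zpow_right k).eq, mul_inv_cancel_right]
        exact zpow_mem (mem_zpowers t) k⟩
      have h := hodd_bot _ hn' (by rw [Nat.card_zpowers, ht]; decide)
      rw [← Subgroup.card_eq_one, Nat.card_zpowers, ht] at h
      norm_num at h
  · refine ⟨p, hp, hp8, ?_⟩
    set π := eP.toMonoidHom.comp mk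
    have hπ : Function.Surjective π := eP.surjective.comp hmk
    have hπk : π.ker = center G := by
      rw [← hker]
      ext x
      simp [π, MonoidHom.mem_ker]
    haveI : IsSimpleGroup (Matrix.ProjectiveSpecialLinearGroup (Fin 2) F) :=
      (Perm.Dickson.psl_simple_noncomm (F := F) (by rw [Nat.card_eq_fintype_card]; omega)).1
    haveI : Group.IsPerfect G := by
      rw [Group.isPerfect_def]
      have hmap : (commutator G).map π = ⊤ := by
        rw [_root_.commutator_def, map_commutator, map_top_of_surjective π hπ]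
        rcases (Subgroup.commutator_normal (⊤ : Subgroup (Matrix.ProjectiveSpecialLinearGroup (Fin 2) F))
          (⊤ : Subgroup _)).eq_bot_or_eq_top with h | h
        · exfalso
          refine (Perm.Dickson.psl_simple_noncomm (F := F) (by rw [Nat.card_eq_fintype_card]; omega)).2
            ⟨⟨fun a b => ?_⟩⟩
          exact mem_centralizer_iff.1 ((commutator_eq_bot_iff_le_centralizer.1 h) (mem_top b)) a (mem_top a)
        · exact h
      have hzD : z ∈ commutator G := by
        have hd : Nat.card ((commutator G).map π) ∣ Nat.card (commutator G) := card_map_dvd _ _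
        rw [hmap, card_top, ← Nat.card_congr eP.toEquiv] at hd
        have h2 : 2 ∣ Nat.card (G ⧸ center G) :=
          dvd_trans (by norm_num) (hT4 ▸ card_subgroup_dvd_card (T : Subgroup (G ⧸ center G)))
        obtain ⟨d, hd', hd2⟩ := Invol.exists_invol_mem (H := commutator G)
          (even_iff_two_dvd.2 (h2.trans hd))
        rwa [← huniq d hd2]
      refine eq_top_iff.2 fun x _ => ?_
      obtain ⟨y, hy, hyx⟩ := hmap.ge (mem_top (π x))
      have hyx' : y⁻¹ * x ∈ center G := by
        rw [← hπk, MonoidHom.mem_ker, map_mul, map_inv, hyx, inv_mul_cancel]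
      have := mul_mem hy (((hzZ ▸ zpowers_le.2 hzD : center G ≤ commutator G)) hyx')
      rwa [mul_inv_cancel_left] at this
    obtain ⟨eS⟩ := GW.equiv_sl2_of_cover (F := F) hodd (by omega) π hπ hπk.le (by rw [hπk, hZ])
    haveI : CharP F p := by
      rcases hq with h | h
      · exact charP_of_card_eq_prime_pow (f := 1) (by rw [h, pow_one])
      · exact charP_of_card_eq_prime_pow h
    rcases hq with h | h
    · obtain ⟨e'⟩ := sl_congr (ZMod.ringEquiv F h).symm
      exact Or.inl ⟨eS.trans e'⟩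
    · haveI := Fintype.ofFinite (GaloisField p 3)
      obtain ⟨e'⟩ := sl_congr (FiniteField.ringEquivOfCardEq (K := F) (K' := GaloisField p 3) (by
        rw [h, ← Nat.card_eq_fintype_card, GaloisField.card p 3 (by norm_num)]))
      exact Or.inr ⟨eS.trans e'⟩

/-- The classification, given the case of a non-solvable involution centraliser. -/
theorem classify
    (hJ : ∀ (S : Sylow 2 G) (t : G), Cfsg.IsElementaryAbelian 2 (S : Subgroup G) →
      Nat.card (S : Subgroup G) = 8 → orderOf t = 2 →
      ¬ Group.IsSolvable ↥(centralizer ({t} : Set G)) → Cfsg.IsJ1 G)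
    (hD : ConjByOrder G) (hO : Cfsg.oddCore G = ⊥) : Listed G := by
  classical
  haveI := Fact.mk Nat.prime_two
  obtain ⟨S⟩ : Nonempty (Sylow 2 G) := inferInstance
  rcases Cfsg.Agent.S4020.result hD S with h | h | ⟨⟨e⟩⟩
  · exact Or.inl (EqConj.cyclic_case hO S h)
  swap
  · obtain ⟨p, hp, hp8, h⟩ := quaternion_listed hD hO S e
    exact Or.inr <| Or.inr <| Or.inr <| Or.inr <| Or.inr <| Or.inr <| Or.inr
      ⟨p, hp, hp8, h.elim (fun h => Or.inr (Or.inr (Or.inl h))) fun h => Or.inr (Or.inr (Or.inr h))⟩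
  obtain ⟨r, hr⟩ := S.2.exists_card_eq
  rcases (show r = 0 ∨ r = 1 ∨ r = 2 ∨ 3 ≤ r by omega) with rfl | rfl | rfl | h3
  · refine Or.inl (EqConj.cyclic_case hO S ?_)
    haveI : Subsingleton (S : Subgroup G) :=
      Finite.card_le_one_iff_subsingleton.1 (by rw [hr, pow_zero])
    exact isCyclic_of_subsingleton
  · refine Or.inl (EqConj.cyclic_case hO S ?_)
    exact isCyclic_of_prime_card (p := 2) (by rw [hr, pow_one])
  · obtain ⟨p, hp, hp8, h⟩ := four_listed hD hO S h hr
    exact Or.inr <| Or.inr <| Or.inr <| Or.inr <| Or.inr <| Or.inr <| Or.inr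
      ⟨p, hp, hp8, h.elim Or.inl fun h => Or.inr (Or.inl h)⟩
  haveI := normalizer_solvable S h
  have hN25 := Cfsg.Agent.S4025.result (fun H K hH hK hc => hD 2 Nat.prime_two H K hH hK hc) S r h3 h hr _ rfl
    inferInstance
  set N := normalizer ((S : Subgroup G) : Set G) with hNdef
  by_cases hn : (S : Subgroup G).Normal
  · have htop : N = ⊤ := normalizer_eq_top_iff.2 hn
    have hW : Cfsg.pPrimeCore 2 N = ⊥ := by
      haveI : (oddPart S).Normal := ⟨fun w hw g => oddPart_conj S (htop.ge (mem_top g)) hw⟩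
      have h := Coprime.le_pPrimeCore_of_not_dvd Nat.prime_two (N := oddPart S)
        (fun h2 => Nat.not_even_iff_odd.2 (oddPart_odd S) (even_iff_two_dvd.2 h2))
      rw [show Cfsg.pPrimeCore 2 G = ⊥ from hO, le_bot_iff] at h
      exact (map_eq_bot_iff_of_injective _ N.subtype_injective).1 h
    have eN : G ≃* N ⧸ Cfsg.pPrimeCore 2 N :=
      (topEquiv.symm.trans (MulEquiv.subgroupCongr htop.symm)).trans
        ((QuotientGroup.quotientMulEquivOfEq hW).trans QuotientGroup.quotientBot).symm
    rcases hN25 with ⟨-, -, h⟩ | ⟨-, -, ⟨e⟩⟩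
    · rcases h rfl with ⟨⟨e⟩⟩ | ⟨⟨e⟩⟩
      · exact Or.inr <| Or.inr <| Or.inl ⟨eN.trans e⟩
      · exact Or.inr <| Or.inl ⟨eN.trans e⟩
    · exact Or.inr <| Or.inr <| Or.inr <| Or.inl ⟨eN.trans e⟩
  by_cases hsolv : ∀ t : G, orderOf t = 2 → Group.IsSolvable (centralizer ({t} : Set G))
  swap
  · push Not at hsolv
    obtain ⟨t, ht, hns⟩ := hsolv
    rcases hN25 with ⟨hr3, -, -⟩ | ⟨hr5, -, ⟨e⟩⟩
    · exact Or.inr <| Or.inr <| Or.inr <| Or.inr <| Or.inl
        (hJ S t h (by rw [hr, hr3]; norm_num) ht hns)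
    · exfalso
      have hcard : Nat.card N = Nat.card (oddPart S) * 4960 := by
        rw [Subgroup.card_eq_card_quotient_mul_card_subgroup (Cfsg.pPrimeCore 2 N), Nat.card_congr e.toEquiv,
          EqConj.card_semiaffine_galois (by norm_num),
          show Nat.card (oddPart S) = Nat.card (Cfsg.pPrimeCore 2 N) from card_map_of_injective N.subtype_injective]
        norm_num
        exact mul_comm _ _
      obtain ⟨g, hg⟩ := exists_conj_into S h ht
      haveI := solvable_cent_five S h hD (by rw [hr, hr5]; norm_num) hcard hg (Invol.invol_conj ht g)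
      refine hns (Group.isSolvable_of_isSolvable_injective
        (f := MonoidHom.codRestrict ((MulAut.conj g).toMonoidHom.comp (centralizer ({t} : Set G)).subtype)
          (centralizer ({g * t * g⁻¹} : Set G)) fun x => ?_) fun a b h => ?_)
      · exact mem_centralizer_singleton_iff.2
          ((show Commute (x : G) t from mem_centralizer_singleton_iff.1 x.2).map (MulAut.conj g).toMonoidHom).eq
      · exact Subtype.ext ((MulAut.conj g).injective (congrArg Subtype.val h))
  obtain ⟨F, iF, iF', hF, M, hM, ⟨e⟩, hC, hSM, hodd⟩ := psl_socle hD hO S h hn hsolv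
  haveI := hM
  have hsc := socle_card S h M hSM e hr
  rcases hF with ⟨h8, -⟩ | ⟨n, -, hn2⟩
  · have := hsc.2 (Nat.odd_iff.2 (by omega))
    omega
  obtain rfl := hsc.1 n hn2
  rcases hN25 with ⟨hr3, -, -⟩ | ⟨hr5, -, ⟨e5⟩⟩
  · subst hr3
    haveI := Fintype.ofFinite (GaloisField 2 3)
    obtain ⟨e'⟩ := CIT.psl_congr (FiniteField.ringEquivOfCardEq (K := F) (K' := GaloisField 2 3)
      (by rw [hn2, ← Nat.card_eq_fintype_card, GaloisField.card 2 3 (by norm_num)]))
    have htop := even_three M e hC hodd hD hn2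
    exact Or.inr <| Or.inr <| Or.inr <| Or.inr <| Or.inr <| Or.inl
      ⟨((topEquiv.symm.trans (MulEquiv.subgroupCongr htop.symm)).trans e).trans e'⟩
  · subst hr5
    haveI := Fintype.ofFinite (GaloisField 2 5)
    have h5 : 5 ∣ Nat.card G := by
      refine dvd_trans ?_ (card_subgroup_dvd_card N)
      rw [Subgroup.card_eq_card_quotient_mul_card_subgroup (Cfsg.pPrimeCore 2 N), Nat.card_congr e5.toEquiv,
        EqConj.card_semiaffine_galois (by norm_num)]
      exact dvd_mul_of_dvd_left (dvd_mul_left 5 _) _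
    obtain ⟨e'⟩ := CIT.psl_congr (FiniteField.ringEquivOfCardEq (K := F) (K' := GaloisField 2 5)
      (by rw [hn2, ← Nat.card_eq_fintype_card, GaloisField.card 2 5 (by norm_num)]))
    obtain ⟨eA⟩ := even_five M e hC hodd hn2 h5
    exact Or.inr <| Or.inr <| Or.inr <| Or.inr <| Or.inr <| Or.inr <| Or.inl
      ⟨eA.trans (MulAut.congr e')⟩

end CfsgLib.EqualOrder2
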