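import Cfsg.Agent.Lib.EqualOrder2.Balance
import Cfsg.Agent.S0217
import Cfsg.Agent.S0223
import Cfsg.Agent.S1221

/-!
# The involution centralizers have trivial odd core

The completion `W` of `t ↦ O(C(t))` on `S` is normalized by every `C(t)`, so its normalizer is
strongly embedded and `W = 1`.
-/

set_option autoImplicit false
set_option linter.unusedSectionVars false
set_option linter.style.haveILetI false

namespace CfsgLib.EqualOrder2

open Subgroup
open CfsgLib.EqualOrder (ConjByOrder)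

universe u

variable {G : Type u} [Group G] [Finite G]

/-- The `l`-subgroups, `l` odd, are commutative. -/
theorem comm_of_pgroup (hD : ConjByOrder G) {l : ℕ} [hl : Fact l.Prime] (hl2 : l ≠ 2) {P : Subgroup G}
    (hP : IsPGroup l P) : ∀ a ∈ P, ∀ b ∈ P, Commute a b := by
  obtain ⟨Q, hQ⟩ := hP.exists_le_sylow
  have hab : ∀ a b : Q, a * b = b * a := by
    rcases Cfsg.Agent.S4020.result (fun p hp => hD p hp) Q with hc | hel | ⟨⟨e⟩⟩
    · letI := hc.commGroup; exact mul_comm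
    · exact hel.1.is_comm.comm
    · exfalso
      obtain ⟨i, hi⟩ := Q.2.exists_card_eq
      rw [Nat.card_congr e.toEquiv, Nat.card_eq_fintype_card, QuaternionGroup.card] at hi
      rcases Nat.eq_zero_or_pos i with rfl | hi0
      · norm_num at hi
      · have : l ∣ 2 ^ 3 := (dvd_pow_self l hi0.ne').trans (by rw [← hi]; norm_num)
        exact hl2 ((Nat.prime_dvd_prime_iff_eq hl.out Nat.prime_two).1 (hl.out.dvd_of_dvd_pow this))
  intro a ha b hb
  exact congrArg Subtype.val (hab ⟨a, hQ ha⟩ ⟨b, hQ hb⟩)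

theorem orderOf_conj_eq (g x : G) : orderOf (g * x * g⁻¹) = orderOf x := by
  rw [← MulAut.conj_apply, MulEquiv.orderOf_eq]

/-- An element of odd order of a two-nilpotent group with `2`-part at most two lies in the odd core. -/
theorem mem_oddCore_of_odd {X : Type u} [Group X] [Finite X] (h : ¬ 4 ∣ Nat.card X) {x : X}
    (hx : Odd (orderOf x)) : x ∈ Cfsg.oddCore X := by
  haveI := Fact.mk Nat.prime_two
  obtain ⟨P⟩ : Nonempty (Sylow 2 X) := inferInstance
  obtain ⟨k, hk⟩ := P.2.exists_card_eq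
  have hP : IsCyclic (P : Subgroup X) := by
    rcases (show k = 0 ∨ k = 1 ∨ 2 ≤ k by omega) with rfl | rfl | h2
    · haveI : Subsingleton (P : Subgroup X) :=
        Finite.card_le_one_iff_subsingleton.1 (by rw [hk, pow_zero])
      exact isCyclic_of_subsingleton
    · exact isCyclic_of_prime_card (p := 2) (by rw [hk, pow_one])
    · exact absurd (((pow_dvd_pow 2 h2).trans (hk ▸ card_subgroup_dvd_card _)) : 2 ^ 2 ∣ Nat.card X) h
  obtain ⟨P', J, hJ, hJP⟩ := Invol.hasNormalPComplement_two_of_isCyclic P hP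
  haveI := hJ
  have hJle : J ≤ Cfsg.oddCore X := Coprime.le_pPrimeCore_of_not_dvd Nat.prime_two
    (by rw [← hJP.index_eq_card]; exact P'.not_dvd_index)
  obtain ⟨j, hj⟩ := P'.2.exists_card_eq
  have hidx : J.index = 2 ^ j := by rw [← hj]; exact hJP.symm.index_eq_card
  have h1 : (QuotientGroup.mk' J x) ^ 2 ^ j = 1 := by
    rw [← hidx, Subgroup.index_eq_card, pow_card_eq_one']
  have h2 : QuotientGroup.mk' J x = 1 :=
    Invol.eq_one_of_odd_of_pow_two (hx.of_dvd_nat (orderOf_map_dvd _ x)) h1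
  exact hJle ((QuotientGroup.eq_one_iff x).1 h2)

namespace Ctx

variable (C : Ctx G)

/-- The completion. -/
def W : Subgroup G := ⨆ a : {a : G // a ∈ (C.S : Subgroup G) ∧ a ≠ 1}, core (a : G)

theorem W_spec : ¬ 2 ∣ Nat.card C.W ∧
    ∀ a ∈ (C.S : Subgroup G), a ≠ 1 → C.W ⊓ centralizer {a} = core a := by
  haveI := Fact.mk Nat.prime_two
  refine Cfsg.Agent.S0217.result (C.S : Subgroup G) (fun a ha b hb => (comm_of_mem C.S C.hS ha hb).eq)
    (fun a ha => C.hS.2 a ha) (by rw [C.h8]; norm_num) core (fun a _ _ => core_le a)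
    (fun a _ _ h => Nat.not_even_iff_odd.2 (core_odd a) (even_iff_two_dvd.2 h))
    (fun a ha _ b hb x hx => core_conj_cent (C.S_le_cent ha hb) hx)
    (fun a _ _ => FT.isSolvable_of_odd _ (core_odd a))
    (fun a ha ha1 b hb hb1 => C.balance hb hb1 ha ha1)

theorem core_le_W {a : G} (ha : a ∈ (C.S : Subgroup G)) (ha1 : a ≠ 1) : core a ≤ C.W :=
  le_iSup (fun a : {a : G // a ∈ (C.S : Subgroup G) ∧ a ≠ 1} => core (a : G)) ⟨a, ha, ha1⟩

theorem W_odd : Odd (Nat.card C.W) :=
  Nat.not_even_iff_odd.1 fun h => C.W_spec.1 (even_iff_two_dvd.1 h)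

theorem cop_S {H : Subgroup G} (h : Odd (Nat.card H)) :
    (Nat.card (C.S : Subgroup G)).Coprime (Nat.card H) := by
  rw [C.h8, show 8 = 2 ^ 3 by norm_num]
  exact Nat.Coprime.pow_left 3 ((Nat.prime_two.coprime_iff_not_dvd).2
    fun h2 => Nat.not_even_iff_odd.2 h (even_iff_two_dvd.2 h2))

theorem S_solvable : Group.IsSolvable (C.S : Subgroup G) := Coprime.isSolvable_of_isMulCommutative C.hS.1

theorem normalizer_le_W : normalizer ((C.S : Subgroup G) : Set G) ≤ normalizer (C.W : Set G) := by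
  intro n hn
  refine Invol.mem_normalizer_of_conj_map_eq (eq_of_le_of_card_ge ?_
    (card_map_of_injective (MulAut.conj n).injective).ge)
  rw [W, Subgroup.map_iSup]
  refine iSup_le fun a => ?_
  rintro _ ⟨x, hx, rfl⟩
  exact C.core_le_W ((mem_normalizer_iff.1 hn _).1 a.2.1) (fun h => a.2.2 (by simpa using h))
    (C.core_conj a.2.1 hx)

theorem S_le_normalizer_W : (C.S : Subgroup G) ≤ normalizer (C.W : Set G) :=
  le_normalizer.trans C.normalizer_le_W

/-- Every Sylow subgroup of the completion is normalized by `C(t)` modulo `O(C(t))`. -/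
theorem exists_sylow_normalized {t : G} (ht : t ∈ (C.S : Subgroup G)) (ht1 : t ≠ 1) {l : ℕ}
    (hl : l.Prime) (hlW : l ∣ Nat.card C.W) :
    ∃ R : Subgroup G, Coprime.IsSylowIn l R C.W ∧
      ∀ g ∈ centralizer ({t} : Set G), ∃ o ∈ core t, o⁻¹ * g ∈ normalizer (R : Set G) := by
  classical
  haveI := Fact.mk hl
  haveI := Fact.mk Nat.prime_two
  have hl2 : l ≠ 2 := by rintro rfl; exact C.W_spec.1 hlW
  have hSW := C.S_le_normalizer_W
  have hsol := C.S_solvable
  have hcopW := C.cop_S C.W_odd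
  have ht2 := C.invol_mem ht ht1
  obtain ⟨R, hR, hSR⟩ := Coprime.exists_invariant_sylow hSW hcopW (Or.inl hsol) l
  refine ⟨R, hR, ?_⟩
  set Ct := centralizer ({t} : Set G) with hCt
  set R₀ := R ⊓ Ct with hR₀def
  have hRp : IsPGroup l R := hR.isPGroup
  have hRab := comm_of_pgroup C.hD hl2 hRp
  have hRodd : Odd (Nat.card R) := C.W_odd.of_dvd_nat (card_dvd_of_le hR.1)
  have hR₀c : R₀ ≤ core t := fun x hx => (C.W_spec.2 t ht ht1).le ⟨hR.1 hx.1, hx.2⟩
  -- `R₀` is a Sylow subgroup of the core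
  have hR₀ : Coprime.IsSylowIn l R₀ (core t) := by
    refine ⟨hR₀c, ?_⟩
    have hSc : (C.S : Subgroup G) ≤ normalizer (core t : Set G) := fun r hr => by
      refine mem_normalizer_iff.2 fun x => ⟨fun hx => core_conj_cent (C.S_le_cent ht hr) hx, fun h => ?_⟩
      have h' := core_conj_cent (inv_mem (C.S_le_cent ht hr)) h
      rwa [show r⁻¹ * (r * x * r⁻¹) * r⁻¹⁻¹ = x by group] at h'
    obtain ⟨U, hU, hSU⟩ := Coprime.exists_invariant_sylow hSc (C.cop_S (core_odd t)) (Or.inl hsol) l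
    obtain ⟨R', hR', hUR', hSR'⟩ := Coprime.le_invariant_sylow hSW hcopW (Or.inl hsol)
      (hU.1.trans (C.core_le_W ht ht1)) hU.isPGroup hSU
    obtain ⟨c, hc, hcR⟩ := Coprime.invariant_sylow_conj hSW hcopW (Or.inl hsol) hR' hR hSR' hSR
    have hcC : c ∈ Ct := mem_centralizer_singleton_iff.2 (mem_centralizer_iff.1 hc.2 t ht).symm
    have hle : Coprime.conjBy c U ≤ R₀ := le_inf ((map_mono hUR').trans hcR.le) (by
      rintro _ ⟨u, hu, rfl⟩
      exact conj_mem_self Ct hcC (core_le t (hU.1 hu)))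
    refine le_antisymm ?_ ?_
    · obtain ⟨j, hj⟩ := (hRp.to_le (inf_le_left : R₀ ≤ R)).exists_card_eq
      rw [hj]
      exact Nat.pow_le_pow_right hl.pos ((hl.pow_dvd_iff_le_factorization Nat.card_pos.ne').1
        (hj ▸ card_dvd_of_le hR₀c))
    · rw [← hU.2, ← Coprime.card_conjBy c U]
      exact Nat.le_of_dvd Nat.card_pos (card_dvd_of_le hle)
  -- Frattini
  have hfr : ∀ g ∈ Ct, ∃ o ∈ core t, ∃ n ∈ Ct, n ∈ normalizer (R₀ : Set G) ∧ g = o * n := by
    intro g hg
    have hgN : g ∈ normalizer (core t : Set G) := by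
      refine mem_normalizer_iff.2 fun x => ⟨fun hx => core_conj_cent hg hx, fun h => ?_⟩
      have h' := core_conj_cent (inv_mem hg) h
      rwa [show g⁻¹ * (g * x * g⁻¹) * g⁻¹⁻¹ = x by group] at h'
    obtain ⟨o, ho, hoR⟩ := (hR₀.conjBy hgN).exists_conj hR₀
    refine ⟨o⁻¹, inv_mem ho, o * g, mul_mem (core_le t ho) hg, ?_, by group⟩
    rw [← Coprime.conjBy_eq_self_iff, ← Coprime.conjBy_conjBy]
    exact hoR
  set L := C.loc t ht2
  haveI := L.simple
  set Z := centralizer (R₀ : Set G) ⊓ Ct with hZ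
  let V : Subgroup (Matrix.ProjectiveSpecialLinearGroup (Fin 2) L.F) :=
    ((Z.subgroupOf Ct).map L.φ).comap MulAut.conj
  have hZn : ∀ n ∈ Ct, n ∈ normalizer (R₀ : Set G) → ∀ z ∈ Z, n * z * n⁻¹ ∈ Z := by
    intro n hnC hn z hz
    refine ⟨mem_centralizer_iff.2 fun r hr => ?_, conj_mem_self Ct hnC hz.2⟩
    have h := mem_centralizer_iff.1 hz.1 (n⁻¹ * r * n) (by
      have := (mem_normalizer_iff.1 (inv_mem hn) r).1 hr
      rwa [inv_inv] at this)
    calc r * (n * z * n⁻¹) = n * ((n⁻¹ * r * n) * z) * n⁻¹ := by group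
      _ = n * (z * (n⁻¹ * r * n)) * n⁻¹ := by rw [h]
      _ = n * z * n⁻¹ * r := by group
  have hlift : ∀ k, ∃ n : Ct, (n : G) ∈ normalizer (R₀ : Set G) ∧ L.φ n = MulAut.conj k := by
    intro k
    obtain ⟨y, hy⟩ := L.inn k
    obtain ⟨o, ho, n, hnC, hn, e⟩ := hfr y y.2
    refine ⟨⟨n, hnC⟩, hn, ?_⟩
    rw [← hy, show y = ⟨o, core_le t ho⟩ * ⟨n, hnC⟩ from Subtype.ext e, map_mul,
      L.phi_core (x := ⟨o, core_le t ho⟩) ho, one_mul]
  have hVn : V.Normal := by
    refine ⟨fun w hw g => ?_⟩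
    obtain ⟨z, hz, hzw⟩ := hw
    obtain ⟨n, hn, hng⟩ := hlift g
    refine ⟨n * z * n⁻¹, hZn n n.2 hn z hz, ?_⟩
    rw [map_mul, map_mul, map_inv, hng, hzw, map_mul, map_mul, map_inv]
  -- conclude from an invariant subgroup
  rcases hVn.eq_bot_or_eq_top with hV | hV
  swap
  · -- `S` centralizes `R₀`, so `R = R₀`
    have hS₀ : ∀ r ∈ R₀, ∀ s ∈ (C.S : Subgroup G), Commute s r := by
      intro r hr s hs
      have hsC : s ∈ Ct := C.S_le_cent ht hs
      obtain ⟨k, hk⟩ := L.invol_inner ⟨s, hsC⟩ (Subtype.ext (sq_of_mem C.S C.hS hs))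
      obtain ⟨z, hz, hzk⟩ := hV.ge (mem_top k)
      have hz' : (z : G) ∈ Z := hz
      have hker : L.φ (z⁻¹ * ⟨s, hsC⟩) = 1 := by rw [map_mul, map_inv, hzk, hk, inv_mul_cancel]
      have hsN : s ∈ normalizer (R₀ : Set G) := by
        refine mem_normalizer_iff.2 fun x => ⟨fun hx => ⟨(mem_normalizer_iff.1 (hSR hs) x).1 hx.1,
          conj_mem_self Ct hsC hx.2⟩, fun h => ⟨(mem_normalizer_iff.1 (hSR hs) x).2 h.1, ?_⟩⟩
        have h' := conj_mem_self Ct (inv_mem hsC) h.2
        rwa [show s⁻¹ * (s * x * s⁻¹) * s⁻¹⁻¹ = x by group] at h'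
      have hzc : ∀ x ∈ R₀, Commute (z : G) x := fun x hx => (mem_centralizer_iff.1 hz'.1 x hx).symm
      have htc : ∀ x ∈ R₀, Commute t x := fun x hx => (mem_centralizer_singleton_iff.1 hx.2).symm
      obtain ⟨o, ho, hso⟩ : ∃ o ∈ core t, ∀ x ∈ R₀, s * x * s⁻¹ = o * x * o⁻¹ := by
        have key : ∀ o : G, o ∈ core t → ∀ w : G, (∀ x ∈ R₀, Commute w x) → s = w * o →
            ∀ x ∈ R₀, s * x * s⁻¹ = o * x * o⁻¹ := by
          intro o _ w hw e x hx
          have h1 : w⁻¹ * (s * x * s⁻¹) * w = o * x * o⁻¹ := by rw [e]; group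
          refine (Eq.trans ?_ h1)
          rw [mul_assoc w⁻¹ (s * x * s⁻¹) w, ← (hw _ ((mem_normalizer_iff.1 hsN x).1 hx)).eq, inv_mul_cancel_left]
        rcases (L.ker_iff _).1 hker with h | h
        · exact ⟨_, h, key _ h z hzc (by show s = (z : G) * ((z : G)⁻¹ * s); group)⟩
        · exact ⟨_, h, key _ h ((z : G) * t) (fun x hx => (hzc x hx).mul_left (htc x hx))
            (by
              show s = (z : G) * t * (t * ((z : G)⁻¹ * s))
              rw [mul_assoc, ← mul_assoc t t, Invol.invol_mul_self ht2, one_mul]; group)⟩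
      have h2 : Commute (o * o) r := by
        have e1 := hso r hr
        have e2 := hso _ ((mem_normalizer_iff.1 hsN r).1 hr)
        rw [show s * (s * r * s⁻¹) * s⁻¹ = (s * s) * r * (s * s)⁻¹ by group, sq_of_mem C.S C.hS hs,
          inv_one, mul_one, one_mul, e1, show o * (o * r * o⁻¹) * o⁻¹ = (o * o) * r * (o * o)⁻¹ by group] at e2
        show o * o * r = r * (o * o)
        exact mul_inv_eq_iff_eq_mul.1 e2.symm
      obtain ⟨j, hj⟩ := (core_odd t).of_dvd_nat (Subgroup.orderOf_dvd_natCard _ ho)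
      have ho' : o = ((o * o) ^ (j + 1)) := by
        rw [← sq, ← pow_mul, show 2 * (j + 1) = (2 * j + 1) + 1 by omega, pow_succ, ← hj,
          pow_orderOf_eq_one, one_mul]
      have h3 : Commute o r := ho' ▸ h2.pow_left (j + 1)
      show s * r = r * s
      refine mul_inv_eq_iff_eq_mul.1 ?_
      rw [hso r hr, h3.eq, mul_inv_cancel_right]
    have hRa : ∀ a ∈ (C.S : Subgroup G), a ≠ 1 →
        R ⊓ centralizer {a} ≤ centralizer ((C.S : Subgroup G) : Set G) := by
      intro a ha ha1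
      obtain ⟨n, hn, hna⟩ := invol_fused C.S C.hS C.hD ht ht1 ha ha1
      have hR' := hR.conjBy (C.normalizer_le_W hn)
      have hSR' : (C.S : Subgroup G) ≤ normalizer (Coprime.conjBy n R : Set G) := by
        intro s hs
        have h1 : n⁻¹ * s * n ∈ normalizer (R : Set G) := hSR (by
          have := (mem_normalizer_iff.1 (inv_mem hn) s).1 hs
          rwa [inv_inv] at this)
        rw [← Coprime.conjBy_eq_self_iff] at h1 ⊢
        rw [Coprime.conjBy_conjBy, show s * n = n * (n⁻¹ * s * n) by group, ← Coprime.conjBy_conjBy, h1]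
      obtain ⟨c, hc, hcR⟩ := Coprime.invariant_sylow_conj hSW hcopW (Or.inl hsol) hR' hR hSR' hSR
      rw [Coprime.conjBy_conjBy] at hcR
      intro x hx
      set m := c * n
      have hma : m * t * m⁻¹ = a := by
        rw [show m * t * m⁻¹ = c * (n * t * n⁻¹) * c⁻¹ by simp [m]; group, hna,
          ← mem_centralizer_iff.1 hc.2 a ha, mul_inv_cancel_right]
      have hx0 : m⁻¹ * x * m ∈ R₀ := by
        refine ⟨Coprime.mem_conjBy.1 (hcR.ge hx.1), mem_centralizer_singleton_iff.2 ?_⟩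
        have h := (show Commute x a from mem_centralizer_singleton_iff.1 hx.2).map
          (MulAut.conj m⁻¹).toMonoidHom
        simp only [MulEquiv.coe_toMonoidHom, MulAut.conj_apply, inv_inv] at h
        rw [← hma, show m⁻¹ * (m * t * m⁻¹) * m = t by group] at h
        exact h.eq
      refine mem_centralizer_iff.2 fun s hs => ?_
      have hs' : m⁻¹ * s * m ∈ (C.S : Subgroup G) := by
        have hcs : c⁻¹ * s * c = s := by
          rw [mul_assoc, mem_centralizer_iff.1 hc.2 s hs, inv_mul_cancel_left]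
        have := (mem_normalizer_iff.1 (inv_mem hn) s).1 hs
        rw [inv_inv] at this
        rw [show m⁻¹ * s * m = n⁻¹ * (c⁻¹ * s * c) * n by simp [m]; group, hcs]
        exact this
      have h := (hS₀ _ hx0 _ hs').map (MulAut.conj m).toMonoidHom
      simp only [MulEquiv.coe_toMonoidHom, MulAut.conj_apply] at h
      rw [show m * (m⁻¹ * s * m) * m⁻¹ = s by group, show m * (m⁻¹ * x * m) * m⁻¹ = x by group] at h
      exact h.eq
    have hncyc : ¬ IsCyclic (C.S : Subgroup G) := fun hc => by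
      have h1 : Nat.card (C.S : Subgroup G) ∣ 2 := by
        rw [← IsCyclic.exponent_eq_card]
        exact Monoid.exponent_dvd_of_forall_pow_eq_one fun x => Subtype.ext (C.hS.2 x x.2)
      rw [C.h8] at h1
      norm_num at h1
    haveI := C.hS.1
    have hRS : R ≤ centralizer ((C.S : Subgroup G) : Set G) :=
      Coprime.le_of_centralizers_le hncyc hSR (C.cop_S hRodd) hRa
    have hRR₀ : R₀ = R := le_antisymm inf_le_left (le_inf le_rfl fun x hx =>
      mem_centralizer_singleton_iff.2 (mem_centralizer_iff.1 (hRS hx) t ht).symm)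
    intro g hg
    obtain ⟨o, ho, n, -, hn, rfl⟩ := hfr g hg
    exact ⟨o, ho, by rw [inv_mul_cancel_left, ← hRR₀]; exact hn⟩
  -- `φ` kills `Z`
  have hZker : ∀ z : Ct, (z : G) ∈ Z → L.φ z = 1 := by
    intro z hz
    refine MulEquiv.ext fun k => ?_
    obtain ⟨n, hn, hnk⟩ := hlift k
    have hmem : k * (L.φ z k)⁻¹ ∈ V := by
      refine ⟨n * z * n⁻¹ * z⁻¹, Z.mul_mem (hZn n n.2 hn z hz) (Z.inv_mem hz), ?_⟩
      simp only [map_mul, map_inv, hnk]
      refine MulEquiv.ext fun y => ?_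
      simp only [MulAut.mul_apply, MulAut.conj_apply, MulAut.conj_inv_apply, map_mul, map_inv,
        MulAut.apply_inv_self, mul_assoc, mul_inv_rev, inv_inv]
    rw [hV, mem_bot, mul_inv_eq_one] at hmem
    exact hmem.symm
  have hZcore : ∀ z ∈ Z, Odd (orderOf z) → z ∈ core t := fun z hz hodd =>
    L.mem_core_of_ker ht2 (x := ⟨z, hz.2⟩) hodd (hZker ⟨z, hz.2⟩ hz)
  set X := centralizer (R₀ : Set G) with hX
  have htX : t ∈ X := mem_centralizer_iff.2 fun r hr => mem_centralizer_singleton_iff.1 hr.2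
  have h4X : ¬ 4 ∣ Nat.card X := by
    intro h4
    let tX : X := ⟨t, htX⟩
    have htX2 : orderOf tX = 2 := by rw [← Subgroup.orderOf_coe]; exact ht2
    obtain ⟨P, hP⟩ := (IsPGroup.of_card (n := 1) (by rw [Nat.card_zpowers, htX2, pow_one]) :
      IsPGroup 2 (zpowers tX)).exists_le_sylow
    have h4P : 4 ∣ Nat.card (P : Subgroup X) := (P.pow_dvd_card_of_pow_dvd_card (n := 2) h4 :)
    obtain ⟨T, hT⟩ := (P.2.map X.subtype).exists_le_sylow
    have hPT : ∀ x ∈ (P : Subgroup X), (x : G) ∈ (T : Subgroup G) := fun x hx => hT ⟨x, hx, rfl⟩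
    have hTel := elementary_sylow C.S C.hS T
    have hle : (P : Subgroup X) ≤ zpowers tX := by
      intro x hx
      have hxC : (x : G) ∈ Ct := mem_centralizer_singleton_iff.2
        (comm_of_mem T hTel (hPT x hx) (hPT tX (hP (mem_zpowers _)))).eq
      rcases (L.ker_iff ⟨x, hxC⟩).1 (hZker ⟨x, hxC⟩ ⟨x.2, hxC⟩) with h | h
      · rw [show x = 1 from Subtype.ext (core_invol_free h (sq_of_mem T hTel (hPT x hx)))]
        exact one_mem _
      · have h' := core_invol_free h (sq_of_mem T hTel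
          (mul_mem (hPT tX (hP (mem_zpowers _))) (hPT x hx)))
        rw [mul_eq_one_iff_inv_eq, Invol.invol_inv ht2] at h'
        rw [show x = tX from Subtype.ext h'.symm]
        exact mem_zpowers _
    have := h4P.trans (card_dvd_of_le hle)
    rw [Nat.card_zpowers, htX2] at this
    norm_num at this
  set Ox := (Cfsg.oddCore X).map X.subtype with hOx
  have hOxodd : Odd (Nat.card Ox) := by
    rw [hOx, card_map_of_injective X.subtype_injective, ← Nat.not_even_iff_odd, even_iff_two_dvd]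
    exact Coprime.pPrimeCore_not_dvd Nat.prime_two
  have hOxiff : ∀ x, x ∈ Ox ↔ x ∈ X ∧ Odd (orderOf x) := fun x => by
    constructor
    · rintro ⟨y, hy, rfl⟩
      exact ⟨y.2, hOxodd.of_dvd_nat (Subgroup.orderOf_dvd_natCard _ ⟨y, hy, rfl⟩)⟩
    · rintro ⟨hx, ho⟩
      exact ⟨⟨x, hx⟩, mem_oddCore_of_odd h4X (by rwa [← Subgroup.orderOf_coe]), rfl⟩
  have hOxn : normalizer (R₀ : Set G) ≤ normalizer (Ox : Set G) := by
    have key : ∀ n ∈ normalizer (R₀ : Set G), ∀ x ∈ Ox, n * x * n⁻¹ ∈ Ox := by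
      intro n hn x hx
      obtain ⟨hxX, hxo⟩ := (hOxiff x).1 hx
      refine (hOxiff _).2 ⟨(mem_normalizer_iff.1 (Coprime.normalizer_le_normalizer_centralizer R₀ hn) x).1 hxX,
        by rwa [orderOf_conj_eq]⟩
    intro n hn
    refine mem_normalizer_iff.2 fun x => ⟨key n hn x, fun h => ?_⟩
    have h' := key n⁻¹ (inv_mem hn) _ h
    rwa [show n⁻¹ * (n * x * n⁻¹) * n⁻¹⁻¹ = x by group] at h'
  have hSN₀ : (C.S : Subgroup G) ≤ normalizer (R₀ : Set G) :=
    Coprime.inf_le_normalizer hSR ((C.S_le_cent ht).trans le_normalizer)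
  have hROx : R ≤ Ox := fun x hx => (hOxiff x).2 ⟨mem_centralizer_iff.2 fun r hr =>
    (hRab r hr.1 x hx).eq, hRodd.of_dvd_nat (Subgroup.orderOf_dvd_natCard _ hx)⟩
  obtain ⟨R₁, hR₁, hRR₁, hSR₁⟩ := Coprime.le_invariant_sylow (hSN₀.trans hOxn) (C.cop_S hOxodd)
    (Or.inl hsol) hROx hRp hSR
  have hR₁odd : Odd (Nat.card R₁) := hOxodd.of_dvd_nat (card_dvd_of_le hR₁.1)
  -- `R₁` lies in `W`
  have hR₁W : R₁ ≤ C.W := by
    have hncyc : ¬ IsCyclic (C.S : Subgroup G) := fun hc => by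
      have h1 : Nat.card (C.S : Subgroup G) ∣ 2 := by
        rw [← IsCyclic.exponent_eq_card]
        exact Monoid.exponent_dvd_of_forall_pow_eq_one fun x => Subtype.ext (C.hS.2 x x.2)
      rw [C.h8] at h1
      norm_num at h1
    haveI := C.hS.1
    refine Coprime.le_of_centralizers_le hncyc hSR₁ (C.cop_S hR₁odd) fun a ha ha1 => ?_
    refine le_trans ?_ (C.core_le_W ha ha1)
    set Y := R₁ ⊓ centralizer ({a} : Set G) with hY
    set N := Y ⊓ core a with hN
    have ha2 := C.invol_mem ha ha1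
    set La := C.loc a ha2
    intro x hx
    have hSY : ∀ r ∈ (C.S : Subgroup G), ∀ y ∈ Y, r * y * r⁻¹ ∈ Y := fun r hr y hy =>
      ⟨(mem_normalizer_iff.1 (hSR₁ hr) y).1 hy.1, conj_mem_self _ (C.S_le_cent ha hr) hy.2⟩
    have hSN : (C.S : Subgroup G) ≤ normalizer (N : Set G) := by
      intro r hr
      have h1 : ∀ r ∈ (C.S : Subgroup G), ∀ y ∈ N, r * y * r⁻¹ ∈ N := fun r hr y hy =>
        ⟨hSY r hr y hy.1, core_conj_cent (C.S_le_cent ha hr) hy.2⟩
      refine mem_normalizer_iff.2 fun y => ⟨h1 r hr y, fun h => ?_⟩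
      have h' := h1 r⁻¹ (inv_mem hr) _ h
      rwa [show r⁻¹ * (r * y * r⁻¹) * r⁻¹⁻¹ = y by group] at h'
    have hxN : x ∈ normalizer (N : Set G) := by
      refine mem_normalizer_iff.2 fun y => ⟨fun hy => ⟨conj_mem_self Y hx hy.1, core_conj_cent hx.2 hy.2⟩,
        fun h => ?_⟩
      have h' : x⁻¹ * (x * y * x⁻¹) * x⁻¹⁻¹ ∈ N := ⟨conj_mem_self Y (Y.inv_mem hx) h.1,
        core_conj_cent ((centralizer ({a} : Set G)).inv_mem hx.2) h.2⟩
      rwa [show x⁻¹ * (x * y * x⁻¹) * x⁻¹⁻¹ = y by group] at h'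
    have hfix : ∀ s ∈ (C.S : Subgroup G), s * x * s⁻¹ * x⁻¹ ∈ N := by
      intro s hs
      have hz : s * x * s⁻¹ * x⁻¹ ∈ Y := Y.mul_mem (hSY s hs x hx) (Y.inv_mem hx)
      refine ⟨hz, ?_⟩
      let s' : ↥(centralizer ({a} : Set G)) := ⟨s, C.S_le_cent ha hs⟩
      let x' : ↥(centralizer ({a} : Set G)) := ⟨x, hx.2⟩
      obtain ⟨k, hk⟩ := La.invol_inner s' (Subtype.ext (sq_of_mem C.S C.hS hs))
      have hφ : La.φ (s' * x' * s'⁻¹ * x'⁻¹) = MulAut.conj (k * (La.φ x') k⁻¹) := by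
        simp only [map_mul, map_inv, hk]
        refine MulEquiv.ext fun y => ?_
        simp only [MulAut.mul_apply, MulAut.conj_apply, MulAut.conj_inv_apply, map_mul, map_inv,
          MulAut.apply_inv_self, mul_assoc, mul_inv_rev, inv_inv]
      obtain ⟨j, hj⟩ : ∃ j, (s * x * s⁻¹ * x⁻¹) ^ l ^ j = 1 := by
        obtain ⟨j, hj⟩ := hR₁.isPGroup ⟨_, hz.1⟩
        exact ⟨j, congrArg Subtype.val hj⟩
      have hk1 : k * (La.φ x') k⁻¹ = 1 := by
        by_contra hne
        have hd : orderOf (k * (La.φ x') k⁻¹) ∣ l ^ j := by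
          rw [← orderOf_injective _ La.conj_injective, ← hφ]
          refine (orderOf_map_dvd _ _).trans (orderOf_dvd_of_pow_eq_one ?_)
          exact Subtype.ext hj
        obtain ⟨i, -, hi⟩ := (Nat.dvd_prime_pow hl).1 hd
        have hi0 : i ≠ 0 := fun h => hne (orderOf_eq_one_iff.1 (by rw [hi, h, pow_zero]))
        refine C.not_dvd_psl ha2 hl (Or.inl ?_) ((dvd_pow_self l hi0).trans (hi ▸ orderOf_dvd_natCard _))
        -- `l` divides `|O(C(a))|`
        obtain ⟨m, hm, hma⟩ := invol_fused C.S C.hS C.hD ht ht1 ha ha1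
        have hlt : l ∣ Nat.card (core t) := by
          by_contra hnot
          have hf : (Nat.card (core t)).factorization l = 0 := Nat.factorization_eq_zero_of_not_dvd hnot
          have hR₀1 : R₀ = ⊥ := Subgroup.card_eq_one.1 (by rw [hR₀.2, hf, pow_zero])
          have hV1 : (Z.subgroupOf Ct) = ⊤ := eq_top_iff.2 fun z _ =>
            ⟨mem_centralizer_iff.2 fun r hr => by
              rw [hR₀1, SetLike.mem_coe, mem_bot] at hr; rw [hr, one_mul, mul_one], z.2⟩
          obtain ⟨y, hy⟩ := L.inn 1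
          obtain ⟨w, hw⟩ := exists_ne (1 : Matrix.ProjectiveSpecialLinearGroup (Fin 2) L.F)
          obtain ⟨y', hy'⟩ := L.inn w
          exact hw (mem_bot.1 (hV ▸ (⟨y', hV1 ▸ mem_top _, hy'⟩ : w ∈ V)))
        refine hlt.trans (Nat.card_congr (Equiv.subtypeEquiv (MulAut.conj m).toEquiv fun y => ?_)).dvd
        subst hma
        constructor
        · exact fun h => C.core_conj ht h
        · intro h
          have h' := C.core_conj (n := m⁻¹) ha h
          simp only [MulEquiv.toEquiv_eq_coe, EquivLike.coe_coe, MulAut.conj_apply, inv_inv] at h'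
          rwa [show m⁻¹ * (m * t * m⁻¹) * m = t by group, show m⁻¹ * (m * y * m⁻¹) * m = y by group] at h'
      refine La.mem_core_of_ker ha2 (x := s' * x' * s'⁻¹ * x'⁻¹)
        (hR₁odd.of_dvd_nat (Subgroup.orderOf_dvd_natCard _ hz.1)) ?_
      rw [hφ, hk1, map_one]
    obtain ⟨n, hn, hxn⟩ := Coprime.exists_fixed_in_coset hSN
      (C.cop_S (hR₁odd.of_dvd_nat (card_dvd_of_le (inf_le_left.trans inf_le_left))))
      (Or.inl hsol) hxN hfix
    have hxnY : x * n ∈ Y := Y.mul_mem hx hn.1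
    have hodd : Odd (orderOf (x * n)) := hR₁odd.of_dvd_nat (Subgroup.orderOf_dvd_natCard _ hxnY.1)
    have hK : x * n ∈ C.K := EqConj.mem_oddPart C.S C.hS
      (fun r hr => (mem_centralizer_iff.1 hxn r hr).symm) hodd
    have hct : x * n ∈ core t := hZcore _ ⟨((hOxiff _).1 (hR₁.1 hxnY.1)).1,
      mem_centralizer_singleton_iff.2 (mem_centralizer_iff.1 hxn t ht).symm⟩ hodd
    have h' := (core a).mul_mem (C.K_core_eq ha ha1 ht ht1 ⟨hK, hct⟩) ((core a).inv_mem hn.2)
    rwa [mul_inv_cancel_right] at h'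
  have hRR : R₁ = R := by
    refine (eq_of_le_of_card_ge hRR₁ ?_).symm
    obtain ⟨j, hj⟩ := hR₁.isPGroup.exists_card_eq
    rw [hj, hR.2]
    exact Nat.pow_le_pow_right hl.pos ((hl.pow_dvd_iff_le_factorization Nat.card_pos.ne').1
      (hj ▸ card_dvd_of_le hR₁W))
  rw [hRR] at hR₁
  have htt : zpowers t ≤ (C.S : Subgroup G) := zpowers_le.2 ht
  intro g hg
  obtain ⟨o, ho, n, hnC, hn, rfl⟩ := hfr g hg
  have hR' := hR₁.conjBy (hOxn hn)
  have htR' : zpowers t ≤ normalizer (Coprime.conjBy n R : Set G) := by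
    rw [zpowers_le, ← Coprime.conjBy_eq_self_iff, Coprime.conjBy_conjBy,
      ← mem_centralizer_singleton_iff.1 hnC, ← Coprime.conjBy_conjBy,
      Coprime.conjBy_eq_self_iff.2 (hSR ht)]
  have hcopt : (Nat.card (zpowers t)).Coprime (Nat.card Ox) :=
    (C.cop_S hOxodd).coprime_dvd_left (card_dvd_of_le htt)
  obtain ⟨c, hc, hcR⟩ := Coprime.invariant_sylow_conj (htt.trans (hSN₀.trans hOxn)) hcopt
    (Or.inl (Coprime.isSolvable_of_isMulCommutative inferInstance)) hR' hR₁ htR' (htt.trans hSR)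
  rw [Coprime.conjBy_conjBy, Coprime.conjBy_eq_self_iff] at hcR
  have hcC : c ∈ Ct := mem_centralizer_singleton_iff.2 (mem_centralizer_iff.1 hc.2 t (mem_zpowers t)).symm
  obtain ⟨hcX, hco⟩ := (hOxiff c).1 hc.1
  refine ⟨o * c⁻¹, mul_mem ho (inv_mem (hZcore c ⟨hcX, hcC⟩ hco)), ?_⟩
  rwa [mul_inv_rev, inv_inv, mul_assoc, inv_mul_cancel_left]

theorem cent_le_W {t : G} (ht : t ∈ (C.S : Subgroup G)) (ht1 : t ≠ 1) :
    centralizer ({t} : Set G) ≤ normalizer (C.W : Set G) := by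
  intro g hg
  have hle : C.W ≤ C.W.map (MulAut.conj g⁻¹).toMonoidHom := by
    refine inf_eq_left.1 (eq_of_le_of_card_ge inf_le_left (Nat.le_of_dvd Nat.card_pos ?_))
    refine (Nat.dvd_iff_prime_pow_dvd_dvd _ _).2 fun l k hl hd => ?_
    haveI := Fact.mk hl
    rcases Nat.eq_zero_or_pos k with rfl | hk
    · exact one_dvd _
    obtain ⟨R, hR, hcov⟩ := C.exists_sylow_normalized ht ht1 hl ((dvd_pow_self l hk.ne').trans hd)
    have hle : R ≤ C.W ⊓ C.W.map (MulAut.conj g⁻¹).toMonoidHom := by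
      refine le_inf hR.1 fun x hx => ?_
      obtain ⟨o, ho, hn⟩ := hcov g hg
      have ho' := C.core_le_W ht ht1 ho
      refine ⟨g * x * g⁻¹, ?_, by show g⁻¹ * (g * x * g⁻¹) * g⁻¹⁻¹ = x; group⟩
      rw [show g * x * g⁻¹ = o * (o⁻¹ * g * x * (o⁻¹ * g)⁻¹) * o⁻¹ by group]
      exact conj_mem_self C.W ho' (hR.1 ((mem_normalizer_iff.1 hn x).1 hx))
    refine dvd_trans ?_ (card_dvd_of_le hle)
    rw [hR.2]
    exact pow_dvd_pow l ((hl.pow_dvd_iff_le_factorization Nat.card_pos.ne').1 hd)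
  have heq : C.W.map (MulAut.conj g⁻¹).toMonoidHom = C.W :=
    (eq_of_le_of_card_ge hle (card_map_of_injective (MulAut.conj g⁻¹).injective).le).symm
  have := inv_mem (Invol.mem_normalizer_of_conj_map_eq heq)
  rwa [inv_inv] at this

include C in
/-- **The odd cores of the involution centralizers are trivial.** -/
theorem core_eq_bot {t : G} (ht : orderOf t = 2) : core t = ⊥ := by
  haveI := Fact.mk Nat.prime_two
  suffices hW : C.W = ⊥ by
    obtain ⟨g, hg⟩ := exists_conj_into C.S C.hS ht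
    refine (eq_bot_iff_forall _).2 fun x hx => ?_
    have hle := C.core_le_W hg (fun h => Invol.invol_ne_one ht (by simpa using h))
    rw [hW, le_bot_iff] at hle
    have hmap : ∀ y ∈ centralizer ({t} : Set G), g * y * g⁻¹ ∈ centralizer ({g * t * g⁻¹} : Set G) :=
      fun y hy => mem_centralizer_singleton_iff.2
        ((show Commute y t from mem_centralizer_singleton_iff.1 hy).map (MulAut.conj g).toMonoidHom).eq
    let f : ↥(centralizer ({t} : Set G)) →* ↥(centralizer ({g * t * g⁻¹} : Set G)) :=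
      ((MulAut.conj g).toMonoidHom.comp (centralizer ({t} : Set G)).subtype).codRestrict _
        fun y => hmap y y.2
    have hf : Function.Surjective f := fun z => by
      refine ⟨⟨g⁻¹ * z * g, mem_centralizer_singleton_iff.2 ?_⟩, Subtype.ext (by
        show g * (g⁻¹ * (z : G) * g) * g⁻¹ = z; group)⟩
      have h := (show Commute (z : G) (g * t * g⁻¹) from mem_centralizer_singleton_iff.1 z.2).map
        (MulAut.conj g⁻¹).toMonoidHom
      simp only [MulEquiv.coe_toMonoidHom, MulAut.conj_apply, inv_inv] at h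
      rw [show g⁻¹ * (g * t * g⁻¹) * g = t by group] at h
      exact h.eq
    obtain ⟨y, hy, rfl⟩ := hx
    have h1 : g * (y : G) * g⁻¹ ∈ core (g * t * g⁻¹) :=
      ⟨f y, Coprime.map_pPrimeCore_le hf 2 ⟨y, hy, rfl⟩, rfl⟩
    rw [hle, mem_bot, mul_inv_eq_one, mul_eq_left] at h1
    exact h1
  set H := normalizer (C.W : Set G) with hH
  have hWn : (C.W.subgroupOf H).Normal := (normal_subgroupOf_iff_le_normalizer le_normalizer).2 le_rfl
  have hWodd : ¬ 2 ∣ Nat.card (C.W.subgroupOf H) := by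
    rw [Nat.card_congr (subgroupOfEquivOfLe le_normalizer).toEquiv]; exact C.W_spec.1
  by_cases htop : H = ⊤
  · haveI : C.W.Normal := normalizer_eq_top_iff.1 htop
    have h := Coprime.le_pPrimeCore_of_not_dvd Nat.prime_two C.W_spec.1
    rwa [show Cfsg.pPrimeCore 2 G = ⊥ from C.hO, le_bot_iff] at h
  have heven : Even (Nat.card H) :=
    even_iff_two_dvd.2 ((show 2 ∣ 8 by norm_num).trans (C.h8 ▸ card_dvd_of_le C.S_le_normalizer_W))
  have hinto : ∀ x ∈ H, orderOf x = 2 → ∃ h ∈ H, h * x * h⁻¹ ∈ (C.S : Subgroup G) := by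
    intro x hx hx2
    obtain ⟨c, hc⟩ := Invol.exists_conj_le_sylow (G := H)
      (IsPGroup.of_card (n := 1) (by
        rw [Nat.card_zpowers, ← Subgroup.orderOf_coe, show ((⟨x, hx⟩ : H) : G) = x from rfl, hx2, pow_one]) :
        IsPGroup 2 (zpowers (⟨x, hx⟩ : H))) (C.S.subtype C.S_le_normalizer_W)
    exact ⟨c, c.2, hc _ (mem_zpowers _)⟩
  have hse : Cfsg.IsStronglyEmbedded H := by
    refine (Cfsg.Agent.S0223.result H htop heven).2 ⟨fun x hx hx2 g hg => ?_, fun x hx y hy hx2 hy2 _ => ?_⟩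
    · obtain ⟨h, hh, hhx⟩ := hinto x hx hx2
      have hmem : h * g * h⁻¹ ∈ H := C.cent_le_W hhx (Invol.invol_ne_one (Invol.invol_conj hx2 h))
        (mem_centralizer_singleton_iff.2
          ((show Commute g x from mem_centralizer_singleton_iff.1 hg).map (MulAut.conj h).toMonoidHom).eq)
      have := conj_mem_self H (H.inv_mem hh) hmem
      rwa [show h⁻¹ * (h * g * h⁻¹) * h⁻¹⁻¹ = g by group] at this
    · obtain ⟨h, hh, hhx⟩ := hinto x hx hx2
      obtain ⟨h', hh', hhy⟩ := hinto y hy hy2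
      obtain ⟨n, hn, hne⟩ := invol_fused C.S C.hS C.hD hhx (Invol.invol_ne_one (Invol.invol_conj hx2 h))
        hhy (Invol.invol_ne_one (Invol.invol_conj hy2 h'))
      refine ⟨h'⁻¹ * n * h, H.mul_mem (H.mul_mem (H.inv_mem hh') (C.normalizer_le_W hn)) hh, ?_⟩
      calc h'⁻¹ * n * h * x * (h'⁻¹ * n * h)⁻¹ = h'⁻¹ * (n * (h * x * h⁻¹) * n⁻¹) * h' := by group
        _ = h'⁻¹ * (h' * y * h'⁻¹) * h' := by rw [hne]
        _ = y := by group
  have h1 := Cfsg.Agent.S1221.result H hse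
  rw [C.hO, le_bot_iff, map_eq_bot_iff_of_injective _ H.subtype_injective] at h1
  haveI := hWn
  have h2 := Coprime.le_pPrimeCore_of_not_dvd Nat.prime_two hWodd
  rw [show Cfsg.pPrimeCore 2 H = ⊥ from h1, le_bot_iff, subgroupOf_eq_bot] at h2
  exact (eq_bot_iff_forall _).2 fun x hx => mem_bot.1 (h2.le_bot ⟨hx, le_normalizer hx⟩)

end Ctx

end CfsgLib.EqualOrder2
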