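import Cfsg.Agent.Lib.EqualOrder2.Almost
import Cfsg.Agent.Lib.EqualOrder2.Small
import Cfsg.Agent.Lib.Invol.EqualOrderConj.Quat
import Cfsg.Agent.Lib.Invol.EqualOrderConj.Psl
import Cfsg.Agent.S3188

/-!
# Recognition of the quotient when the involution centralisers are solvable
-/

set_option autoImplicit false
set_option linter.unusedSectionVars false
set_option linter.style.haveILetI false

namespace CfsgLib.EqualOrder2

open Subgroup
open CfsgLib.EqualOrder (ConjByOrder)

universe u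

/-- `SL(2)` over isomorphic fields. -/
theorem sl_congr {F L : Type} [Field F] [Field L] (σ : F ≃+* L) :
    Nonempty (Matrix.SpecialLinearGroup (Fin 2) F ≃* Matrix.SpecialLinearGroup (Fin 2) L) :=
  ⟨MulEquiv.ofBijective (Matrix.SpecialLinearGroup.map σ.toRingHom)
    ⟨fun A B h => by
      ext i j
      exact σ.injective (congrFun (congrFun (congrArg Subtype.val h) i) j),
    fun B => ⟨Matrix.SpecialLinearGroup.map σ.symm.toRingHom B, by
      ext i j
      simp⟩⟩⟩

theorem three_neg : ∀ x : ZMod 3, x = -x → x = 0 := by decide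

/-- `PSL(2, 3) ≅ A₄`. -/
theorem psl_three_alt :
    Nonempty (alternatingGroup (Fin 4) ≃* Matrix.ProjectiveSpecialLinearGroup (Fin 2) (ZMod 3)) := by
  classical
  set π := QuotientGroup.mk' (center (Matrix.SpecialLinearGroup (Fin 2) (ZMod 3)))
  have h := Classical.card_psl2 (F := ZMod 3)
  rw [ZMod.card, show Nat.gcd 2 (3 - 1) = 2 by decide] at h
  obtain ⟨e⟩ := Invol.mulEquiv_alternating_four
    (G := Matrix.ProjectiveSpecialLinearGroup (Fin 2) (ZMod 3)) (by omega) fun z hz hzc => by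
    obtain ⟨M, rfl⟩ := QuotientGroup.mk'_surjective _ z
    refine Invol.invol_ne_one hz ((QuotientGroup.eq_one_iff M).2 ?_)
    have hu : ∀ U : Matrix.SpecialLinearGroup (Fin 2) (ZMod 3),
        M.1 * U.1 = U.1 * M.1 ∨ M.1 * U.1 = -(U.1 * M.1) := fun U =>
      MinNonCA.pi_eq_cases (A := U * M) (B := M * U) (by
        rw [map_mul, map_mul]; exact mem_center_iff.1 hzc _)
    have hdet := M.det_coe
    rw [Matrix.det_fin_two] at hdet
    have h1 := hu ⟨!![1, 1; 0, 1], by simp [Matrix.det_fin_two]⟩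
    have h2 := hu ⟨!![1, 0; 1, 1], by simp [Matrix.det_fin_two]⟩
    simp only [← Matrix.ext_iff, Fin.forall_fin_two, Matrix.mul_apply,
      Fin.sum_univ_two, Matrix.neg_apply] at h1 h2
    simp only [Matrix.of_apply, Matrix.cons_val_zero, Matrix.cons_val_one, mul_one, mul_zero, add_zero, zero_add,
      one_mul, zero_mul] at h1 h2
    obtain ⟨e2, e3⟩ : M.1 1 0 = 0 ∧ M.1 0 0 = M.1 1 1 := by
      rcases h1 with ⟨⟨q1, q2⟩, -, -⟩ | ⟨⟨q1, q2⟩, q3, -⟩
      · exact ⟨left_eq_add.1 q1, by linear_combination q2⟩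
      · have hc := three_neg _ q3
        rw [hc, add_zero] at q1
        rw [three_neg _ q1, hc, zero_mul, mul_zero, sub_zero] at hdet
        exact absurd hdet zero_ne_one
    have e1 : M.1 0 1 = 0 := by
      rcases h2 with ⟨⟨q1, -⟩, -⟩ | ⟨⟨q1, q2⟩, -⟩
      · exact add_eq_left.1 q1
      · have hb := three_neg _ q2
        rw [hb, add_zero] at q1
        rw [three_neg _ q1, hb, zero_mul, zero_mul, sub_zero] at hdet
        exact absurd hdet zero_ne_one
    rw [Matrix.SpecialLinearGroup.mem_center_iff]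
    refine ⟨M.1 0 0, ?_, ?_⟩
    · rw [e1, e2, mul_zero, sub_zero, ← e3] at hdet
      rw [Fintype.card_fin, sq, hdet]
    · ext i j
      fin_cases i <;> fin_cases j <;> simp [Matrix.scalar, e1, e2, e3]
  exact ⟨e.symm⟩

variable {G : Type u} [Group G] [Finite G]

/-- The simple socle when the involution centralisers are solvable. -/
theorem psl_socle (hD : ConjByOrder G) (hO : Cfsg.oddCore G = ⊥) (S : Sylow 2 G)
    (hS : Cfsg.IsElementaryAbelian 2 (S : Subgroup G)) (hn : ¬ (S : Subgroup G).Normal)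
    (hsolv : ∀ t : G, orderOf t = 2 → Group.IsSolvable (centralizer ({t} : Set G))) :
    ∃ (F : Type) (_ : Field F) (_ : Fintype F),
      (((Fintype.card F % 8 = 3 ∨ Fintype.card F % 8 = 5) ∧ 5 ≤ Fintype.card F) ∨
        (∃ n : ℕ, 2 ≤ n ∧ Fintype.card F = 2 ^ n)) ∧
      ∃ (N : Subgroup G) (_ : N.Normal), Nonempty (↥N ≃* Matrix.ProjectiveSpecialLinearGroup (Fin 2) F) ∧
        centralizer (N : Set G) = ⊥ ∧ (S : Subgroup G) ≤ N ∧ Odd N.index := by
  classical
  haveI := Fact.mk Nat.prime_two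
  obtain ⟨M, -, hMs, hMab, -, -, -⟩ := exists_simple_normal S hS hD hO hn
  haveI := hMs
  have hGn : ¬ Group.IsSolvable G := fun h => by
    haveI := h
    refine hMab ⟨⟨fun a b => ?_⟩⟩
    exact IsSimpleGroup.comm_iff_isSolvable.2 inferInstance a b
  obtain ⟨F, iF, iF', hF, N₀, hN₀, ⟨e₀⟩, hC₀⟩ :=
    (Cfsg.Agent.S3188.result S hS.1 hsolv).resolve_left hGn
  set φ : G ≃* G ⧸ Cfsg.oddCore G := MulEquiv.ofBijective (QuotientGroup.mk' (Cfsg.oddCore G))
    ⟨(MonoidHom.ker_eq_bot_iff _).1 (by rw [QuotientGroup.ker_mk']; exact hO), QuotientGroup.mk'_surjective _⟩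
  set N := N₀.comap φ.toMonoidHom with hN
  haveI := hN₀
  haveI hNn : N.Normal := hN₀.comap _
  let e : ↥N ≃* Matrix.ProjectiveSpecialLinearGroup (Fin 2) F :=
    ((φ.subgroupMap N).trans (MulEquiv.subgroupCongr (map_comap_eq_self_of_surjective φ.surjective N₀))).trans e₀
  have hC : centralizer (N : Set G) = ⊥ := by
    refine (eq_bot_iff_forall _).2 fun x hx => φ.injective ?_
    rw [map_one, ← mem_bot, ← hC₀]
    refine mem_centralizer_iff.2 fun y hy => ?_
    obtain ⟨z, rfl⟩ := φ.surjective y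
    rw [← map_mul, ← map_mul, mem_centralizer_iff.1 hx z hy]
  have h4 : 4 ≤ Nat.card F := by
    rw [Nat.card_eq_fintype_card]
    rcases hF with ⟨-, h⟩ | ⟨n, hn2, h⟩
    · omega
    · rw [h]
      exact (show 2 ^ 2 ≤ 2 ^ n from Nat.pow_le_pow_right (by norm_num) hn2)
  have hNeven : Even (Nat.card N) := by
    by_contra hodd
    haveI : Group.IsSolvable N := FT.isSolvable_of_odd _ (Nat.not_even_iff_odd.1 hodd)
    haveI := (Perm.Dickson.psl_simple_noncomm (F := F) h4).1
    refine (Perm.Dickson.psl_simple_noncomm (F := F) h4).2 ⟨⟨fun a b => ?_⟩⟩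
    haveI : Group.IsSolvable (Matrix.ProjectiveSpecialLinearGroup (Fin 2) F) :=
      Group.isSolvable_of_surjective (f := e.toMonoidHom) e.surjective
    exact IsSimpleGroup.comm_iff_isSolvable.2 inferInstance a b
  obtain ⟨d, hd, hd2⟩ := Invol.exists_invol_mem hNeven
  have hSN : (S : Subgroup G) ≤ N := fun s hs => by
    by_cases h1 : s = 1
    · rw [h1]; exact one_mem _
    · obtain ⟨g, hg⟩ := invol_all_conj S hS hD hd2 (invol_of_mem S hS hs h1)
      exact hg ▸ hNn.conj_mem d hd g
  refine ⟨F, iF, iF', hF, N, hNn, ⟨e⟩, hC, hSN, ?_⟩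
  rw [← Nat.not_even_iff_odd, even_iff_two_dvd]
  exact fun h => S.not_dvd_index (h.trans (index_dvd_of_le hSN))

/-- The field has `|S|` elements in even characteristic, and `|S|` is four in odd characteristic. -/
theorem socle_card (S : Sylow 2 G) (hS : Cfsg.IsElementaryAbelian 2 (S : Subgroup G)) {F : Type} [Field F]
    [Fintype F] (N : Subgroup G) (hSN : (S : Subgroup G) ≤ N)
    (e : ↥N ≃* Matrix.ProjectiveSpecialLinearGroup (Fin 2) F) {r : ℕ} (hr : Nat.card (S : Subgroup G) = 2 ^ r) :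
    (∀ n : ℕ, Fintype.card F = 2 ^ n → n = r) ∧ (Odd (Fintype.card F) → r ≤ 2) := by
  classical
  haveI := Fact.mk Nat.prime_two
  set Q := (S.subtype hSN).mapSurjective (f := e.toMonoidHom) e.surjective
  have hQc : (Q : Subgroup _) = ((S.subtype hSN : Sylow 2 N) : Subgroup N).map e.toMonoidHom := rfl
  have hQ : Nat.card (Q : Subgroup (Matrix.ProjectiveSpecialLinearGroup (Fin 2) F)) = 2 ^ r := by
    rw [hQc, Sylow.coe_subtype, card_map_of_injective (f := e.toMonoidHom) e.injective,
      Nat.card_congr (subgroupOfEquivOfLe hSN).toEquiv, hr]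
  refine ⟨fun n hn => ?_, fun hodd => ?_⟩
  · have h := Classical.card_psl2 (F := F)
    have hpos := Fintype.one_lt_card (α := F)
    have hn0 : n ≠ 0 := by rintro rfl; omega
    have h2 : 2 ∣ 2 ^ n := dvd_pow_self 2 hn0
    rw [hn] at h hpos
    have hnd : ¬ 2 ∣ (2 ^ n - 1) * (2 ^ n + 1) := fun h' => by
      rcases Nat.prime_two.dvd_mul.1 h' with h' | h' <;> omega
    rw [(Nat.Prime.coprime_iff_not_dvd Nat.prime_two).2 (fun h' => hnd (dvd_mul_of_dvd_left h' _)), one_mul] at h
    have h3 := Q.card_eq_multiplicity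
    rw [hQ, h, Classical.factorization_of_coprime (hr := hnd)] at h3
    exact (Nat.pow_right_injective le_rfl h3).symm
  · refine CfsgLib.EqConj.card_le_four_of_elementary hodd (Q : Subgroup _) hQ fun x hx => ?_
    rw [hQc] at hx
    obtain ⟨y, hy, rfl⟩ := hx
    rw [Sylow.coe_subtype] at hy
    rw [← map_mul, show y * y = 1 from Subtype.ext (sq_of_mem S hS hy), map_one]

/-- The four group case. -/
theorem four_cases (hD : ConjByOrder G) (hO : Cfsg.oddCore G = ⊥) (S : Sylow 2 G)
    (hS : Cfsg.IsElementaryAbelian 2 (S : Subgroup G)) (h4 : Nat.card (S : Subgroup G) = 4) :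
    Nonempty (G ≃* alternatingGroup (Fin 4)) ∨
      ∃ (p : ℕ) (_ : Fact p.Prime) (F : Type) (_ : Field F) (_ : Fintype F), (p % 8 = 3 ∨ p % 8 = 5) ∧
        (Fintype.card F = p ∨ Fintype.card F = p ^ 3) ∧ 5 ≤ Fintype.card F ∧ Odd (Fintype.card F) ∧
        Nonempty (G ≃* Matrix.ProjectiveSpecialLinearGroup (Fin 2) F) := by
  classical
  haveI := Fact.mk Nat.prime_two
  by_cases hn : (S : Subgroup G).Normal
  · exact Or.inl (four_normal S hS hD hO h4 hn)
  right
  obtain ⟨F, iF, iF', hF, N, hN, ⟨e⟩, hC, hSN, hodd⟩ := psl_socle hD hO S hS hn fun t ht => by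
    obtain ⟨g, hg⟩ := exists_conj_into S hS ht
    haveI := solvable_cent_four S hS h4 hg (Invol.invol_conj ht g)
    refine Group.isSolvable_of_isSolvable_injective
      (f := MonoidHom.codRestrict ((MulAut.conj g).toMonoidHom.comp (centralizer ({t} : Set G)).subtype)
        (centralizer ({g * t * g⁻¹} : Set G)) fun x => ?_) fun a b h => ?_
    · exact mem_centralizer_singleton_iff.2
        ((show Commute (x : G) t from mem_centralizer_singleton_iff.1 x.2).map (MulAut.conj g).toMonoidHom).eq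
    · exact Subtype.ext ((MulAut.conj g).injective (congrArg Subtype.val h))
  haveI := hN
  have hr := socle_card S hS N hSN e (r := 2) h4
  rcases hF with ⟨h8, h5⟩ | ⟨n, -, hn2⟩
  · obtain ⟨p, hp, hp8, htop, hq⟩ := odd_case N e hC hodd hD h8
    exact ⟨p, hp, F, iF, iF', hp8, hq, h5, Nat.odd_iff.2 (by omega),
      ⟨(topEquiv.symm.trans (MulEquiv.subgroupCongr htop.symm)).trans e⟩⟩
  · obtain rfl := hr.1 n hn2
    haveI : Fact (Nat.Prime 5) := ⟨by norm_num⟩
    haveI := charTwo_of_card hn2 (by norm_num)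
    have htop : N = ⊤ := by
      have hi := index_dvd N e hC hodd
      rw [EqualOrder.card_galoisAut 2 (F := F) (n := 2) (by rw [Nat.card_eq_fintype_card, hn2])] at hi
      refine Subgroup.index_eq_one.1 (((Nat.dvd_prime Nat.prime_two).1 hi).resolve_right fun h => ?_)
      rw [h] at hodd
      exact absurd hodd (by decide)
    let eG : G ≃* Matrix.ProjectiveSpecialLinearGroup (Fin 2) F :=
      (topEquiv.symm.trans (MulEquiv.subgroupCongr htop.symm)).trans e
    haveI : IsSimpleGroup (Matrix.ProjectiveSpecialLinearGroup (Fin 2) F) :=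
      (Perm.Dickson.psl_simple_noncomm (F := F) (by rw [Nat.card_eq_fintype_card, hn2]; norm_num)).1
    have h := Classical.card_psl2 (F := F)
    rw [hn2, show Nat.gcd 2 (2 ^ 2 - 1) = 1 by decide, one_mul] at h
    obtain ⟨e5⟩ := Cfsg.Agent.S0494.result (G := Matrix.ProjectiveSpecialLinearGroup (Fin 2) F)
      (by rw [h]; norm_num)
    obtain ⟨eP⟩ := EqConj.alt_five_psl
    exact ⟨5, inferInstance, ZMod 5, inferInstance, inferInstance, Or.inr (by norm_num),
      Or.inl (ZMod.card 5), by rw [ZMod.card], by rw [ZMod.card]; decide, ⟨(eG.trans e5).trans eP⟩⟩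

end CfsgLib.EqualOrder2
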