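import Cfsg.Agent.Lib.Coprime.Gaschutz
import Cfsg.Agent.Lib.Invol.Basic
import Cfsg.Agent.Lib.Classical.ExcIso
import Cfsg.Agent.Lib.Ree.PSLKit
import Cfsg.Agent.Lib.Ree.Entry
import Cfsg.Agent.Lib.Ree.InvertedThree
import Mathlib.GroupTheory.SpecificGroups.Cyclic
import Mathlib.GroupTheory.NoncommCoprod
import Mathlib.GroupTheory.Sylow

/-!
# Extensions by a central involution with elementary Sylow `2`-subgroups

Such an extension of `Q` is `Z₂ × Q`.
-/

set_option autoImplicit false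
set_option linter.unusedSectionVars false
set_option linter.style.haveILetI false

namespace CfsgLib.EqualOrder2

open Subgroup

universe u v

/-- An extension by a central involution with elementary Sylow `2`-subgroups splits. -/
theorem two_times {H : Type u} [Group H] [Finite H] {Q : Type v} [Group Q] {z : H} (hz : orderOf z = 2)
    (hzc : z ∈ center H) (hel : ∀ T : Sylow 2 H, ∀ a ∈ (T : Subgroup H), a * a = 1)
    (f : H →* Q) (hf : Function.Surjective f) (hfz : f z = 1) (hker : ∀ x, f x = 1 → x = 1 ∨ x = z) :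
    Nonempty (H ≃* Multiplicative (ZMod 2) × Q) := by
  classical
  haveI := Fact.mk Nat.prime_two
  set Z := zpowers z with hZ
  have hZle : Z ≤ center H := zpowers_le.2 hzc
  haveI : Z.Normal := ⟨fun x hx g => by
    rw [← (mem_center_iff.1 (hZle hx) g).symm, mul_inv_cancel_right] at *
    exact hx⟩
  have hZ2 : IsPGroup 2 Z := IsPGroup.of_card (n := 1) (by rw [Nat.card_zpowers, hz, pow_one])
  obtain ⟨T⟩ : Nonempty (Sylow 2 H) := inferInstance
  have hzT : z ∈ (T : Subgroup H) := ((le_inf le_rfl (hZle.trans (center_le_normalizer _))).trans (hZ2.inf_normalizer_sylow T).le).trans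
    inf_le_right (mem_zpowers z)
  have hTc : ∀ a ∈ (T : Subgroup H), ∀ b ∈ (T : Subgroup H), Commute a b := fun a ha b hb => by
    have e : ∀ y ∈ (T : Subgroup H), y⁻¹ = y := fun y hy => inv_eq_of_mul_eq_one_right (hel T y hy)
    show a * b = b * a
    rw [← e _ (mul_mem ha hb), mul_inv_rev, e a ha, e b hb]
  -- a complement of `Z` in `T`
  obtain ⟨A, ⟨hAT, hzA⟩, hmax⟩ := (Set.toFinite {A : Subgroup H | A ≤ T ∧ z ∉ A}).exists_maximal
    ⟨⊥, bot_le, fun h => Invol.invol_ne_one hz (mem_bot.1 h)⟩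
  have hinf : A ⊓ Z = ⊥ := by
    rw [eq_bot_iff]
    rintro x ⟨hxA, hxZ⟩
    obtain ⟨k, rfl⟩ := mem_zpowers_iff.1 hxZ
    rw [mem_bot, ← zpow_mod_orderOf, hz]
    rw [← zpow_mod_orderOf, hz] at hxA
    rcases Int.emod_two_eq_zero_or_one k with e | e <;>
      rw [show ((2 : ℕ) : ℤ) = 2 from rfl, e] at hxA ⊢
    · exact zpow_zero z
    · rw [zpow_one] at hxA; exact absurd hxA hzA
  have hsup : Z ⊔ A = T := by
    refine le_antisymm (sup_le (zpowers_le.2 hzT) hAT) fun x hx => ?_
    by_contra hc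
    have hxA : x ∉ A := fun h => hc (mem_sup_right h)
    -- `A ∪ x A` avoids `z`
    have hxn : zpowers x ≤ normalizer (A : Set H) := zpowers_le.2 (mem_normalizer_iff.2 fun a => by
      constructor
      · intro ha
        rw [(hTc x hx a (hAT ha)).eq, mul_inv_cancel_right]; exact ha
      · intro ha
        have haT : a ∈ (T : Subgroup H) := by
          have := mul_mem (mul_mem (inv_mem hx) (hAT ha)) hx
          simpa [mul_assoc] using this
        rwa [(hTc x hx a haT).eq, mul_inv_cancel_right] at ha)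
    refine hxA (hmax ⟨sup_le (zpowers_le.2 hx) hAT, fun hzs => hc ?_⟩ le_sup_right
      (mem_sup_left (mem_zpowers x)))
    rw [← SetLike.mem_coe, Subgroup.coe_mul_of_left_le_normalizer_right _ _ hxn] at hzs
    obtain ⟨y, hy, a, ha, hya : y * a = z⟩ := hzs
    obtain ⟨k, rfl⟩ := mem_zpowers_iff.1 hy
    have hx2 : x ^ (2 : ℤ) = 1 := by rw [zpow_two]; exact hel T x hx
    rcases Int.even_or_odd' k with ⟨j, rfl | rfl⟩
    · rw [_root_.zpow_mul, hx2, _root_.one_zpow, one_mul] at hya
      exact absurd (hya ▸ ha) hzA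
    · rw [_root_.zpow_add, _root_.zpow_mul, hx2, _root_.one_zpow, one_mul, zpow_one] at hya
      rw [eq_mul_inv_of_mul_eq hya]
      exact mul_mem_sup (mem_zpowers z) (inv_mem ha)
  -- a complement of `Z` in `H`
  haveI : IsMulCommutative Z := inferInstance
  obtain ⟨B, hB⟩ := Coprime.gaschutz_exists (K := Z) (U := (T : Subgroup H)) (A := A) ⟨hAT, hinf, hsup⟩
    (by rw [Nat.card_zpowers, hz]; exact (Nat.prime_two.coprime_iff_not_dvd).2 T.not_dvd_index)
  have hker' : f.ker = Z := le_antisymm (fun x hx => by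
    rcases hker x hx with rfl | rfl
    · exact one_mem _
    · exact mem_zpowers _) (zpowers_le.2 hfz)
  have hbij : Function.Bijective (f.comp B.subtype) := by
    refine ⟨(injective_iff_map_eq_one _).2 fun b hb => ?_, fun q => ?_⟩
    · have hbZ : (b : H) ∈ Z := hker' ▸ hb
      exact Subtype.ext (mem_bot.1 (hB.disjoint.le_bot ⟨hbZ, b.2⟩))
    · obtain ⟨x, rfl⟩ := hf q
      obtain ⟨⟨⟨w, hw⟩, b⟩, hwb⟩ := hB.2 x
      refine ⟨b, ?_⟩
      rw [← show w * (b : H) = x from hwb, map_mul, show f w = 1 from hker'.ge hw, one_mul]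
      rfl
  let eB : B ≃* Q := MulEquiv.ofBijective _ hbij
  let eZ : Multiplicative (ZMod 2) ≃* Z := mulEquivOfPrimeCardEq (p := 2)
    (by rw [Nat.card_congr Multiplicative.toAdd, Nat.card_zmod]) (by rw [Nat.card_zpowers, hz])
  have hcomm : ∀ (c : Multiplicative (ZMod 2)) (q : Q),
      Commute (Z.subtype (eZ c)) (B.subtype (eB.symm q)) := fun c q =>
    (mem_center_iff.1 (hZle (eZ c).2) _).symm
  let Φ := MonoidHom.noncommCoprod (Z.subtype.comp eZ.toMonoidHom) (B.subtype.comp eB.symm.toMonoidHom) hcomm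
  refine ⟨(MulEquiv.ofBijective Φ ⟨?_, fun x => ?_⟩).symm⟩
  · refine (MonoidHom.noncommCoprod_injective _ _ hcomm).2 ⟨Z.subtype_injective.comp eZ.injective, B.subtype_injective.comp eB.symm.injective, ?_⟩
    refine hB.disjoint.mono ?_ ?_
    · rintro _ ⟨c, rfl⟩; exact (eZ c).2
    · rintro _ ⟨q, rfl⟩; exact (eB.symm q).2
  · obtain ⟨⟨w, b⟩, hwb⟩ := hB.2 x
    refine ⟨(eZ.symm w, eB b), ?_⟩
    show (eZ (eZ.symm w) : H) * (eB.symm (eB b) : H) = x
    rw [eZ.apply_symm_apply, eB.symm_apply_apply]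
    exact hwb

theorem zmod_two_mul : ∀ a b : Multiplicative (ZMod 2), a ≠ 1 → b ≠ 1 → a * b = 1 := by decide

open ReeType in
/-- A simple group with centralizer `Z₂ × PSL(2, 3^(2k+1))` of an involution has an inverted element of
order three. -/
theorem not_hg_of_centralizer {X : Type u} [Group X] [Finite X] [IsSimpleGroup X]
    (hna : ¬ IsMulCommutative X) (hab : ∀ P : Sylow 2 X, ∀ a b : P, a * b = b * a) {t : X} (ht : orderOf t = 2)
    {F : Type} [Field F] [Fintype F] {k : ℕ} (hk : 1 ≤ k) (hF : Fintype.card F = 3 ^ (2 * k + 1))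
    (e : centralizer ({t} : Set X) ≃* Multiplicative (ZMod 2) × Matrix.ProjectiveSpecialLinearGroup (Fin 2) F) :
    ¬ FourFree.HG X := by
  classical
  haveI := Fact.mk Nat.prime_two
  set C := centralizer ({t} : Set X)
  have htC : t ∈ C := mem_centralizer_singleton_iff.2 rfl
  have hq4 : 4 ≤ Fintype.card F := by
    rw [hF]
    exact le_trans (by norm_num) (Nat.pow_le_pow_right (by norm_num) (show 2 ≤ 2 * k + 1 by omega))
  let i : Matrix.ProjectiveSpecialLinearGroup (Fin 2) F →* X :=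
    C.subtype.comp (e.symm.toMonoidHom.comp (MonoidHom.inr _ _))
  have hi : Function.Injective i := C.subtype_injective.comp
    (e.symm.injective.comp fun a b h => congrArg Prod.snd h)
  set K : Subgroup X := i.range
  have hKe : ∀ c : C, (c : X) ∈ K ↔ (e c).1 = 1 := by
    intro c
    constructor
    · rintro ⟨y, hy⟩
      rw [show c = e.symm (1, y) from Subtype.ext hy.symm, e.apply_symm_apply]
    · intro hc
      exact ⟨(e c).2, congrArg Subtype.val (e.injective (by
        show e (e.symm (1, (e c).2)) = e c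
        rw [e.apply_symm_apply, ← hc]))⟩
  have hcen : (e ⟨t, htC⟩).2 = 1 := by
    have h : (e ⟨t, htC⟩).2 ∈ center (Matrix.ProjectiveSpecialLinearGroup (Fin 2) F) := by
      refine mem_center_iff.2 fun y => ?_
      have h1 : e.symm (1, y) * ⟨t, htC⟩ = ⟨t, htC⟩ * e.symm (1, y) :=
        Subtype.ext (mem_centralizer_singleton_iff.1 (e.symm (1, y)).2)
      simpa using congrArg (fun z => (e z).2) h1
    rwa [CfsgLib.Classical.ExcIso.center_psl_bot (le_refl 2) (fun _ => by omega), mem_bot] at h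
  have hne : (e ⟨t, htC⟩).1 ≠ 1 := fun h => Invol.invol_ne_one ht (congrArg Subtype.val
    ((EmbeddingLike.map_eq_one_iff (f := e)).1 (Prod.ext h hcen : e ⟨t, htC⟩ = 1)))
  have htwo := zmod_two_mul
  obtain ⟨P, hP⟩ := (IsPGroup.of_card (G := zpowers t) (p := 2) (n := 1)
    (by rw [Nat.card_zpowers, ht, pow_one])).exists_le_sylow
  have odd_index : Odd C.index := by
    rw [Nat.odd_iff, ← Nat.two_dvd_ne_zero]
    exact fun h => P.not_dvd_index (h.trans (index_dvd_of_le fun x hx => mem_centralizer_singleton_iff.2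
      (congrArg Subtype.val (hab P ⟨x, hx⟩ ⟨t, hP (mem_zpowers t)⟩))))
  obtain ⟨m, n, hm, hn⟩ : ∃ m n : ℕ, 3 ^ (2 * k + 1) + 1 = 4 * m ∧ 3 ^ (2 * k + 1) = 2 * n + 1 := by
    have h8 : 3 ^ (2 * k + 1) % 4 = 3 := by
      rw [pow_succ, pow_mul, Nat.mul_mod, Nat.pow_mod]; norm_num
    exact ⟨(3 ^ (2 * k + 1) + 1) / 4, 3 ^ (2 * k + 1) / 2, by omega, by omega⟩
  obtain ⟨T⟩ := exists_setup_of_kit hna t K
    (Kit.of_equiv hk hF rfl hm hn (MonoidHom.ofInjective hi).symm) ht
    (by rintro _ ⟨y, rfl⟩; exact mem_centralizer_singleton_iff.1 (e.symm.toMonoidHom (MonoidHom.inr _ _ y)).2)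
    (fun c hc => by
      let c' : C := ⟨c, mem_centralizer_singleton_iff.2 hc.eq⟩
      by_cases h : (e c').1 = 1
      · exact Or.inl ((hKe c').2 h)
      · exact Or.inr ((hKe (⟨t, htC⟩ * c')).2 (by rw [map_mul, Prod.fst_mul]; exact htwo _ _ hne h)))
    (fun h => hne ((hKe ⟨t, htC⟩).1 h)) odd_index
  exact T.not_hg

end CfsgLib.EqualOrder2
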