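import Cfsg.Agent.Lib.EqualOrder2.Torus
import Cfsg.Agent.Lib.EqualOrder2.Split

/-!
# Elements of order three

When the fields have `3 ^ (2k+1) ≥ 27` elements no element of order three is inverted.
-/

set_option autoImplicit false
set_option linter.unusedSectionVars false
set_option linter.style.haveILetI false

namespace CfsgLib.EqualOrder2

open Subgroup

universe u

variable {G : Type u} [Group G] [Finite G]

namespace Ctx

variable (C : Ctx G)

/-- No element of order three is inverted when the field has `3 ^ (2k+1)` elements. -/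
theorem hg {t : G} (ht : t ∈ (C.S : Subgroup G)) (ht1 : t ≠ 1) {k : ℕ} (hk : 1 ≤ k)
    (hF : Fintype.card (C.loc t (C.invol_mem ht ht1)).F = 3 ^ (2 * k + 1)) : FourFree.HG G := by
  classical
  haveI := Fact.mk Nat.prime_two
  haveI : Fact (Nat.Prime 3) := ⟨Nat.prime_three⟩
  have ht2 := C.invol_mem ht ht1
  set L := C.loc t ht2
  set Ct := centralizer ({t} : Set G)
  obtain ⟨m, n, hm, hn⟩ : ∃ m n : ℕ, 3 ^ (2 * k + 1) + 1 = 4 * m ∧ 3 ^ (2 * k + 1) = 2 * n + 1 := by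
    have h4 : 3 ^ (2 * k + 1) % 4 = 3 := by rw [pow_succ, pow_mul, Nat.mul_mod, Nat.pow_mod]; norm_num
    exact ⟨(3 ^ (2 * k + 1) + 1) / 4, 3 ^ (2 * k + 1) / 2, by omega, by omega⟩
  have kit := ReeType.Kit.of_equiv hk hF rfl hm hn
    (MulEquiv.refl (Matrix.ProjectiveSpecialLinearGroup (Fin 2) L.F))
  -- an element of order three in the inner part
  obtain ⟨u₀, hu₀, hu₀i⟩ : ∃ u : G, orderOf u = 3 ∧ u ∈ C.inner ht2 := by
    obtain ⟨k₀, hk₀⟩ := exists_prime_orderOf_dvd_card' 3 (C.three_dvd_psl ht2)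
    obtain ⟨y, hy⟩ := L.inn k₀
    have hyi : (y : G) ∈ C.inner ht2 := (C.mem_inner ht2 y).2 ⟨k₀, hy⟩
    have h3 : 3 ∣ orderOf (y : G) := by
      rw [← hk₀, ← orderOf_injective _ L.conj_injective k₀, ← hy, Subgroup.orderOf_coe]
      exact orderOf_map_dvd _ _
    exact ⟨(y : G) ^ (orderOf (y : G) / 3), orderOf_pow_orderOf_div (orderOf_pos _).ne' h3,
      pow_mem hyi _⟩
  intro a x hx3 hax
  by_contra hx1
  obtain ⟨g, hg⟩ := conj_zpowers C.hD Nat.prime_three (orderOf_eq_prime hx3 hx1) hu₀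
  set u := g * x * g⁻¹ with hu
  have huW : u ∈ C.inner ht2 := zpowers_le.2 hu₀i (hg ▸ ⟨x, mem_zpowers x, rfl⟩)
  have huo : orderOf u = 3 := by rw [hu, orderOf_conj_eq]; exact orderOf_eq_prime hx3 hx1
  set g' := g * a * g⁻¹ with hg'
  have hinv : g' * u * g'⁻¹ = u⁻¹ := by
    calc g' * u * g'⁻¹ = g * (a * x * a⁻¹) * g⁻¹ := by rw [hg', hu]; group
      _ = u⁻¹ := by rw [hax, hu]; group
  have hut : Commute u t := mem_centralizer_singleton_iff.1 (C.inner_le ht2 huW)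
  obtain ⟨b₀, hb₀⟩ := (C.mem_inner ht2 ⟨u, C.inner_le ht2 huW⟩).1 huW
  have hb₀o : orderOf b₀ = 3 := by
    refine orderOf_eq_prime (L.conj_injective ?_) fun h => ?_
    · rw [map_pow, map_one, ← hb₀, ← map_pow, ← map_one L.φ]
      refine congrArg _ (Subtype.ext ?_)
      rw [Subgroup.coe_pow, Subgroup.coe_one, ← huo, pow_orderOf_eq_one]
    · rw [h, map_one] at hb₀
      have := C.phi_eq_one_odd ht2 (x := ⟨u, C.inner_le ht2 huW⟩) hb₀ (by rw [huo]; decide)
      rw [show u = 1 from this, orderOf_one] at huo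
      norm_num at huo
  -- `⟨t⟩` is a Sylow subgroup of `C(u)`
  set D := centralizer ({u} : Set G)
  let tD : D := ⟨t, mem_centralizer_singleton_iff.2 hut.symm.eq⟩
  have htD : orderOf tD = 2 := by rw [← Subgroup.orderOf_coe]; exact ht2
  obtain ⟨P, hP⟩ := (IsPGroup.of_card (G := zpowers tD) (p := 2) (n := 1)
    (by rw [Nat.card_zpowers, htD, pow_one])).exists_le_sylow
  have hPt : ∀ s ∈ (P : Subgroup D), (s : G) = 1 ∨ (s : G) = t := by
    intro s hs
    obtain ⟨T, hT⟩ := (P.2.map D.subtype).exists_le_sylow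
    have hel := elementary_sylow C.S C.hS T
    have hs' : (s : G) ∈ (T : Subgroup G) := hT ⟨s, hs, rfl⟩
    have ht' : t ∈ (T : Subgroup G) := hT ⟨tD, hP (mem_zpowers _), rfl⟩
    have hsC : (s : G) ∈ Ct := mem_centralizer_singleton_iff.2 (comm_of_mem T hel hs' ht').eq
    have hs2 := sq_of_mem T hel hs'
    obtain ⟨b, hb⟩ := L.invol_inner ⟨s, hsC⟩ (Subtype.ext hs2)
    have hb2 : b ^ 2 = 1 := L.conj_injective (by
      rw [map_pow, map_one, ← hb, ← map_pow, ← map_one L.φ]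
      exact congrArg _ (Subtype.ext (by rw [Subgroup.coe_pow, sq]; exact hs2)))
    have hbc : b ∈ centralizer ({b₀} : Set _) := mem_centralizer_singleton_iff.2 (L.conj_injective (by
      rw [map_mul, map_mul, ← hb, ← hb₀, ← map_mul, ← map_mul]
      exact congrArg _ (Subtype.ext (mem_centralizer_singleton_iff.1 s.2))))
    have hb3 := kit.cent_three_cube hb₀o hbc
    rw [pow_succ, hb2, one_mul] at hb3
    exact C.phi_eq_one ht2 (x := ⟨s, hsC⟩) (by rw [hb, hb3, map_one])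
  -- an inverting element in `C(t)`
  have hgD : g' * t * g'⁻¹ ∈ D := by
    have h : Commute (g' * u * g'⁻¹) (g' * t * g'⁻¹) := hut.map (MulAut.conj g').toMonoidHom
    rw [hinv] at h
    exact mem_centralizer_singleton_iff.2 (Commute.inv_left_iff.1 h).symm.eq
  obtain ⟨c, hc⟩ := Invol.exists_conj_le_sylow (G := D) (IsPGroup.of_card (n := 1)
    (by rw [Nat.card_zpowers, ← Subgroup.orderOf_coe, show ((⟨_, hgD⟩ : D) : G) = g' * t * g'⁻¹ from rfl,
      orderOf_conj_eq, ht2, pow_one]) : IsPGroup 2 (zpowers (⟨_, hgD⟩ : D))) P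
  have hct : (c : G) * (g' * t * g'⁻¹) * (c : G)⁻¹ = t := by
    refine (hPt _ (hc _ (mem_zpowers _))).resolve_left fun h => ?_
    have h' : (c : G) * (g' * t * g'⁻¹) * (c : G)⁻¹ = 1 := h
    have := orderOf_conj_eq (c : G) (g' * t * g'⁻¹)
    rw [h', orderOf_one, orderOf_conj_eq, ht2] at this
    norm_num at this
  set h := (c : G) * g' with hh
  have hhC : h ∈ Ct := mem_centralizer_singleton_iff.2 (by
    rw [← mul_inv_eq_iff_eq_mul, hh]
    calc (c : G) * g' * t * ((c : G) * g')⁻¹ = (c : G) * (g' * t * g'⁻¹) * (c : G)⁻¹ := by group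
      _ = t := hct)
  have hhinv : h * u * h⁻¹ = u⁻¹ := by
    calc h * u * h⁻¹ = (c : G) * (g' * u * g'⁻¹) * (c : G)⁻¹ := by rw [hh]; group
      _ = u⁻¹ := by
        rw [hinv, (show Commute (c : G) u from mem_centralizer_singleton_iff.1 c.2).inv_right.eq,
          mul_inv_cancel_right]
  obtain ⟨w, hw, κ, hκ, hwκ⟩ := C.cent_eq_inner_K ht ht1 hhC
  have hpow : ∀ i : ℕ, h ^ i * (κ ^ i)⁻¹ ∈ C.inner ht2 := by
    intro i
    induction i with
    | zero => simp
    | succ i ih =>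
      rw [show h ^ (i + 1) * (κ ^ (i + 1))⁻¹ = (h ^ i * (κ ^ i)⁻¹) * (κ ^ i * w * (κ ^ i)⁻¹) by
        rw [pow_succ h, pow_succ κ, hwκ]; group]
      exact mul_mem ih (C.inner_conj ht2 (C.K_le_cent ht (pow_mem hκ i)) hw)
  obtain ⟨j, hj⟩ := C.K_odd_order hκ
  have hhW : h ^ (2 * j + 1) ∈ C.inner ht2 := by
    have := hpow (2 * j + 1)
    rwa [← hj, pow_orderOf_eq_one, inv_one, mul_one, hj] at this
  have hinv' : h ^ (2 * j + 1) * u * (h ^ (2 * j + 1))⁻¹ = u⁻¹ := by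
    have hc2 : Commute (h ^ 2) u := mul_inv_eq_iff_eq_mul.1 (by
      rw [sq, show h * h * u * (h * h)⁻¹ = h * (h * u * h⁻¹) * h⁻¹ by group, hhinv,
        show h * u⁻¹ * h⁻¹ = (h * u * h⁻¹)⁻¹ by group, hhinv, inv_inv])
    calc h ^ (2 * j + 1) * u * (h ^ (2 * j + 1))⁻¹
        = h * ((h ^ 2) ^ j * u * ((h ^ 2) ^ j)⁻¹) * h⁻¹ := by rw [pow_succ', pow_mul]; group
      _ = u⁻¹ := by rw [(hc2.pow_left j).eq, mul_inv_cancel_right, hhinv]
  obtain ⟨b₁, hb₁⟩ := (C.mem_inner ht2 ⟨_, C.inner_le ht2 hhW⟩).1 hhW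
  refine kit.not_inverted_three hb₀o (g := b₁) (L.conj_injective ?_)
  rw [map_mul, map_mul, map_inv, map_inv, ← hb₀, ← hb₁, ← map_inv, ← map_inv, ← map_mul, ← map_mul]
  exact congrArg _ (Subtype.ext hinv')

end Ctx

end CfsgLib.EqualOrder2
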