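import Cfsg.Agent.Lib.EqualOrder2.Fixed
import Cfsg.Agent.Lib.EqualOrder2.Three
import Cfsg.Agent.Lib.EqualOrder2.Recognition
import Cfsg.Agent.Lib.Perm.Dickson.Minimal
import Cfsg.Agent.Lib.FT.NoMinSimple
import Cfsg.Agent.Lib.Classical.ExcIso
import Cfsg.Agent.S0343

/-!
# The order of `C(K)/K`

It has no factor `l ^ 2` for a prime `l ≥ 5`.
-/

set_option autoImplicit false
set_option linter.unusedSectionVars false
set_option linter.style.haveILetI false

namespace CfsgLib.EqualOrder2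

open Subgroup

universe u

variable {G : Type u} [Group G] [Finite G]

theorem card_psl_three {F : Type} [Field F] [Fintype F] (h3 : Fintype.card F = 3) :
    Nat.card (Matrix.ProjectiveSpecialLinearGroup (Fin 2) F) = 12 := by
  have h := CfsgLib.Classical.card_psl2 (F := F)
  rw [h3, show Nat.gcd 2 (3 - 1) = 2 by decide] at h
  omega

/-- `PSL(2, q)`, `q ≡ 3, 5` modulo `8`, has no non-trivial normal subgroup of odd order. -/
theorem psl_odd_normal_bot {F : Type} [Field F] [Fintype F]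
    (hq : Fintype.card F % 8 = 3 ∨ Fintype.card F % 8 = 5)
    (N : Subgroup (Matrix.ProjectiveSpecialLinearGroup (Fin 2) F)) [N.Normal] (hN : Odd (Nat.card N)) :
    N = ⊥ := by
  classical
  haveI := Fact.mk Nat.prime_two
  by_cases h3 : Fintype.card F = 3
  swap
  · have hsimp := CfsgLib.Perm.Dickson.psl_simple_noncomm (F := F)
      (by rw [Nat.card_eq_fintype_card]; omega)
    haveI := hsimp.1
    refine ((inferInstance : N.Normal).eq_bot_or_eq_top).resolve_right fun h => ?_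
    haveI : Group.IsSolvable (Matrix.ProjectiveSpecialLinearGroup (Fin 2) F) :=
      FT.isSolvable_of_odd _ (by rwa [h, card_top] at hN)
    exact hsimp.2 ⟨⟨IsSimpleGroup.comm_iff_isSolvable.2 inferInstance⟩⟩
  set X := Matrix.ProjectiveSpecialLinearGroup (Fin 2) F
  have h12 : Nat.card X = 12 := card_psl_three h3
  by_contra hne
  have hN3 : Nat.card N = 3 := by
    have h1 : Nat.card N ∣ 3 := ((Nat.coprime_two_right.2 hN).pow_right 2).dvd_of_dvd_mul_left
      (show Nat.card N ∣ 2 ^ 2 * 3 from (card_subgroup_dvd_card N).trans (by rw [h12]))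
    exact ((Nat.dvd_prime Nat.prime_three).1 h1).resolve_left fun e => hne (Subgroup.card_eq_one.1 e)
  haveI : Fact (Nat.Prime 3) := ⟨Nat.prime_three⟩
  haveI : IsCyclic N := isCyclic_of_prime_card (p := 3) hN3
  obtain ⟨V⟩ : Nonempty (Sylow 2 X) := inferInstance
  have hV4 : Nat.card (V : Subgroup X) = 4 := by
    rw [V.card_eq_multiplicity, h12, show (12 : ℕ) = 2 ^ 2 * 3 by norm_num,
      Nat.factorization_mul (by norm_num) (by norm_num), Finsupp.add_apply, Nat.prime_two.factorization_pow,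
      Finsupp.single_eq_same, Nat.factorization_eq_zero_of_not_dvd (show ¬ 2 ∣ 3 by norm_num)]
    norm_num
  haveI : IsMulCommutative (V : Subgroup X) :=
    ⟨⟨IsPGroup.commutative_of_card_eq_prime_sq (p := 2) (by rw [hV4]; norm_num)⟩⟩
  let act : X →* MulAut N := MulAut.conjNormal
  obtain ⟨v, hv1, hv⟩ : ∃ v : (V : Subgroup X), v ≠ 1 ∧ act v = 1 := by
    by_contra hc
    push Not at hc
    have hinj : Function.Injective (act.comp (V : Subgroup X).subtype) :=
      (injective_iff_map_eq_one _).2 fun v hv => by_contra fun e => hc v e hv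
    have := Nat.card_le_card_of_injective _ hinj
    rw [hV4, IsCyclic.card_mulAut, hN3, Nat.totient_prime Nat.prime_three] at this
    omega
  have hNc : N ≤ centralizer ({(v : X)} : Set X) := fun z hz => mem_centralizer_singleton_iff.2 (by
    have h := congrArg Subtype.val (DFunLike.congr_fun hv (⟨z, hz⟩ : N))
    rw [MulAut.conjNormal_apply] at h
    exact (mul_inv_eq_iff_eq_mul.1 h).symm)
  have hVc : (V : Subgroup X) ≤ centralizer ({(v : X)} : Set X) := fun z hz =>
    mem_centralizer_singleton_iff.2 (congrArg Subtype.val (mul_comm' (⟨z, hz⟩ : (V : Subgroup X)) v))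
  have htop : centralizer ({(v : X)} : Set X) = ⊤ := by
    refine eq_top_of_card_eq _ (Nat.dvd_antisymm (card_subgroup_dvd_card _) ?_)
    rw [h12, show (12 : ℕ) = 4 * 3 by rfl]
    exact Nat.Coprime.mul_dvd_of_dvd_of_dvd (by norm_num) (hV4 ▸ card_dvd_of_le hVc) (hN3 ▸ card_dvd_of_le hNc)
  have hcen : (v : X) ∈ center X := mem_center_iff.2 fun z =>
    mem_centralizer_singleton_iff.1 (htop.ge (mem_top z))
  rw [CfsgLib.Classical.ExcIso.center_psl_bot (le_refl 2) (fun _ => by omega), mem_bot] at hcen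
  exact hv1 (Subtype.ext hcen)

namespace Ctx

variable (C : Ctx G)

theorem not_three_dvd_K : ¬ 3 ∣ Nat.card C.K := by
  haveI := Fact.mk Nat.prime_two
  obtain ⟨t, -, ht2⟩ := Invol.exists_invol_mem (H := (C.S : Subgroup G)) (by rw [C.h8]; decide)
  exact fun h => C.not_dvd_psl ht2 Nat.prime_three (Or.inr h) (C.three_dvd_psl ht2)

/-- `C(K)/K` has no inverted element of order three if `G` has none. -/
theorem hg_X0 (hG : FourFree.HG G) : FourFree.HG C.X0 := by
  intro a x hx hax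
  obtain ⟨a, rfl⟩ := QuotientGroup.mk'_surjective _ a
  obtain ⟨x, rfl⟩ := QuotientGroup.mk'_surjective _ x
  set c := Nat.card C.K * Nat.card C.K with hc
  have hc3 : c % 3 = 1 := by
    have := C.not_three_dvd_K
    rw [hc, Nat.mul_mod]
    rcases (show Nat.card C.K % 3 = 1 ∨ Nat.card C.K % 3 = 2 by omega) with h | h <;> rw [h]
  set y := x ^ c with hy
  have hyx : C.proj y = C.proj x := by
    rw [hy, map_pow, ← Nat.div_add_mod c 3, hc3, pow_add, pow_mul,
      show C.proj x ^ 3 = 1 from hx, one_pow, one_mul, pow_one]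
  have hK : ∀ k ∈ C.K, k ^ c = 1 := fun k hk => by
    rw [hc, pow_mul, show k ^ Nat.card C.K = 1 from
      congrArg Subtype.val (pow_card_eq_one' (x := (⟨k, hk⟩ : C.K))), one_pow]
  have hy3 : (y : G) ^ 3 = 1 := by
    have h : ((x : G)) ^ 3 ∈ C.K := by
      rw [← Subgroup.coe_pow]; exact (C.proj_eq_one _).1 (by rw [map_pow]; exact hx)
    rw [hy, Subgroup.coe_pow, ← pow_mul, mul_comm, pow_mul, hK _ h]
  have hk : ((a * y * a⁻¹ * y : C.CK) : G) ∈ C.K := (C.proj_eq_one _).1 (by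
    rw [map_mul, map_mul, map_mul, map_inv, hyx]
    exact mul_eq_one_iff_eq_inv.2 hax)
  set k := ((a * y * a⁻¹ * y : C.CK) : G) with hkdef
  have hky : Commute k (y : G) := mem_centralizer_iff.1 y.2 k hk
  have heq : (a : G) * y * (a : G)⁻¹ = k * (y : G)⁻¹ := by rw [hkdef]; simp
  have h3 := congrArg (fun z : G => z ^ 3) heq
  simp only [conj_pow, hy3, mul_one, mul_inv_cancel, hky.inv_right.mul_pow, inv_pow, inv_one] at h3
  have hk1 : k = 1 := orderOf_eq_one_iff.1 (Nat.dvd_one.1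
    (((Nat.prime_three.coprime_iff_not_dvd).2 C.not_three_dvd_K).gcd_eq_one ▸
      Nat.dvd_gcd (orderOf_dvd_of_pow_eq_one h3.symm) (Subgroup.orderOf_dvd_natCard _ hk)))
  rw [hk1, one_mul] at heq
  show C.proj x = 1
  rw [← hyx, show y = 1 from Subtype.ext (hG _ _ hy3 heq), map_one]

/-- The data of an involution of `S`. -/
theorem cent_data {t : G} (ht : t ∈ (C.S : Subgroup G)) (ht1 : t ≠ 1) :
    orderOf (C.proj ⟨t, C.S_le_CK ht⟩) = 2 := by
  have ht2 : (⟨t, C.S_le_CK ht⟩ : C.CK) * ⟨t, C.S_le_CK ht⟩ = 1 := Subtype.ext (sq_of_mem C.S C.hS ht)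
  refine Invol.invol_iff.2 ⟨by rw [← map_mul, ht2, map_one], fun h => ht1 ?_⟩
  exact EqConj.disjoint_S_oddPart C.S ht ((C.proj_eq_one _).1 h)

theorem card_field₀ {t : G} (ht : t ∈ (C.S : Subgroup G)) (ht1 : t ≠ 1) {q₀ : ℕ}
    (h : q₀ ^ Nat.card C.K = Fintype.card (C.loc t (C.invol_mem ht ht1)).F) :
    q₀ % 8 = 3 ∨ q₀ % 8 = 5 := by
  obtain ⟨j, hj⟩ := EqConj.oddPart_odd C.S
  have hm := (C.loc t (C.invol_mem ht ht1)).mod_eight
  have hodd : Odd q₀ := by
    have : Odd (q₀ ^ Nat.card C.K) := h ▸ (C.loc t (C.invol_mem ht ht1)).odd_field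
    exact (Nat.odd_pow_iff (by rw [hj]; omega)).1 this
  rw [← h, hj, (mod_eight_pow hodd j).2] at hm
  exact hm

/-- `C(K)/K` has trivial odd core. -/
theorem oddCore_X0 : Cfsg.oddCore C.X0 = ⊥ := by
  classical
  haveI := Fact.mk Nat.prime_two
  set R := Cfsg.oddCore C.X0
  have hR2 : ¬ 2 ∣ Nat.card R := Coprime.pPrimeCore_not_dvd Nat.prime_two
  haveI : IsMulCommutative (C.S0 : Subgroup C.X0) := C.S0_elementary.1
  refine le_bot_iff.1 (Coprime.le_of_centralizers_le (A := (C.S0 : Subgroup C.X0)) ?_ ?_ ?_ fun a ha ha1 => ?_)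
  · intro hcyc
    have h := IsCyclic.exponent_eq_card (α := (C.S0 : Subgroup C.X0))
    have h2 : Monoid.exponent (C.S0 : Subgroup C.X0) ∣ 2 := Monoid.exponent_dvd_of_forall_pow_eq_one
      fun x => Subtype.ext (C.S0_elementary.2 x x.2)
    rw [h, C.card_S0] at h2
    norm_num at h2
  · rw [normalizer_eq_top_iff.2 (inferInstance : R.Normal)]; exact le_top
  · rw [C.card_S0, show (8 : ℕ) = 2 ^ 3 by norm_num]
    exact ((Nat.prime_two.coprime_iff_not_dvd).2 hR2).pow_left 3
  obtain ⟨t, ht, ht1, rfl⟩ := C.invol_S0 ha ha1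
  set Ca := centralizer ({C.proj ⟨t, C.S_le_CK ht⟩} : Set C.X0)
  obtain ⟨F₀, iF, iFf, hq, f, hf, hker⟩ := C.cent_X0 ht ht1
  intro y hy
  set N := R.subgroupOf Ca
  haveI : (N.map f).Normal := Subgroup.Normal.map inferInstance f hf
  have hNodd : Odd (Nat.card (N.map f)) := by
    refine (Nat.not_even_iff_odd.1 fun h => hR2 ?_)
    rw [even_iff_two_dvd] at h
    refine h.trans ((card_map_dvd N f).trans ?_)
    have e : Nat.card (N.map Ca.subtype) = Nat.card N := card_map_of_injective Ca.subtype_injective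
    rw [← e]
    exact card_dvd_of_le (by rw [subgroupOf_map_subtype]; exact inf_le_left)
  have h1 : f ⟨y, hy.2⟩ = 1 := by
    have := psl_odd_normal_bot (C.card_field₀ ht ht1 hq) (N.map f) hNodd
    rw [← mem_bot, ← this]
    exact mem_map_of_mem f (show (⟨y, hy.2⟩ : Ca) ∈ N from hy.1)
  rcases (hker _).1 h1 with h | h
  · exact mem_bot.2 h
  · refine absurd ?_ hR2
    have h2 := Subgroup.orderOf_dvd_natCard R hy.1
    rwa [show y = _ from h, C.cent_data ht ht1] at h2

/-- Lifts of elements normalizing the image of `S` normalize `S`. -/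
theorem normalizer_S0 {x : C.CK} (hx : C.proj x ∈ normalizer ((C.S0 : Subgroup C.X0) : Set C.X0)) :
    (x : G) ∈ normalizer ((C.S : Subgroup G) : Set G) := by
  refine mem_normalizer_fintype fun s hs => ?_
  obtain ⟨r, hr, hre⟩ := C.mem_S0.1 ((mem_normalizer_iff.1 hx _).1 (C.mem_S0.2 ⟨⟨s, C.S_le_CK hs⟩, hs, rfl⟩))
  set k := (r : G)⁻¹ * ((x : G) * s * (x : G)⁻¹) with hk
  have hkK : k ∈ C.K := (C.proj_eq_one (r⁻¹ * (x * ⟨s, C.S_le_CK hs⟩ * x⁻¹))).1 (by
    rw [map_mul, map_inv, map_mul, map_mul, map_inv, hre]; exact inv_mul_cancel _)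
  have heq : (x : G) * s * (x : G)⁻¹ = r * k := by rw [hk, mul_inv_cancel_left]
  have h2 := congrArg (fun z : G => z ^ 2) heq
  simp only [conj_pow, C.hS.2 s hs, mul_one, mul_inv_cancel,
    (show Commute (r : G) k from (EqConj.oddPart_commute C.S hkK hr).symm).mul_pow, C.hS.2 r hr, one_mul] at h2
  have hk1 : k = 1 := orderOf_eq_one_iff.1 (Nat.dvd_one.1
    ((Nat.coprime_two_left.2 (C.K_odd_order hkK)).gcd_eq_one ▸
      Nat.dvd_gcd (orderOf_dvd_of_pow_eq_one h2.symm) dvd_rfl))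
  show (x : G) * s * (x : G)⁻¹ ∈ _
  rw [heq, hk1, mul_one]
  exact hr

theorem CK_dvd_of_normal (hn : (C.S0 : Subgroup C.X0).Normal) : Nat.card C.X0 ∣ 168 := by
  classical
  have hle : C.CK ≤ normalizer ((C.S : Subgroup G) : Set G) := fun g hg =>
    C.normalizer_S0 (x := ⟨g, hg⟩) ((normalizer_eq_top_iff.2 hn).ge (mem_top _))
  obtain ⟨M, hMN, hM, h21⟩ := C.exists_ker_index
  have hcard : Nat.card M = 8 * Nat.card C.K := by
    rw [show M = centralizer ((C.S : Subgroup G) : Set G) from Subgroup.ext hM, card_centralizer C.S C.hS, C.h8]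
  have hN : Nat.card (normalizer ((C.S : Subgroup G) : Set G)) ∣ 168 * Nat.card C.K := by
    have h := (M.subgroupOf (normalizer ((C.S : Subgroup G) : Set G))).card_mul_index
    rw [Nat.card_congr (subgroupOfEquivOfLe hMN).toEquiv, hcard] at h
    rw [← h, show 168 * Nat.card C.K = 8 * Nat.card C.K * 21 by ring]
    exact mul_dvd_mul_left _ h21
  have h := (card_dvd_of_le hle).trans hN
  rw [Subgroup.card_eq_card_quotient_mul_card_subgroup (C.K.subgroupOf C.CK),
    Nat.card_congr (subgroupOfEquivOfLe C.K_le_CK).toEquiv] at h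
  exact Nat.dvd_of_mul_dvd_mul_right Nat.card_pos h

theorem no_sq_of_dvd {n l : ℕ} (hl : l.Prime) (h5 : 5 ≤ l) (hn : n ∣ 1512 ∨ n ∣ 175560) : ¬ l ^ 2 ∣ n := by
  intro h
  have h2 : Nat.Coprime l 2 := (Nat.coprime_primes hl Nat.prime_two).2 (by omega)
  have h3 : Nat.Coprime l 3 := (Nat.coprime_primes hl Nat.prime_three).2 (by omega)
  rcases hn with hn | hn
  · have h' := ((h2.pow 2 3).mul_right (h3.pow 2 3)).dvd_of_dvd_mul_left
      (show l ^ 2 ∣ 2 ^ 3 * 3 ^ 3 * 7 from h.trans hn)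
    have := Nat.le_of_dvd (by norm_num) h'
    have : 25 ≤ l ^ 2 := by rw [sq]; exact Nat.mul_le_mul h5 h5
    omega
  · have h' := ((h2.pow 2 3).mul_right (h3.pow 2 1)).dvd_of_dvd_mul_left
      (show l ^ 2 ∣ 2 ^ 3 * 3 ^ 1 * 7315 from h.trans hn)
    have hlt : l < 86 := by
      by_contra hc
      have := Nat.le_of_dvd (by norm_num) h'
      have : 86 * 86 ≤ l ^ 2 := by rw [sq]; exact Nat.mul_le_mul (by omega) (by omega)
      omega
    have hall : ∀ m < 86, 5 ≤ m → ¬ m * m ∣ 7315 := by decide +kernel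
    exact hall l hlt h5 (by rwa [← sq])

theorem X0_no_sq {l : ℕ} (hl : l.Prime) (h5 : 5 ≤ l) : ¬ l ^ 2 ∣ Nat.card C.X0 := by
  classical
  haveI := Fact.mk Nat.prime_two
  by_cases hn : (C.S0 : Subgroup C.X0).Normal
  · exact no_sq_of_dvd hl h5 (Or.inl ((C.CK_dvd_of_normal hn).trans (by norm_num)))
  obtain ⟨M0, hMn, hMs, hMab, -, hMinv, -⟩ :=
    exists_simple_normal_of_conj C.S0 C.S0_elementary C.invol_conj_X0 C.oddCore_X0 hn
  haveI := hMn
  haveI := hMs
  obtain ⟨t, ht, ht2⟩ := Invol.exists_invol_mem (H := (C.S : Subgroup G)) (by rw [C.h8]; decide)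
  have ht1 := Invol.invol_ne_one ht2
  set a := C.proj ⟨t, C.S_le_CK ht⟩ with ha
  set Ca := centralizer ({a} : Set C.X0)
  obtain ⟨F₀, iF, iFf, hq, f, hf, hker⟩ : ∃ (F₀ : Type) (_ : Field F₀) (_ : Fintype F₀),
      Fintype.card F₀ ^ Nat.card C.K = Fintype.card (C.loc t (C.invol_mem ht ht1)).F ∧
      ∃ f : Ca →* Matrix.ProjectiveSpecialLinearGroup (Fin 2) F₀,
        Function.Surjective f ∧ ∀ y, f y = 1 ↔ (y : C.X0) = 1 ∨ (y : C.X0) = a := C.cent_X0 ht ht1
  have haC : a ∈ Ca := mem_centralizer_singleton_iff.2 rfl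
  have hF8 := C.card_field₀ ht ht1 hq
  by_cases h3 : Fintype.card F₀ = 3
  · -- all centralizers are solvable
    have hcard : Nat.card Ca ∣ 24 := by
      rw [← f.ker.card_mul_index, index_ker, MonoidHom.range_eq_top.2 hf, card_top, card_psl_three h3,
        show (24 : ℕ) = 2 * 12 by rfl]
      refine mul_dvd_mul_right ?_ _
      have e : Nat.card (zpowers (⟨a, haC⟩ : Ca)) = 2 := by
        rw [Nat.card_zpowers, ← Subgroup.orderOf_coe]; exact C.cent_data ht ht1
      refine (card_dvd_of_le fun y hy => ?_).trans e.dvd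
      rcases (hker y).1 hy with h | h
      · rw [show y = 1 from Subtype.ext h]; exact one_mem _
      · rw [show y = ⟨a, haC⟩ from Subtype.ext h]; exact mem_zpowers _
    haveI : Group.IsSolvable Ca := Perm.Dickson.solvable_of_card_dvd_24 hcard
    have hsolv : ∀ z : C.X0, orderOf z = 2 → Group.IsSolvable (centralizer ({z} : Set C.X0)) := by
      intro z hz
      obtain ⟨g, hg⟩ := C.invol_conj_X0 z a hz (C.cent_data ht ht1)
      refine Group.isSolvable_of_isSolvable_injective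
        (f := MonoidHom.codRestrict ((MulAut.conj g).toMonoidHom.comp (centralizer ({z} : Set C.X0)).subtype)
          Ca fun x => ?_) fun a b h => ?_
      · refine mem_centralizer_singleton_iff.2 ?_
        rw [← hg]
        exact ((show Commute (x : C.X0) z from mem_centralizer_singleton_iff.1 x.2).map
          (MulAut.conj g).toMonoidHom).eq
      · exact Subtype.ext ((MulAut.conj g).injective (congrArg Subtype.val h))
    rcases Cfsg.Agent.S3188.result C.S0 C.S0_elementary.1 hsolv with h | ⟨F₁, iF₁, iFf₁, hF₁, N₀, hN₀, ⟨e₀⟩, hC₀⟩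
    · haveI := h
      exact absurd ⟨⟨fun x y => IsSimpleGroup.comm_iff_isSolvable.2 inferInstance x y⟩⟩ hMab
    let φ : C.X0 ≃* C.X0 ⧸ Cfsg.oddCore C.X0 :=
      ((QuotientGroup.quotientMulEquivOfEq C.oddCore_X0).trans QuotientGroup.quotientBot).symm
    set N := N₀.comap φ.toMonoidHom with hNdef
    haveI : N.Normal := hN₀.comap _
    let e : ↥N ≃* Matrix.ProjectiveSpecialLinearGroup (Fin 2) F₁ :=
      ((φ.subgroupMap N).trans (MulEquiv.subgroupCongr (map_comap_eq_self_of_surjective φ.surjective N₀))).trans e₀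
    have hCN : centralizer (N : Set C.X0) = ⊥ := by
      refine (eq_bot_iff_forall _).2 fun x hx => φ.injective ?_
      rw [map_one, ← mem_bot, ← hC₀]
      refine mem_centralizer_iff.2 fun y hy => ?_
      obtain ⟨z, rfl⟩ := φ.surjective y
      rw [← map_mul, ← map_mul, mem_centralizer_iff.1 hx z hy]
    have h4 : 4 ≤ Nat.card F₁ := by
      rw [Nat.card_eq_fintype_card]
      rcases hF₁ with ⟨-, h⟩ | ⟨n, hn2, h⟩
      · omega
      · rw [h]; exact (show 2 ^ 2 ≤ 2 ^ n from Nat.pow_le_pow_right (by norm_num) hn2)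
    obtain ⟨d, hd, hd2⟩ : ∃ d ∈ N, orderOf d = 2 := by
      refine Invol.exists_invol_mem ?_
      by_contra hodd
      have hsimp := CfsgLib.Perm.Dickson.psl_simple_noncomm (F := F₁) h4
      haveI := hsimp.1
      haveI : Group.IsSolvable (Matrix.ProjectiveSpecialLinearGroup (Fin 2) F₁) :=
        FT.isSolvable_of_odd _ (Nat.card_congr e.toEquiv ▸ Nat.not_even_iff_odd.1 hodd)
      exact hsimp.2 ⟨⟨IsSimpleGroup.comm_iff_isSolvable.2 inferInstance⟩⟩
    have hSN : (C.S0 : Subgroup C.X0) ≤ N := fun s hs => by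
      by_cases h1 : s = 1
      · rw [h1]; exact one_mem _
      · obtain ⟨g, hg⟩ := C.invol_conj_X0 d s hd2 (invol_of_mem C.S0 C.S0_elementary hs h1)
        exact hg ▸ (inferInstance : N.Normal).conj_mem d hd g
    have hodd : Odd N.index := by
      rw [← Nat.not_even_iff_odd, even_iff_two_dvd]
      exact fun h => C.S0.not_dvd_index (h.trans (index_dvd_of_le hSN))
    have hsc := socle_card C.S0 C.S0_elementary N hSN e (r := 3) (by rw [C.card_S0]; norm_num)
    rcases hF₁ with ⟨h8, -⟩ | ⟨n, -, hn2⟩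
    · exact absurd (hsc.2 (Nat.odd_iff.2 (by omega))) (by norm_num)
    obtain rfl := hsc.1 n hn2
    haveI := charTwo_of_card hn2 (by norm_num)
    have hi := index_dvd N e hCN hodd
    rw [EqualOrder.card_galoisAut 2 (F := F₁) (n := 3) (by rw [Nat.card_eq_fintype_card, hn2])] at hi
    have hc := Classical.card_psl2 (F := F₁)
    rw [hn2, show Nat.gcd 2 (2 ^ 3 - 1) = 1 by decide, one_mul, ← Nat.card_congr e.toEquiv] at hc
    refine no_sq_of_dvd hl h5 (Or.inl ?_)
    rw [← N.card_mul_index, hc]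
    exact (mul_dvd_mul_left _ hi).trans (by norm_num)
  -- the simple case
  have hF5 : 5 ≤ Fintype.card F₀ := by omega
  have keyt : centralizer ({C.proj ⟨t, C.S_le_CK ht⟩} : Set C.X0) ≤ M0 := by
    have hsimp := CfsgLib.Perm.Dickson.psl_simple_noncomm (F := F₀) (by rw [Nat.card_eq_fintype_card]; omega)
    haveI := hsimp.1
    haveI : ((M0.subgroupOf Ca).map f).Normal := Subgroup.Normal.map inferInstance f hf
    -- a second involution
    obtain ⟨b, hb, hbs⟩ : ∃ b ∈ (C.S0 : Subgroup C.X0), b ∉ zpowers (C.proj ⟨t, C.S_le_CK ht⟩) := by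
      by_contra hc
      push Not at hc
      have := card_dvd_of_le (show (C.S0 : Subgroup C.X0) ≤ zpowers (C.proj ⟨t, C.S_le_CK ht⟩) from hc)
      rw [C.card_S0, Nat.card_zpowers, C.cent_data ht ht1] at this
      norm_num at this
    have hb1 : b ≠ 1 := fun e => hbs (e ▸ one_mem _)
    have hbC : b ∈ Ca := mem_centralizer_singleton_iff.2
      (comm_of_mem C.S0 C.S0_elementary hb (C.mem_S0.2 ⟨_, ht, rfl⟩)).eq
    have htop : (M0.subgroupOf Ca).map f = ⊤ := by
      refine ((inferInstance : ((M0.subgroupOf Ca).map f).Normal).eq_bot_or_eq_top).resolve_left fun h => ?_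
      have h1 : f ⟨b, hbC⟩ = 1 := by
        rw [← mem_bot, ← h]
        exact mem_map_of_mem f (show (⟨b, hbC⟩ : Ca) ∈ M0.subgroupOf Ca from
          hMinv b (invol_of_mem C.S0 C.S0_elementary hb hb1))
      rcases (hker _).1 h1 with e | e
      · exact hb1 e
      · exact hbs ((show b = C.proj ⟨t, C.S_le_CK ht⟩ from e) ▸ mem_zpowers b)
    intro y hy
    obtain ⟨z, hz, hzy⟩ := htop.ge (mem_top (f ⟨y, hy⟩))
    have h1 : f (z⁻¹ * ⟨y, hy⟩) = 1 := by rw [map_mul, map_inv, hzy, inv_mul_cancel]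
    have h2 : ((z : C.X0))⁻¹ * y ∈ M0 := by
      rcases (hker _).1 h1 with e | e
      · exact (show ((z : C.X0))⁻¹ * y = 1 from e) ▸ one_mem _
      · exact (show ((z : C.X0))⁻¹ * y = _ from e) ▸ hMinv _ (C.cent_data ht ht1)
    simpa using M0.mul_mem (show (z : C.X0) ∈ M0 from hz) h2
  have key : ∀ s : G, ∀ hs : s ∈ (C.S : Subgroup G), s ≠ 1 →
      centralizer ({C.proj ⟨s, C.S_le_CK hs⟩} : Set C.X0) ≤ M0 := by
    intro s hs hs1 y hy
    obtain ⟨g, hg⟩ := C.invol_conj_X0 _ a (C.cent_data hs hs1) (C.cent_data ht ht1)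
    have h1 : g * y * g⁻¹ ∈ Ca := by
      refine mem_centralizer_singleton_iff.2 ?_
      rw [← hg]
      exact ((show Commute y _ from mem_centralizer_singleton_iff.1 hy).map (MulAut.conj g).toMonoidHom).eq
    have h2 := hMn.conj_mem _ (keyt h1) g⁻¹
    rwa [show g⁻¹ * (g * y * g⁻¹) * g⁻¹⁻¹ = y by group] at h2
  -- `C(K)/K` is simple
  have hN : normalizer ((C.S0 : Subgroup C.X0) : Set C.X0) ≤ M0 := by
    intro y hy
    obtain ⟨x, rfl⟩ := QuotientGroup.mk'_surjective _ y
    have hxN : (x : G) ∈ normalizer ((C.S : Subgroup G) : Set G) := C.normalizer_S0 hy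
    have hle : normalizer ((C.S : Subgroup G) : Set G) ≤ (M0.comap C.proj).map C.CK.subtype := by
      refine C.normalizer_le fun b hb hb1 n hn => ?_
      let n' : C.CK := ⟨n, C.normalizer_le_cent_K hn.1⟩
      refine ⟨n', key b hb hb1 (mem_centralizer_singleton_iff.2 ?_), rfl⟩
      show C.proj n' * C.proj _ = C.proj _ * C.proj n'
      rw [← map_mul, ← map_mul]
      exact congrArg _ (Subtype.ext (mem_centralizer_singleton_iff.1 hn.2))
    obtain ⟨x', hx', he⟩ := hle hxN
    exact (show x' = x from Subtype.ext he) ▸ hx'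
  have hSM : (C.S0 : Subgroup C.X0) ≤ M0 := (le_normalizer).trans hN
  have hM0 : M0 = ⊤ := by
    rw [eq_top_iff, ← Sylow.normalizer_sup_eq_top' C.S0 hSM]
    exact sup_le hN le_rfl
  haveI : IsSimpleGroup C.X0 := by
    subst hM0
    exact (MulEquiv.isSimpleGroup_congr topEquiv).1 hMs
  have hel : ∀ T : Sylow 2 Ca, ∀ x ∈ (T : Subgroup Ca), x * x = 1 := by
    intro T x hx
    obtain ⟨U, hU⟩ := (T.2.map Ca.subtype).exists_le_sylow
    exact Subtype.ext (sq_of_mem U (elementary_sylow C.S0 C.S0_elementary U) (hU ⟨x, hx, rfl⟩))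
  obtain ⟨e⟩ := two_times (z := (⟨a, haC⟩ : Ca))
    (by rw [← Subgroup.orderOf_coe]; exact C.cent_data ht ht1)
    (mem_center_iff.2 fun x => Subtype.ext (mem_centralizer_singleton_iff.1 x.2)) hel f hf
    ((hker _).2 (Or.inr rfl)) (fun x hx => by
      rcases (hker x).1 hx with h | h
      · exact Or.inl (Subtype.ext h)
      · exact Or.inr (Subtype.ext h))
  have hab : ∀ P : Sylow 2 C.X0, ∀ x y : P, x * y = y * x := fun P x y =>
    (elementary_sylow C.S0 C.S0_elementary P).1.is_comm.comm x y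
  rcases Cfsg.Agent.S0343.result hab (F := F₀) (by omega) a (C.cent_data ht ht1) ⟨e⟩ with ⟨m, hm, hF, -⟩ | ⟨-, hJ⟩
  · exfalso
    obtain ⟨j, hj⟩ := EqConj.oddPart_odd C.S
    have hG : FourFree.HG G := C.hg ht ht1 (k := m + j * (2 * m + 1)) (by omega) (by
      rw [← hq, hF, ← pow_mul, show Nat.card C.K = 2 * j + 1 from hj]
      congr 1; ring)
    refine not_hg_of_centralizer (fun h => ?_) hab (C.cent_data ht ht1) hm hF e (C.hg_X0 hG)
    exact hMab ⟨⟨fun x y => Subtype.ext (h.is_comm.comm x y)⟩⟩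
  · exact no_sq_of_dvd hl h5 (Or.inr hJ.2.dvd)

end Ctx

end CfsgLib.EqualOrder2
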