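import Cfsg.Agent.Lib.EqualOrder2.Field
import Cfsg.Agent.Lib.EqualOrder2.Section

/-!
# `K` meets the simple normal subgroup trivially

A transfer of `C(K)` onto its Sylow `l`-subgroup of order `l ^ 2` kills `S` and its normalizer.
-/

set_option autoImplicit false
set_option linter.unusedSectionVars false
set_option linter.style.haveILetI false

namespace CfsgLib.EqualOrder2

open Subgroup

universe u

variable {G : Type u} [Group G] [Finite G]

/-- The stabilizer of an involution of `S` in `N(S)` has exponent three modulo `C(S)`. -/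
theorem Ctx.pow_three_mem (C : Ctx G) {a n : G} (ha : a ∈ (C.S : Subgroup G)) (ha1 : a ≠ 1)
    (hn : n ∈ normalizer ((C.S : Subgroup G) : Set G)) (hna : n ∈ centralizer ({a} : Set G)) :
    n ^ 3 ∈ centralizer ((C.S : Subgroup G) : Set G) := by
  set N := normalizer ((C.S : Subgroup G) : Set G)
  set M := centralizer ((C.S : Subgroup G) : Set G)
  set St := N ⊓ centralizer ({a} : Set G)
  obtain ⟨M', -, hM', h21⟩ := C.exists_ker_index
  rw [show M' = M from Subgroup.ext hM'] at h21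
  have hMSt : M ≤ St := fun y hy => ⟨Coprime.centralizer_le_normalizer_self _ hy,
    mem_centralizer_singleton_iff.2 (mem_centralizer_iff.1 hy a ha).symm⟩
  have e1 := relIndex_mul_relIndex M St N hMSt inf_le_left
  rw [C.relIndex_stab ha ha1] at e1
  have h3 : M.relIndex St ∣ 3 := Nat.dvd_of_mul_dvd_mul_right (show 0 < 7 by norm_num)
    (show M.relIndex St * 7 ∣ 3 * 7 by rw [e1]; exact h21)
  haveI : (M.subgroupOf St).Normal := (normal_subgroupOf_iff_le_normalizer hMSt).2 fun x hx => by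
    refine mem_normalizer_fintype fun y hy => mem_centralizer_iff.2 fun s hs => ?_
    have hs' : x⁻¹ * s * x ∈ (C.S : Subgroup G) := by
      simpa using (mem_normalizer_iff.1 (inv_mem (show x ∈ N from hx.1)) s).1 hs
    have h := mem_centralizer_iff.1 hy _ hs'
    calc s * (x * y * x⁻¹) = x * (x⁻¹ * s * x * y) * x⁻¹ := by group
      _ = x * (y * (x⁻¹ * s * x)) * x⁻¹ := by rw [h]
      _ = x * y * x⁻¹ * s := by group
  have h := (M.subgroupOf St).pow_index_mem (⟨n, hn, hna⟩ : St)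
  obtain ⟨c, hc⟩ := h3
  have h' := pow_mem h c
  rw [← pow_mul, show (M.subgroupOf St).index * c = 3 from hc.symm] at h'
  exact h'

/-- A power of an element lies in a subgroup containing two of its powers with coprime exponents. -/
theorem mem_of_pow_coprime {H : Subgroup G} {g : G} {m n : ℕ} (hm : g ^ m ∈ H) (hn : g ^ n ∈ H)
    (hcop : m.Coprime n) : g ∈ H := by
  have h := mul_mem (zpow_mem hm (Nat.gcdA m n)) (zpow_mem hn (Nat.gcdB m n))
  rw [← zpow_natCast, ← zpow_natCast, ← _root_.zpow_mul, ← _root_.zpow_mul, ← _root_.zpow_add,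
    ← Nat.gcd_eq_gcd_ab, hcop.gcd_eq_one, Nat.cast_one, zpow_one] at h
  exact h

namespace Ctx

variable (C : Ctx G) {M : Subgroup G} [hMn : M.Normal] [hMs : IsSimpleGroup M]

/-- The contradiction ending the prime ladder. -/
theorem inf_eq_bot (hM : ∀ x : G, orderOf x = 2 → x ∈ M) (hna : ¬ IsMulCommutative M) : C.K ⊓ M = ⊥ := by
  classical
  by_contra hKM
  obtain ⟨l, hl, hlKM, hl2⟩ := C.exists_big hM hna hKM
  haveI := Fact.mk hl
  haveI := Fact.mk Nat.prime_two
  have hlK : l ∣ Nat.card C.K := hlKM.trans (card_dvd_of_le inf_le_left)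
  have hlt : l ≠ 2 := by
    rintro rfl
    exact Nat.not_even_iff_odd.2 (EqConj.oddPart_odd C.S) (even_iff_two_dvd.2 hlK)
  have hl5 : 5 ≤ l := by
    rcases Nat.lt_or_ge l 5 with h | h
    · interval_cases l
      all_goals first | exact absurd hl (by decide) | exact absurd hlK C.not_three_dvd_K | exact absurd rfl hlt
    · exact h
  haveI hKc := C.K_cyclic
  obtain ⟨⟨d, hd⟩, hdo⟩ := exists_prime_orderOf_dvd_card' (G := C.K) l hlK
  rw [← Subgroup.orderOf_coe] at hdo
  -- `l` divides `|K|` once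
  have hK1 : ¬ l ^ 2 ∣ Nat.card C.K := by
    intro h
    obtain ⟨Q⟩ : Nonempty (Sylow l C.K) := inferInstance
    obtain ⟨T, hT⟩ := (Q.2.map C.K.subtype).exists_le_sylow
    have hel := (C.sylow_KM hna hl hlKM T).1
    have hexp : Monoid.exponent (Q : Subgroup C.K) ∣ l := Monoid.exponent_dvd_of_forall_pow_eq_one fun x =>
      Subtype.ext (Subtype.ext (hel.2 _ (hT ⟨x, x.2, rfl⟩)))
    rw [IsCyclic.exponent_eq_card] at hexp
    have h1 := (Q.pow_dvd_card_of_pow_dvd_card h).trans hexp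
    have := Nat.le_of_dvd hl.pos h1
    have : l < l ^ 2 := by rw [sq]; exact lt_mul_of_one_lt_left hl.pos hl.one_lt
    omega
  set K' := C.K.subgroupOf C.CK
  have hK'c : Nat.card K' = Nat.card C.K := Nat.card_congr (subgroupOfEquivOfLe C.K_le_CK).toEquiv
  have hcard : Nat.card C.CK = Nat.card C.X0 * Nat.card C.K := by
    rw [← hK'c]; exact Subgroup.card_eq_card_quotient_mul_card_subgroup K'
  obtain ⟨c, hc⟩ := hlK
  have hlc : ¬ l ∣ c := fun h => hK1 (by rw [hc, sq]; exact mul_dvd_mul_left l h)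
  have h3 : ¬ l ^ 3 ∣ Nat.card C.CK := by
    intro h
    refine C.X0_no_sq hl hl5 ?_
    rw [hcard, hc, show Nat.card C.X0 * (l * c) = l * (Nat.card C.X0 * c) by ring, pow_succ'] at h
    exact ((hl.coprime_iff_not_dvd.2 hlc).pow_left 2).dvd_of_dvd_mul_right
      (Nat.dvd_of_mul_dvd_mul_left hl.pos h)
  -- the Sylow subgroup
  obtain ⟨P⟩ : Nonempty (Sylow l C.CK) := inferInstance
  have hP2 : Nat.card (P : Subgroup C.CK) = l ^ 2 := by
    obtain ⟨k, hk⟩ := P.2.exists_card_eq
    have h1 : l ^ 2 ∣ l ^ k := hk ▸ P.pow_dvd_card_of_pow_dvd_card hl2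
    have h2 : ¬ 3 ≤ k := fun h => h3 ((pow_dvd_pow l h).trans (hk ▸ card_subgroup_dvd_card _))
    have := (Nat.pow_dvd_pow_iff_le_right hl.one_lt).1 h1
    rw [hk, show k = 2 by omega]
  obtain ⟨T, hT⟩ := (P.2.map C.CK.subtype).exists_le_sylow
  obtain ⟨hel, -⟩ := C.sylow_KM hna hl hlKM T
  set P' := (P : Subgroup C.CK).map C.CK.subtype
  have hPc : ∀ a ∈ P', ∀ b ∈ P', Commute a b := fun a ha b hb =>
    congrArg Subtype.val (hel.1.is_comm.comm (⟨a, hT ha⟩ : (T : Subgroup G)) ⟨b, hT hb⟩)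
  let dC : C.CK := ⟨d, C.K_le_CK hd⟩
  have hdc : dC ∈ center C.CK := mem_center_iff.2 fun g => Subtype.ext
    (mem_centralizer_iff.1 g.2 d hd).symm
  have hdP : dC ∈ (P : Subgroup C.CK) := by
    have hp : IsPGroup l (zpowers dC) := IsPGroup.of_card (n := 1)
      (by rw [Nat.card_zpowers, ← Subgroup.orderOf_coe, show ((dC : C.CK) : G) = d from rfl, hdo, pow_one])
    exact (((le_inf le_rfl (zpowers_le.2 (center_le_normalizer _ hdc))).trans
      (hp.inf_normalizer_sylow P).le).trans inf_le_right) (mem_zpowers dC)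
  have hN : normalizer ((P : Subgroup C.CK) : Set C.CK) ≤ centralizer ((P : Subgroup C.CK) : Set C.CK) := by
    intro g hg
    refine mem_centralizer_iff.2 fun x hx => ?_
    set H := centralizer ({x} : Set C.CK)
    suffices g ∈ H from (mem_centralizer_singleton_iff.1 this).symm
    obtain ⟨m, r, hr, hmr⟩ := Nat.exists_eq_pow_mul_and_not_dvd (orderOf_pos g).ne' l hl.ne_one
    refine mem_of_pow_coprime (m := r) (n := l ^ m) ?_ ?_ ((hl.coprime_iff_not_dvd.2 hr).pow_left m).symm
    · have hp : IsPGroup l (zpowers (g ^ r)) := by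
        obtain ⟨i, -, hi⟩ := (Nat.dvd_prime_pow hl).1 (show orderOf (g ^ r) ∣ l ^ m from
          orderOf_dvd_of_pow_eq_one (by rw [← pow_mul, mul_comm, ← hmr, pow_orderOf_eq_one]))
        exact IsPGroup.of_card (n := i) (by rw [Nat.card_zpowers, hi])
      have hgP : g ^ r ∈ (P : Subgroup C.CK) := (((le_inf le_rfl (zpowers_le.2 (pow_mem hg r))).trans
        (hp.inf_normalizer_sylow P).le).trans inf_le_right) (mem_zpowers _)
      exact mem_centralizer_singleton_iff.2 (Subtype.ext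
        (hPc _ ⟨_, hgP, rfl⟩ _ ⟨x, hx, rfl⟩).eq)
    · have hd1 : Commute ((g : G) ^ l ^ m) d :=
        ((show Commute (g : G) d from (mem_centralizer_iff.1 g.2 d hd).symm).pow_left _)
      have hgN : (g : G) ^ l ^ m ∈ normalizer (P' : Set G) := by
        refine pow_mem (mem_normalizer_fintype fun y hy => ?_) _
        obtain ⟨z, hz, rfl⟩ := hy
        exact ⟨g * z * g⁻¹, (mem_normalizer_iff.1 hg z).1 hz, rfl⟩
      have hcop : (orderOf ((g : G) ^ l ^ m)).Coprime l := by
        refine Nat.Coprime.coprime_dvd_left ?_ (hl.coprime_iff_not_dvd.2 hr).symm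
        refine orderOf_dvd_of_pow_eq_one ?_
        rw [← pow_mul, ← hmr, Subgroup.orderOf_coe g |>.symm, pow_orderOf_eq_one]
      have h := C.cent_two hl (dvd_mul_right l c |>.trans hc.symm.dvd) hPc (fun y hy => hel.2 y (hT hy))
        (by rw [card_map_of_injective C.CK.subtype_injective, hP2]) (show d ∈ P' from ⟨dC, hdP, rfl⟩) hdo
        hgN hd1 hcop x ⟨x, hx, rfl⟩
      exact mem_centralizer_singleton_iff.2 (Subtype.ext (by rw [Subgroup.coe_mul, Subgroup.coe_pow]; exact h.eq))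
  obtain ⟨J, hJn, hJi, hJK⟩ : ∃ J : Subgroup C.CK, J.Normal ∧ J.index = l ^ 2 ∧ ¬ l ∣ Nat.card J :=
    ⟨_, inferInstance, (MonoidHom.ker_transferSylow_isComplement' P hN).symm.index_eq_card.trans hP2,
      MonoidHom.not_dvd_card_ker_transferSylow P hN⟩
  haveI := hJn
  have hJmem : ∀ (z : C.CK) (n : ℕ), z ^ n ∈ J ⊔ K' → n.Coprime l → z ∈ J ⊔ K' := by
    intro z n hz hn
    refine mem_of_pow_coprime hz ?_ (hn.pow_right 2)
    refine mem_sup_left ?_
    have := J.pow_index_mem z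
    rwa [hJi] at this
  set H' := (J ⊔ K').map C.CK.subtype
  have hmemH : ∀ x : G, ∀ hx : x ∈ C.CK, (⟨x, hx⟩ : C.CK) ∈ J ⊔ K' → x ∈ H' := fun x hx h => ⟨_, h, rfl⟩
  have hSJ : (C.S.subtype C.S_le_CK : Subgroup C.CK) ≤ J ⊔ K' := by
    intro s hs
    rw [Sylow.coe_subtype] at hs
    refine hJmem s 2 ?_ ((Nat.coprime_primes Nat.prime_two hl).2 (Ne.symm hlt))
    rw [show s ^ 2 = 1 from Subtype.ext (C.hS.2 s hs)]
    exact one_mem _
  have hCS : ∀ x (hx : x ∈ C.CK), x ∈ centralizer ((C.S : Subgroup G) : Set G) →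
      (⟨x, hx⟩ : C.CK) ∈ J ⊔ K' := by
    intro x hx hxc
    obtain ⟨s, hs, k, hk, rfl⟩ := EqConj.cent_prod C.S C.hS hxc
    exact mul_mem (hSJ (show (⟨s, C.S_le_CK hs⟩ : C.CK) ∈ _ from hs))
      (mem_sup_right (show (⟨k, C.K_le_CK hk⟩ : C.CK) ∈ K' from hk))
  have hNS : normalizer ((C.S : Subgroup G) : Set G) ≤ H' := by
    refine C.normalizer_le fun a ha ha1 n hn => hmemH n (C.normalizer_le_cent_K hn.1) ?_
    refine hJmem _ 3 ?_ ((Nat.coprime_primes Nat.prime_three hl).2 (by omega))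
    exact hCS _ (pow_mem (C.normalizer_le_cent_K hn.1) 3) (C.pow_three_mem ha ha1 hn.1 hn.2)
  have htop : J ⊔ K' = ⊤ := by
    rw [eq_top_iff, ← Sylow.normalizer_sup_eq_top' (C.S.subtype C.S_le_CK) hSJ]
    refine sup_le (fun x hx => ?_) le_rfl
    obtain ⟨y, hy, hyx⟩ := hNS (show (x : G) ∈ normalizer ((C.S : Subgroup G) : Set G) from by
      refine mem_normalizer_fintype fun s hs => ?_
      exact (mem_normalizer_iff.1 hx ⟨s, C.S_le_CK hs⟩).1 hs)
    exact (show y = x from Subtype.ext hyx) ▸ hy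
  refine hK1 ?_
  have hcop : (Nat.card J).Coprime (l ^ 2) := ((hl.coprime_iff_not_dvd.2 hJK).pow_left 2).symm
  refine hcop.symm.dvd_of_dvd_mul_left ?_
  have h := CfsgLib.EABasic.card_sup_mul_card_inf_of_le_normalizer (H := K') (N := J)
    (by rw [normalizer_eq_top_iff.2 hJn]; exact le_top)
  rw [sup_comm, htop, card_top] at h
  rw [← hK'c, ← hJi]
  refine (Dvd.intro_left (Nat.card J) J.card_mul_index).trans ?_
  rw [mul_comm (Nat.card J), ← h]
  exact dvd_mul_right _ _

end Ctx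

end CfsgLib.EqualOrder2
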