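import Cfsg.Agent.Lib.EqualOrder2.Torus

/-!
# The prime ladder

If `K` meets the simple normal subgroup `M`, some prime `l` of `K ∩ M` has `l ^ 2 ∣ |C(K)|`.
-/

set_option autoImplicit false
set_option linter.unusedSectionVars false
set_option linter.style.haveILetI false

namespace CfsgLib.EqualOrder2

open Subgroup
open scoped commutatorElement
open CfsgLib.EqualOrder (ConjByOrder)

universe u

variable {G : Type u} [Group G] [Finite G]

/-- Subgroups of an abelian Sylow subgroup are fused by its normalizer. -/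
theorem exists_normalizer_conj_sylow {p : ℕ} [Fact p.Prime] (P : Sylow p G)
    (hP : ∀ a ∈ (P : Subgroup G), ∀ b ∈ (P : Subgroup G), Commute a b) {A B : Subgroup G}
    (hA : A ≤ P) (hB : B ≤ P) {g : G} (hg : B = A.map (MulAut.conj g).toMonoidHom) :
    ∃ n ∈ normalizer ((P : Subgroup G) : Set G), B = A.map (MulAut.conj n).toMonoidHom := by
  set C := centralizer (B : Set G) with hC
  have hSC : (P : Subgroup G) ≤ C := fun s hs => mem_centralizer_iff.2 fun b hb => (hP b (hB hb) s hs).eq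
  have hgC : ((g • P : Sylow p G) : Subgroup G) ≤ C := by
    intro y hy
    rw [Sylow.coe_subgroup_smul] at hy
    obtain ⟨s, hs, rfl⟩ := hy
    refine mem_centralizer_iff.2 fun b hb => ?_
    rw [SetLike.mem_coe, hg] at hb
    obtain ⟨a, ha, rfl⟩ := hb
    show MulAut.conj g a * MulAut.conj g s = MulAut.conj g s * MulAut.conj g a
    rw [← map_mul, ← map_mul, (hP a (hA ha) s hs).eq]
  obtain ⟨c, hc⟩ := MulAction.exists_smul_eq C ((g • P).subtype hgC) (P.subtype hSC)
  rw [Sylow.smul_subtype] at hc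
  have hcg : ((c : G) * g) • P = P := by
    rw [mul_smul]; exact Sylow.subtype_injective hc
  refine ⟨(c : G) * g, Sylow.smul_eq_iff_mem_normalizer.1 hcg, ?_⟩
  have hfix : B.map (MulAut.conj (c : G)).toMonoidHom = B := by
    refine Subgroup.eq_of_le_of_card_ge ?_ (card_map_of_injective (MulAut.conj (c : G)).injective).ge
    rintro _ ⟨b, hb, rfl⟩
    show (c : G) * b * (c : G)⁻¹ ∈ B
    rw [← mem_centralizer_iff.1 c.2 b hb, mul_inv_cancel_right]
    exact hb
  rw [← hfix, hg, map_map]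
  congr 1
  ext x
  simp [mul_assoc]

/-- In a group of order a power of `l`, abelian of exponent `l`, an automorphism of order prime to `l`
centralizing the image of `x ↦ x⁻¹ g x g⁻¹` is trivial. -/
theorem commute_of_fixed_displacement {l : ℕ} {g x y : G} (hy : x⁻¹ * (g * x * g⁻¹) = y)
    (hgy : Commute g y) (hxy : Commute x y) (hyl : y ^ l = 1) (hg : (orderOf g).Coprime l) : Commute g x := by
  have hgx : g * x * g⁻¹ = x * y := by rw [← hy, mul_inv_cancel_left]
  have hk : ∀ i : ℕ, g ^ i * x * (g ^ i)⁻¹ = x * y ^ i := fun i => by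
    induction i with
    | zero => simp
    | succ i ih =>
      rw [pow_succ', mul_inv_rev, show g * g ^ i * x * ((g ^ i)⁻¹ * g⁻¹) = g * (g ^ i * x * (g ^ i)⁻¹) * g⁻¹ by group,
        ih, show g * (x * y ^ i) * g⁻¹ = (g * x * g⁻¹) * (g * y ^ i * g⁻¹) by group, hgx,
        (hgy.pow_right i).eq, mul_inv_cancel_right, mul_assoc, ← pow_succ']
  have h1 := hk (orderOf g)
  rw [pow_orderOf_eq_one, one_mul, inv_one, mul_one, left_eq_mul] at h1
  have h2 : orderOf y ∣ Nat.gcd (orderOf g) l :=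
    Nat.dvd_gcd (orderOf_dvd_of_pow_eq_one h1) (orderOf_dvd_of_pow_eq_one hyl)
  rw [hg.gcd_eq_one, Nat.dvd_one, orderOf_eq_one_iff] at h2
  rw [h2, mul_one] at hgx
  exact mul_inv_eq_iff_eq_mul.1 hgx

namespace Ctx

variable (C : Ctx G) {M : Subgroup G} [hMn : M.Normal]

theorem inner_le_of_invol (hM : ∀ x : G, orderOf x = 2 → x ∈ M) {t : G} (ht : t ∈ (C.S : Subgroup G))
    (ht1 : t ≠ 1) : C.inner (C.invol_mem ht ht1) ≤ M := by
  classical
  have ht2 := C.invol_mem ht ht1
  set L := C.loc t ht2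
  haveI := L.simple
  set Ct := centralizer ({t} : Set G)
  let V : Subgroup (Matrix.ProjectiveSpecialLinearGroup (Fin 2) L.F) :=
    ((M.subgroupOf Ct).map L.φ).comap MulAut.conj
  have hV : V.Normal := by
    refine ⟨fun w hw g => ?_⟩
    obtain ⟨z, hz, hzw⟩ := hw
    obtain ⟨n, hng⟩ := L.inn g
    refine ⟨n * z * n⁻¹, hMn.conj_mem _ hz _, ?_⟩
    rw [map_mul, map_mul, map_inv, hng, hzw, map_mul, map_mul, map_inv]
  have htop : V = ⊤ := by
    rcases hV.eq_bot_or_eq_top with h | h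
    swap
    · exact h
    exfalso
    -- an involution of `S` other than `t`
    obtain ⟨s, hs, hst⟩ : ∃ s ∈ (C.S : Subgroup G), s ∉ zpowers t := by
      by_contra hc
      push Not at hc
      have := card_dvd_of_le (show (C.S : Subgroup G) ≤ zpowers t from hc)
      rw [C.h8, Nat.card_zpowers, ht2] at this
      norm_num at this
    have hs1 : s ≠ 1 := fun e => hst (e ▸ one_mem _)
    let s' : Ct := ⟨s, C.S_le_cent ht hs⟩
    obtain ⟨k, hk⟩ := L.invol_inner s' (Subtype.ext (sq_of_mem C.S C.hS hs))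
    have hkV : k ∈ V := ⟨s', hM s (C.invol_mem hs hs1), hk⟩
    rw [h, mem_bot] at hkV
    rcases C.phi_eq_one ht2 (x := s') (by rw [hk, hkV, map_one]) with e | e
    · exact hs1 e
    · exact hst (show s ∈ zpowers t from (show s = t from e) ▸ mem_zpowers t)
  intro x hx
  let x' : Ct := ⟨x, C.inner_le ht2 hx⟩
  obtain ⟨k, hk⟩ := (C.mem_inner ht2 x').1 hx
  obtain ⟨z, hz, hzk⟩ := htop.ge (mem_top k)
  have hker : L.φ (z⁻¹ * x') = 1 := by rw [map_mul, map_inv, hzk, hk, inv_mul_cancel]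
  have hmem : ((z⁻¹ * x' : Ct) : G) ∈ M := by
    rcases C.phi_eq_one ht2 hker with e | e <;> rw [e]
    · exact one_mem _
    · exact hM t ht2
  have h2 := M.mul_mem (show (z : G) ∈ M from hz) hmem
  rwa [show (z : G) * ((z⁻¹ * x' : Ct) : G) = x by
    show (z : G) * ((z : G)⁻¹ * x) = x
    rw [mul_inv_cancel_left]] at h2

theorem sup_K_eq_top (hM : ∀ x : G, orderOf x = 2 → x ∈ M) : M ⊔ C.K = ⊤ := by
  haveI := Fact.mk Nat.prime_two
  have hSM : (C.S : Subgroup G) ≤ M := fun s hs => by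
    by_cases h1 : s = 1
    · rw [h1]; exact one_mem _
    · exact hM s (C.invol_mem hs h1)
  have hN : normalizer ((C.S : Subgroup G) : Set G) ≤ M ⊔ C.K := by
    refine C.normalizer_le fun a ha ha1 n hn => ?_
    obtain ⟨w, hw, k, hk, rfl⟩ := C.cent_eq_inner_K ha ha1 hn.2
    exact mul_mem_sup (C.inner_le_of_invol hM ha ha1 hw) hk
  rw [eq_top_iff, ← Sylow.normalizer_sup_eq_top' C.S hSM]
  exact sup_le hN le_sup_left

/-- The order of `G` divides `|M| |K|`. -/
theorem card_dvd_mul (hM : ∀ x : G, orderOf x = 2 → x ∈ M) : Nat.card G ∣ Nat.card M * Nat.card C.K := by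
  have h := CfsgLib.EABasic.card_sup_mul_card_inf_of_le_normalizer (H := C.K) (N := M)
    (by rw [normalizer_eq_top_iff.2 hMn]; exact le_top)
  rw [sup_comm, C.sup_K_eq_top hM, card_top] at h
  rw [mul_comm (Nat.card M), ← h]
  exact dvd_mul_right _ _

/-- A prime of `K` outside `K ∩ M` has its whole Sylow order in `K`. -/
theorem pow_dvd_K (hM : ∀ x : G, orderOf x = 2 → x ∈ M) {r k : ℕ} (hr : r.Prime)
    (hrK : r ∣ Nat.card C.K) (hrKM : ¬ r ∣ Nat.card ↥(C.K ⊓ M)) (h : r ^ k ∣ Nat.card G) :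
    r ^ k ∣ Nat.card C.K := by
  haveI := Fact.mk hr
  have hnM : ¬ r ∣ Nat.card M := by
    intro hd
    obtain ⟨⟨y, hy⟩, hyo⟩ := exists_prime_orderOf_dvd_card' (G := M) r hd
    obtain ⟨⟨d, hd'⟩, hdo⟩ := exists_prime_orderOf_dvd_card' (G := C.K) r hrK
    rw [← Subgroup.orderOf_coe] at hyo hdo
    obtain ⟨g, hg⟩ := conj_zpowers C.hD hr hyo hdo
    obtain ⟨z, hz, hzd⟩ := hg ▸ mem_zpowers d
    have hdM : d ∈ M := hzd ▸ hMn.conj_mem z (zpowers_le.2 hy hz) g
    exact hrKM (hdo ▸ Subgroup.orderOf_dvd_natCard _ (mem_inf.2 ⟨hd', hdM⟩))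
  exact (Nat.Coprime.pow_left k ((hr.coprime_iff_not_dvd).2 hnM)).dvd_of_dvd_mul_left
    (h.trans (C.card_dvd_mul hM))

variable [hMs : IsSimpleGroup M]

/-- The Sylow subgroups for the primes of `K ∩ M` are elementary abelian of rank at least two. -/
theorem sylow_KM (hna : ¬ IsMulCommutative M) {l : ℕ} (hl : l.Prime) (hlKM : l ∣ Nat.card ↥(C.K ⊓ M))
    (P : Sylow l G) : Cfsg.IsElementaryAbelian l (P : Subgroup G) ∧ l ^ 2 ∣ Nat.card (P : Subgroup G) := by
  classical
  haveI := Fact.mk hl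
  have hlK : l ∣ Nat.card C.K := hlKM.trans (card_dvd_of_le inf_le_left)
  have hl2 : l ≠ 2 := by
    rintro rfl
    exact Nat.not_even_iff_odd.2 (EqConj.oddPart_odd C.S) (even_iff_two_dvd.2 hlK)
  have hncyc : ¬ IsCyclic (P : Subgroup G) := by
    intro hc
    set R := (P : Subgroup G) ⊓ M
    have hR : R = ⊥ := by
      refine IsoRankTwo.sylow_eq_bot_of_omega hl2 (L := M) ?_ inf_le_right (P.2.to_le inf_le_left)
        (Fusion.not_dvd_relIndex_inf_of_normal P M) fun U hU e _ heN a ha hal => ?_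
      · have h1 : commutator M ≠ ⊥ := fun h => hna ⟨⟨fun a b => by
          have : ⁅a, b⁆ ∈ commutator M := commutator_mem_commutator (mem_top a) (mem_top b)
          rw [h, mem_bot] at this
          exact commutatorElement_eq_one_iff_mul_comm.1 this⟩⟩
        have h2 := ((inferInstance : (commutator M).Normal).eq_bot_or_eq_top).resolve_left h1
        have h3 := congrArg (Subgroup.map M.subtype) h2
        rw [map_subtype_commutator, ← MonoidHom.range_eq_map, range_subtype] at h3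
        exact h3
      · by_cases ha1 : a = 1
        · rw [ha1]; group
        have hao : orderOf a = l := orderOf_eq_prime hal ha1
        refine C.norm_prime hl hlK hao ?_
        have hmem : e * a * e⁻¹ ∈ U := (mem_normalizer_iff.1 heN a).1 ha
        haveI := hc
        have heq := CfsgLib.PGroup.Kulakoff.eq_of_card_eq
          (H := zpowers (⟨_, (hU hmem).1⟩ : (P : Subgroup G))) (K := zpowers (⟨a, (hU ha).1⟩ : (P : Subgroup G)))
          (by rw [Nat.card_zpowers, Nat.card_zpowers, ← Subgroup.orderOf_coe, ← Subgroup.orderOf_coe,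
            orderOf_conj_eq])
        obtain ⟨i, hi⟩ := mem_zpowers_iff.1 (heq ▸ mem_zpowers (⟨_, (hU hmem).1⟩ : (P : Subgroup G)))
        exact ⟨i, congrArg Subtype.val hi⟩
    have hlM : l ∣ Nat.card M := hlKM.trans (card_dvd_of_le inf_le_right)
    have h := Fusion.not_dvd_relIndex_inf_of_normal P M
    rw [show (P : Subgroup G) ⊓ M = ⊥ from hR, relIndex_bot_left] at h
    exact h hlM
  have hel : Cfsg.IsElementaryAbelian l (P : Subgroup G) := by
    rcases Cfsg.Agent.S4020.result (fun p hp => C.hD p hp) P with h | h | ⟨⟨e⟩⟩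
    · exact absurd h hncyc
    · exact h
    · exfalso
      obtain ⟨i, hi⟩ := P.2.exists_card_eq
      rw [Nat.card_congr e.toEquiv, Nat.card_eq_fintype_card, QuaternionGroup.card] at hi
      rcases Nat.eq_zero_or_pos i with rfl | hi0
      · norm_num at hi
      · have : l ∣ 2 ^ 3 := (dvd_pow_self l hi0.ne').trans (by rw [← hi]; norm_num)
        exact hl2 ((Nat.prime_dvd_prime_iff_eq hl Nat.prime_two).1 (hl.dvd_of_dvd_pow this))
  refine ⟨hel, ?_⟩
  obtain ⟨k, hk⟩ := P.2.exists_card_eq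
  rcases (show k = 0 ∨ k = 1 ∨ 2 ≤ k by omega) with rfl | rfl | h2
  · refine absurd ?_ hncyc
    haveI : Subsingleton (P : Subgroup G) :=
      Finite.card_le_one_iff_subsingleton.1 (by rw [hk, pow_zero])
    exact isCyclic_of_subsingleton
  · exact absurd (isCyclic_of_prime_card (p := l) (by rw [hk, pow_one])) hncyc
  · rw [hk]; exact pow_dvd_pow l h2

variable {l : ℕ}

/-- A line of an elementary `l`-group is centralized by its normalizer. -/
theorem fix_line (hl : l.Prime) (hlK : l ∣ Nat.card C.K) {P : Subgroup G} (hexp : ∀ x ∈ P, x ^ l = 1)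
    (n : normalizer (P : Set G)) (y : P) (hy : P.normalizerMonoidHom n y ∈ zpowers y) :
    P.normalizerMonoidHom n y = y := by
  haveI := Fact.mk hl
  by_cases hy1 : y = 1
  · rw [hy1, map_one]
  refine Subtype.ext (C.norm_prime hl hlK ?_ ?_)
  · rw [Subgroup.orderOf_coe]; exact orderOf_eq_prime (Subtype.ext (hexp y y.2)) hy1
  · obtain ⟨i, hi⟩ := mem_zpowers_iff.1 hy
    exact ⟨i, congrArg Subtype.val hi⟩

/-- The automizer of an elementary `l`-group has odd order. -/
theorem automizer_odd (hl : l.Prime) (hlK : l ∣ Nat.card C.K) {P : Subgroup G}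
    (hel : Cfsg.IsElementaryAbelian l P) : Odd (Nat.card P.normalizerMonoidHom.range) := by
  haveI := Fact.mk hl
  letI : CommGroup P := { (inferInstance : Group P) with mul_comm := hel.1.is_comm.comm }
  have hl2 : l ≠ 2 := by
    rintro rfl
    exact Nat.not_even_iff_odd.2 (EqConj.oddPart_odd C.S) (even_iff_two_dvd.2 hlK)
  by_contra hev
  haveI := Fact.mk Nat.prime_two
  obtain ⟨⟨a, ⟨n, hn⟩⟩, ha⟩ := exists_prime_orderOf_dvd_card' (G := P.normalizerMonoidHom.range) 2
    (even_iff_two_dvd.1 (Nat.not_odd_iff_even.1 hev))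
  rw [← Subgroup.orderOf_coe] at ha
  have haa : ∀ x, a (a x) = x := fun x => by
    have := pow_orderOf_eq_one a
    rw [ha, sq] at this
    exact DFunLike.congr_fun this x
  refine Invol.invol_ne_one ha (MulEquiv.ext fun x => ?_)
  show a x = x
  set y := x⁻¹ * a x with hy
  have hay : a y = y⁻¹ := by
    rw [hy, map_mul, map_inv, haa, mul_inv_rev, inv_inv, mul_comm]
  have hfix : a y = y := by
    rw [← hn]
    exact C.fix_line hl hlK hel.2 n y (by rw [hn, hay]; exact inv_mem (mem_zpowers y))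
  have hy2 : y ^ 2 = 1 := by
    rw [sq]
    nth_rewrite 1 [← hfix]
    rw [hay, inv_mul_cancel]
  have hy1 : y = 1 := orderOf_eq_one_iff.1 (Nat.dvd_one.1
    ((Nat.coprime_primes hl Nat.prime_two).2 hl2 ▸
      Nat.dvd_gcd (orderOf_dvd_of_pow_eq_one (Subtype.ext (hel.2 y y.2) : y ^ l = 1))
        (orderOf_dvd_of_pow_eq_one hy2)))
  exact (inv_mul_eq_one.1 hy1).symm

include C in
/-- The automizer of an elementary Sylow `l`-subgroup is transitive on subgroups of each order. -/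
theorem automizer_transitive (hl : l.Prime) (P : Sylow l G) (hel : Cfsg.IsElementaryAbelian l (P : Subgroup G))
    (U V : Subgroup (P : Subgroup G)) (hUV : Nat.card U = Nat.card V) :
    ∃ q : (P : Subgroup G).normalizerMonoidHom.range,
      U.map ((P : Subgroup G).normalizerMonoidHom.range.subtype q).toMonoidHom = V := by
  haveI := Fact.mk hl
  have hPc : ∀ a ∈ (P : Subgroup G), ∀ b ∈ (P : Subgroup G), Commute a b := fun a ha b hb =>
    congrArg Subtype.val (hel.1.is_comm.comm (⟨a, ha⟩ : (P : Subgroup G)) ⟨b, hb⟩)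
  have hU' : IsPGroup l (U.map (P : Subgroup G).subtype) := (P.2.to_subgroup U).map _
  have hV' : IsPGroup l (V.map (P : Subgroup G).subtype) := (P.2.to_subgroup V).map _
  obtain ⟨g, hg⟩ := C.hD l hl _ _ hU' hV' (by
    rw [card_map_of_injective (P : Subgroup G).subtype_injective,
      card_map_of_injective (P : Subgroup G).subtype_injective, hUV])
  obtain ⟨n, hn, hne⟩ := exists_normalizer_conj_sylow P hPc (map_subtype_le U) (map_subtype_le V) hg
  refine ⟨⟨(P : Subgroup G).normalizerMonoidHom ⟨n, hn⟩, ⟨n, hn⟩, rfl⟩,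
    map_injective (P : Subgroup G).subtype_injective ?_⟩
  rw [hne, map_map, map_map]
  congr 1

/-- An elementary Sylow `l`-subgroup has rank at most three. -/
theorem rank_le_three (hl : l.Prime) (hlK : l ∣ Nat.card C.K) (P : Sylow l G)
    (hel : Cfsg.IsElementaryAbelian l (P : Subgroup G)) {m : ℕ} (hm : Nat.card (P : Subgroup G) = l ^ m) :
    m ≤ 3 := by
  classical
  haveI := Fact.mk hl
  by_contra hm3
  letI : CommGroup (P : Subgroup G) :=
    { (inferInstance : Group (P : Subgroup G)) with mul_comm := hel.1.is_comm.comm }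
  haveI : Group.IsSolvable (P : Subgroup G).normalizerMonoidHom.range :=
    FT.isSolvable_of_odd _ (C.automizer_odd hl hlK hel)
  obtain ⟨hn3, -⟩ := EqualOrder.semilinear_of_transitive (fun x : (P : Subgroup G) => Subtype.ext (hel.2 x x.2))
    hm (by omega) (P : Subgroup G).normalizerMonoidHom.range.subtype (C.automizer_transitive hl P hel)
  rcases hn3 with h | ⟨h, h2⟩
  · omega
  · exact Nat.not_even_iff_odd.2 (EqConj.oddPart_odd C.S) (even_iff_two_dvd.2 (h2 ▸ hlK))

/-- An element of order prime to `3` normalizing a Sylow `l`-subgroup of order at least `l ^ 3` and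
centralizing one of its elements centralizes it. -/
theorem cent_full (hl : l.Prime) (hlK : l ∣ Nat.card C.K) (P : Sylow l G)
    (hel : Cfsg.IsElementaryAbelian l (P : Subgroup G)) (h3 : l ^ 3 ∣ Nat.card (P : Subgroup G))
    {d g : G} (hd : d ∈ (P : Subgroup G)) (hd1 : d ≠ 1) (hg : g ∈ normalizer ((P : Subgroup G) : Set G))
    (hgd : Commute g d) (hg3 : (orderOf g).Coprime 3) :
    ∀ x ∈ (P : Subgroup G), Commute g x := by
  classical
  haveI := Fact.mk hl
  obtain ⟨m, hm⟩ := P.2.exists_card_eq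
  have hm3 : 3 ≤ m := (Nat.pow_dvd_pow_iff_le_right hl.one_lt).1 (hm ▸ h3)
  letI : CommGroup (P : Subgroup G) :=
    { (inferInstance : Group (P : Subgroup G)) with mul_comm := hel.1.is_comm.comm }
  have hexp : ∀ x : (P : Subgroup G), x ^ l = 1 := fun x => Subtype.ext (hel.2 x x.2)
  set π := (P : Subgroup G).normalizerMonoidHom
  have hfixline := C.fix_line hl hlK (P := (P : Subgroup G)) hel.2
  have hl2 : l ≠ 2 := by
    rintro rfl
    exact Nat.not_even_iff_odd.2 (EqConj.oddPart_odd C.S) (even_iff_two_dvd.2 hlK)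
  haveI : Group.IsSolvable π.range := FT.isSolvable_of_odd _ (C.automizer_odd hl hlK hel)
  have htr := C.automizer_transitive hl P hel
  obtain ⟨hn3, e, hsl, -⟩ := EqualOrder.semilinear_of_transitive hexp hm hm3 π.range.subtype htr
  obtain rfl : m = 3 := hn3.resolve_right fun h => hl2 h.2
  -- with the scalars
  have hcomm : ∀ (a : π.range) (c : (ZMod l)ˣ),
      Commute (π.range.subtype a) (EqualOrder.powAut hexp c) := fun a c =>
    MulEquiv.ext fun x => map_pow (a : MulAut (P : Subgroup G)) x _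
  let hom := π.range.subtype.noncommCoprod (EqualOrder.powAut hexp) hcomm
  have hinj : Function.Injective hom := by
    refine (MonoidHom.noncommCoprod_injective _ _ _).2
      ⟨π.range.subtype_injective, EqualOrder.powAut_injective hexp (x := ⟨d, hd⟩)
        (fun h => hd1 (congrArg Subtype.val h)), ?_⟩
    rw [disjoint_iff_inf_le]
    rintro a ⟨⟨⟨_, n, rfl⟩, rfl⟩, c, hc⟩
    refine mem_bot.2 (MulEquiv.ext fun y => ?_)
    refine hfixline n y ?_
    rw [show π n = EqualOrder.powAut hexp c from hc.symm, EqualOrder.powAut_apply]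
    exact npow_mem_zpowers y _
  haveI : CharP (GaloisField l 3) l := inferInstance
  have hsl' : ∀ a ∈ hom.range, EqualOrder.SLin e a := by
    rintro _ ⟨⟨q, c⟩, rfl⟩
    obtain ⟨a, σ, ha, hq⟩ := hsl q
    refine EqualOrder.slin_of e (a := a * σ (algebraMap (ZMod l) (GaloisField l 3) (c : ZMod l))) (σ := σ) fun x => ?_
    show e (Additive.ofMul (π.range.subtype q (EqualOrder.powAut hexp c x))) = _
    rw [hq, EqualOrder.powAut_apply, ofMul_pow, map_nsmul, nsmul_eq_mul, map_mul, mul_assoc]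
    congr 2
    rw [← map_natCast (algebraMap (ZMod l) (GaloisField l 3)), ZMod.natCast_zmod_val]
  have hcardF : Nat.card (GaloisField l 3) = l ^ 3 := GaloisField.card l 3 (by norm_num)
  have hL : Nat.card hom.range ∣ (l ^ 3 - 1) * 3 := by
    have h := EqualOrder.card_dvd_semilinear e hom.range hsl'
    rwa [Nat.card_units, hcardF, EqualOrder.card_galoisAut l hcardF] at h
  -- the stabilizer of `d`
  let x₀ : (P : Subgroup G) := ⟨d, hd⟩
  have hx₀ : x₀ ≠ 1 := fun h => hd1 (congrArg Subtype.val h)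
  have horb : MulAction.orbit hom.range x₀ = {x | x ≠ 1} := by
    ext x
    constructor
    · rintro ⟨q, rfl⟩ h
      exact hx₀ ((q : MulAut (P : Subgroup G)).injective (h.trans (map_one _).symm))
    · intro hx
      obtain ⟨q, hq⟩ := htr (zpowers x₀) (zpowers x)
        (by rw [Nat.card_zpowers, Nat.card_zpowers, orderOf_eq_prime (hexp _) hx₀,
          orderOf_eq_prime (hexp _) hx])
      set y := π.range.subtype q x₀ with hy
      have hymem : y ∈ zpowers x := hq ▸ ⟨x₀, mem_zpowers _, rfl⟩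
      obtain ⟨i, hi⟩ : ∃ i : ℕ, x ^ i = y :=
        ((isOfFinOrder_of_finite x).mem_powers_iff_mem_zpowers).2 hymem
      have hi0 : (i : ZMod l) ≠ 0 := fun h => by
        have : x ^ i = 1 := orderOf_dvd_iff_pow_eq_one.1
          (by rw [orderOf_eq_prime (hexp _) hx]; exact (ZMod.natCast_eq_zero_iff i l).1 h)
        rw [this] at hi
        exact hx₀ ((π.range.subtype q).injective ((hi.symm).trans (map_one _).symm))
      let c : (ZMod l)ˣ := Units.mk0 (i : ZMod l) hi0
      refine ⟨⟨hom (q, c⁻¹), ⟨_, rfl⟩⟩, ?_⟩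
      show (π.range.subtype q * EqualOrder.powAut hexp c⁻¹) x₀ = x
      rw [MulAut.mul_apply, EqualOrder.powAut_apply, map_pow, ← hy, ← hi, ← pow_mul]
      refine (EqualOrder.pow_eq_of_cast_eq hexp x (b := 1) ?_).trans (pow_one x)
      rw [Nat.cast_mul, ZMod.natCast_zmod_val, Nat.cast_one]
      exact mul_inv_cancel₀ hi0
  have hidx : (MulAction.stabilizer hom.range x₀).index = l ^ 3 - 1 := by
    rw [MulAction.index_stabilizer, horb,
      show {x : (P : Subgroup G) | x ≠ 1} = ({1} : Set (P : Subgroup G))ᶜ from rfl, Set.ncard_compl,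
      Set.ncard_singleton, hm]
  have hstab : Nat.card (MulAction.stabilizer hom.range x₀) ∣ 3 := by
    have hpos : 0 < l ^ 3 - 1 := by
      have : 2 ^ 3 ≤ l ^ 3 := Nat.pow_le_pow_left hl.two_le 3
      omega
    refine Nat.dvd_of_mul_dvd_mul_right hpos ?_
    rw [← hidx, (MulAction.stabilizer hom.range x₀).card_mul_index, hidx, mul_comm 3]
    exact hL
  have hβ : π ⟨g, hg⟩ = 1 := by
    let β : hom.range := ⟨π ⟨g, hg⟩, (⟨π ⟨g, hg⟩, _, rfl⟩, 1), by
      show π ⟨g, hg⟩ * EqualOrder.powAut hexp 1 = π ⟨g, hg⟩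
      rw [map_one, mul_one]⟩
    have hβs : β ∈ MulAction.stabilizer hom.range x₀ :=
      MulAction.mem_stabilizer_iff.2 (Subtype.ext (mul_inv_eq_iff_eq_mul.2 hgd.eq))
    have h1 : orderOf β ∣ Nat.gcd (orderOf g) 3 := Nat.dvd_gcd
      (by
        rw [← Subgroup.orderOf_coe]
        exact (orderOf_map_dvd π ⟨g, hg⟩).trans (by rw [← Subgroup.orderOf_coe]))
      ((Subgroup.orderOf_dvd_natCard _ hβs).trans hstab)
    rw [hg3.gcd_eq_one, Nat.dvd_one, orderOf_eq_one_iff] at h1
    exact congrArg Subtype.val h1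
  intro x hx
  exact mul_inv_eq_iff_eq_mul.1 (congrArg Subtype.val (DFunLike.congr_fun hβ (⟨x, hx⟩ : (P : Subgroup G))))

/-- An element of order prime to `l` normalizing a group of order at most `l ^ 2` and centralizing one
of its elements centralizes it. -/
theorem cent_two (hl : l.Prime) (hlK : l ∣ Nat.card C.K) {P : Subgroup G}
    (hPc : ∀ a ∈ P, ∀ b ∈ P, Commute a b) (hexp : ∀ x ∈ P, x ^ l = 1) (hP2 : Nat.card P ∣ l ^ 2)
    {d δ : G} (hd : d ∈ P) (hdo : orderOf d = l) (hδ : δ ∈ normalizer (P : Set G)) (hδd : Commute δ d)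
    (hδl : (orderOf δ).Coprime l) : ∀ x ∈ P, Commute δ x := by
  classical
  haveI := Fact.mk hl
  have hc : ∀ {z : G}, z ∈ P → δ * z * δ⁻¹ ∈ P := fun hz => (mem_normalizer_iff.1 hδ _).1 hz
  intro x hx
  set y := x⁻¹ * (δ * x * δ⁻¹) with hy
  have hyP : y ∈ P := P.mul_mem (P.inv_mem hx) (hc hx)
  refine commute_of_fixed_displacement hy.symm ?_ (hPc x hx y hyP) (hexp y hyP) hδl
  by_cases hy1 : y = 1
  · rw [hy1]; exact Commute.one_right δ
  let f : P →* P :=
    { toFun := fun z => ⟨(z : G)⁻¹ * (δ * z * δ⁻¹), P.mul_mem (P.inv_mem z.2) (hc z.2)⟩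
      map_one' := Subtype.ext (by simp)
      map_mul' := fun a b => Subtype.ext (by
        have h1 := hPc _ (hc a.2) _ (P.inv_mem b.2)
        show ((a : G) * b)⁻¹ * (δ * ((a : G) * b) * δ⁻¹) = _
        calc ((a : G) * b)⁻¹ * (δ * ((a : G) * b) * δ⁻¹)
            = (b : G)⁻¹ * (a : G)⁻¹ * (δ * a * δ⁻¹) * (δ * b * δ⁻¹) := by group
          _ = (a : G)⁻¹ * ((b : G)⁻¹ * (δ * a * δ⁻¹)) * (δ * b * δ⁻¹) := by
            rw [(hPc _ (P.inv_mem b.2) _ (P.inv_mem a.2)).eq]; group
          _ = (a : G)⁻¹ * (δ * a * δ⁻¹ * (b : G)⁻¹) * (δ * b * δ⁻¹) := by rw [h1.eq]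
          _ = _ := by show _ = (a : G)⁻¹ * (δ * a * δ⁻¹) * ((b : G)⁻¹ * (δ * b * δ⁻¹)); group) }
  have hdker : (⟨d, hd⟩ : P) ∈ f.ker := MonoidHom.mem_ker.2 (Subtype.ext (by
    show d⁻¹ * (δ * d * δ⁻¹) = 1
    rw [hδd.eq, mul_inv_cancel_right, inv_mul_cancel]))
  have hrange : Nat.card f.range ∣ l := by
    rw [← Subgroup.index_ker]
    have h1 : l ∣ Nat.card f.ker :=
      (hdo.symm.trans (Subgroup.orderOf_coe (⟨d, hd⟩ : P))).dvd.trans (Subgroup.orderOf_dvd_natCard _ hdker)
    have h2 : Nat.card f.ker * f.ker.index ∣ l * l := by rwa [Subgroup.card_mul_index, ← sq]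
    exact Nat.dvd_of_mul_dvd_mul_left hl.pos ((mul_dvd_mul_right h1 _).trans h2)
  have hyo : orderOf y = l := orderOf_eq_prime (hexp y hyP) hy1
  have hyr : (⟨y, hyP⟩ : P) ∈ f.range := ⟨⟨x, hx⟩, rfl⟩
  have hz : zpowers (⟨y, hyP⟩ : P) = f.range := by
    refine eq_of_le_of_card_ge (zpowers_le.2 hyr) ?_
    rw [Nat.card_zpowers, ← Subgroup.orderOf_coe, hyo]
    exact Nat.le_of_dvd hl.pos hrange
  have hconj : (⟨δ * y * δ⁻¹, hc hyP⟩ : P) ∈ f.range :=
    ⟨⟨δ * x * δ⁻¹, hc hx⟩, Subtype.ext (by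
      show (δ * x * δ⁻¹)⁻¹ * (δ * (δ * x * δ⁻¹) * δ⁻¹) = δ * y * δ⁻¹
      rw [hy]; group)⟩
  rw [← hz] at hconj
  obtain ⟨i, hi⟩ := mem_zpowers_iff.1 hconj
  exact mul_inv_eq_iff_eq_mul.1 (C.norm_prime hl hlK hyo (g := δ) ⟨i, congrArg Subtype.val hi⟩)

/-- **The prime ladder.** -/
theorem exists_big (hM : ∀ x : G, orderOf x = 2 → x ∈ M) (hna : ¬ IsMulCommutative M) (hKM : C.K ⊓ M ≠ ⊥) :
    ∃ l : ℕ, l.Prime ∧ l ∣ Nat.card ↥(C.K ⊓ M) ∧ l ^ 2 ∣ Nat.card (centralizer (C.K : Set G)) := by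
  classical
  haveI hKc := C.K_cyclic
  let Good : Subgroup G → Prop := fun T => T ≤ C.K ∧
    ∃ l : ℕ, l.Prime ∧ l ∣ Nat.card ↥(C.K ⊓ M) ∧ l ∣ Nat.card T ∧ l ^ 2 ∣ Nat.card (centralizer (T : Set G))
  have hstart : ∃ T, Good T := by
    have h1 : Nat.card ↥(C.K ⊓ M) ≠ 1 := fun h => hKM (Subgroup.card_eq_one.1 h)
    obtain ⟨l, hl, hld⟩ := Nat.exists_prime_and_dvd h1
    haveI := Fact.mk hl
    obtain ⟨⟨d, hd⟩, hdo⟩ := exists_prime_orderOf_dvd_card' (G := ↥(C.K ⊓ M)) l hld
    rw [← Subgroup.orderOf_coe] at hdo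
    obtain ⟨P, hP⟩ := (IsPGroup.of_card (n := 1) (by rw [Nat.card_zpowers, hdo, pow_one]) :
      IsPGroup l (zpowers d)).exists_le_sylow
    obtain ⟨hel, h2⟩ := C.sylow_KM hna hl hld P
    refine ⟨zpowers d, zpowers_le.2 hd.1, l, hl, hld, (Nat.card_zpowers d).symm ▸ hdo.symm.dvd, h2.trans ?_⟩
    refine card_dvd_of_le fun x hx => mem_centralizer_iff.2 fun y hy => ?_
    exact congrArg Subtype.val (hel.1.is_comm.comm (⟨y, hP hy⟩ : (P : Subgroup G)) ⟨x, hx⟩)
  obtain ⟨T, hT, hTmax⟩ := (Set.toFinite {T : Subgroup G | Good T}).exists_maximal hstart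
  obtain ⟨hTK, l, hl, hlKM, hlT, hl2⟩ := hT
  suffices hTeq : C.K ≤ T by
    have : T = C.K := le_antisymm hTK hTeq
    exact ⟨l, hl, hlKM, this ▸ hl2⟩
  by_contra hne
  haveI := Fact.mk hl
  -- a prime whose part of `K` is outside `T`
  obtain ⟨r, hr, Dr, hDr, hDrp, hDrT, hDrS⟩ : ∃ r : ℕ, r.Prime ∧ ∃ Dr : Subgroup G, Dr ≤ C.K ∧
      IsPGroup r Dr ∧ ¬ Dr ≤ T ∧ Nat.card Dr = r ^ (Nat.card C.K).factorization r := by
    by_contra hc
    push Not at hc
    apply hne
    refine le_of_ppow_mem fun r hr z hz hzp => ?_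
    haveI := Fact.mk hr
    obtain ⟨j, hj⟩ := hzp
    obtain ⟨Q, hQ⟩ : ∃ Q : Sylow r C.K, zpowers (⟨z, hz⟩ : C.K) ≤ Q := by
      refine IsPGroup.exists_le_sylow ?_
      obtain ⟨i, -, hi⟩ := (Nat.dvd_prime_pow hr).1 (orderOf_dvd_of_pow_eq_one hj)
      exact IsPGroup.of_card (n := i) (by rw [Nat.card_zpowers, ← Subgroup.orderOf_coe]; exact hi)
    by_contra hzT
    refine hc r hr ((Q : Subgroup C.K).map C.K.subtype) (map_subtype_le _) (Q.2.map _)
      (fun h => hzT (h ⟨⟨z, hz⟩, hQ (mem_zpowers _), rfl⟩)) ?_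
    rw [card_map_of_injective C.K.subtype_injective, Q.card_eq_multiplicity]
  haveI := Fact.mk hr
  have hDr1 : Dr ≠ ⊥ := fun h => hDrT (h ▸ bot_le)
  have hrDr : r ∣ Nat.card Dr := by
    obtain ⟨k, hk⟩ := hDrp.exists_card_eq
    rcases Nat.eq_zero_or_pos k with rfl | hk0
    · exact absurd (Subgroup.card_eq_one.1 (by rw [hk, pow_zero])) hDr1
    · rw [hk]; exact dvd_pow_self r hk0.ne'
  have hrK : r ∣ Nat.card C.K := hrDr.trans (card_dvd_of_le hDr)
  have hr2 : r ≠ 2 := by
    rintro rfl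
    exact Nat.not_even_iff_odd.2 (EqConj.oddPart_odd C.S) (even_iff_two_dvd.2 hrK)
  have hr3 : r ≠ 3 := by
    rintro rfl
    haveI := Fact.mk Nat.prime_two
    obtain ⟨t, -, ht2⟩ := Invol.exists_invol_mem (H := (C.S : Subgroup G)) (by rw [C.h8]; decide)
    exact C.not_dvd_psl ht2 hr (Or.inr hrK) (C.three_dvd_psl ht2)
  have hlK : l ∣ Nat.card C.K := hlKM.trans (card_dvd_of_le inf_le_left)
  have hl2' : l ≠ 2 := by
    rintro rfl
    exact Nat.not_even_iff_odd.2 (EqConj.oddPart_odd C.S) (even_iff_two_dvd.2 hlK)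
  -- the `l`-part of `K` has order `l`
  obtain ⟨⟨d, hdT⟩, hdo⟩ := exists_prime_orderOf_dvd_card' (G := T) l hlT
  rw [← Subgroup.orderOf_coe] at hdo
  have hrl : r ≠ l := by
    rintro rfl
    apply hDrT
    obtain ⟨P, hP⟩ := hDrp.exists_le_sylow
    have helP := (C.sylow_KM hna hr hlKM P).1
    haveI : IsCyclic Dr := isCyclic_of_injective (Subgroup.inclusion hDr) (Subgroup.inclusion_injective hDr)
    have hexp : Nat.card Dr ∣ r := by
      rw [← IsCyclic.exponent_eq_card]
      exact Monoid.exponent_dvd_of_forall_pow_eq_one fun x => Subtype.ext (helP.2 x (hP x.2))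
    intro x hx
    haveI := hKc
    have heq := CfsgLib.PGroup.Kulakoff.eq_of_card_eq (H := Dr.subgroupOf C.K)
      (K := (zpowers d).subgroupOf C.K) (by
        rw [Nat.card_congr (subgroupOfEquivOfLe hDr).toEquiv,
          Nat.card_congr (subgroupOfEquivOfLe (zpowers_le.2 (hTK hdT))).toEquiv, Nat.card_zpowers, hdo]
        exact Nat.dvd_antisymm hexp hrDr)
    exact zpowers_le.2 hdT (heq.le (show (⟨x, hDr hx⟩ : C.K) ∈ Dr.subgroupOf C.K from hx) :)
  set T' := T ⊔ Dr
  have hT'K : T' ≤ C.K := sup_le hTK hDr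
  have hlt : ¬ T' ≤ T := fun h => hDrT (le_sup_right.trans h)
  set C₁ := centralizer (T : Set G)
  have hDrC₁ : Dr ≤ C₁ := fun x hx => mem_centralizer_iff.2 fun y hy => (C.K_comm (hTK hy) (hDr hx)).eq
  have hcentT' : ∀ {x : G}, x ∈ C₁ → (∀ y ∈ Dr, Commute y x) → x ∈ centralizer (T' : Set G) := by
    intro x hx hy
    refine mem_centralizer_iff.2 fun z hz => ?_
    have hle : T' ≤ centralizer ({x} : Set G) := sup_le
      (fun z hz => mem_centralizer_singleton_iff.2 (mem_centralizer_iff.1 hx z hz))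
      (fun z hz => mem_centralizer_singleton_iff.2 (hy z hz).eq)
    exact mem_centralizer_singleton_iff.1 (hle hz)
  refine hlt (hTmax ⟨hT'K, ?_⟩ le_sup_left)
  obtain ⟨R, hR⟩ := (hDrp.of_equiv (subgroupOfEquivOfLe hDrC₁).symm).exists_le_sylow
  by_cases hbig : Nat.card (R : Subgroup C₁) = Nat.card Dr
  swap
  · -- a larger `r`-part
    set R' := (R : Subgroup C₁).map C₁.subtype
    have hR'c : ∀ x ∈ R', ∀ y ∈ R', Commute x y := comm_of_pgroup C.hD hr2 (R.2.map _)
    have hDR : Dr ≤ R' := fun x hx => ⟨⟨x, hDrC₁ hx⟩, hR hx, rfl⟩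
    obtain ⟨k, hk⟩ := R.2.exists_card_eq
    obtain ⟨k₀, hk₀⟩ := hDrp.exists_card_eq
    have hkk : k₀ < k := by
      have h1 : r ^ k₀ ∣ r ^ k := hk₀ ▸ hk ▸ (card_map_of_injective C₁.subtype_injective ▸ card_dvd_of_le hDR)
      have h2 := (Nat.pow_dvd_pow_iff_le_right hr.one_lt).1 h1
      rcases h2.lt_or_eq with h | h
      · exact h
      · exact absurd (by rw [hk, hk₀, h]) hbig
    have hk₀1 : 1 ≤ k₀ := by
      rcases Nat.eq_zero_or_pos k₀ with rfl | h
      · exact absurd (Subgroup.card_eq_one.1 (by rw [hk₀, pow_zero])) hDr1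
      · exact h
    refine ⟨r, hr, ?_, hrDr.trans (card_dvd_of_le le_sup_right), ?_⟩
    · by_contra hrKM
      have h1 : r ^ k ∣ Nat.card C.K := C.pow_dvd_K hM hr hrK hrKM
        (hk ▸ (card_map_of_injective C₁.subtype_injective ▸ card_subgroup_dvd_card R'))
      have h2 := (hr.pow_dvd_iff_le_factorization Nat.card_pos.ne').1 h1
      have h3 : r ^ (Nat.card C.K).factorization r = r ^ k₀ := hDrS.symm.trans hk₀
      have := Nat.pow_right_injective hr.two_le h3
      omega
    · refine (pow_dvd_pow r (show 2 ≤ k by omega)).trans ?_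
      rw [← hk, ← card_map_of_injective C₁.subtype_injective]
      exact card_dvd_of_le fun x hx => hcentT' (map_subtype_le _ hx) fun y hy => hR'c y (hDR hy) x hx
  -- `Dr` is a Sylow subgroup of `C(T)`
  have hRD : (R : Subgroup C₁) = Dr.subgroupOf C₁ := (eq_of_le_of_card_ge hR (by
    rw [hbig, Nat.card_congr (subgroupOfEquivOfLe hDrC₁).toEquiv])).symm
  have hN : normalizer ((R : Subgroup C₁) : Set C₁) ≤ centralizer ((R : Subgroup C₁) : Set C₁) := by
    intro w hw
    refine mem_centralizer_iff.2 fun x hx => ?_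
    have hxD : (x : G) ∈ Dr := by rw [SetLike.mem_coe, hRD] at hx; exact hx
    have hwx : (w : G) * x * (w : G)⁻¹ ∈ Dr := by
      have := (mem_normalizer_iff.1 hw x).1 hx
      rw [hRD] at this
      exact this
    haveI := hKc
    have heq := CfsgLib.PGroup.Kulakoff.eq_of_card_eq
      (H := zpowers (⟨_, hDr hwx⟩ : C.K)) (K := zpowers (⟨x, hDr hxD⟩ : C.K))
      (by rw [Nat.card_zpowers, Nat.card_zpowers, ← Subgroup.orderOf_coe, ← Subgroup.orderOf_coe,
        orderOf_conj_eq])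
    obtain ⟨i, hi⟩ := mem_zpowers_iff.1 (heq ▸ mem_zpowers (⟨_, hDr hwx⟩ : C.K))
    have := C.norm_zpowers_K (hDr hxD) (g := (w : G)) ⟨i, congrArg Subtype.val hi⟩
    exact Subtype.ext (mul_inv_eq_iff_eq_mul.1 this).symm
  obtain ⟨J, hJr, hJidx, hJn⟩ : ∃ J : Subgroup C₁, ¬ r ∣ Nat.card J ∧ J.index = Nat.card Dr ∧ J.Normal :=
    ⟨_, MonoidHom.not_dvd_card_ker_transferSylow R hN,
      (MonoidHom.ker_transferSylow_isComplement' R hN).symm.index_eq_card.trans hbig, inferInstance⟩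
  set J' := J.map C₁.subtype with hJ'
  have hDJ : Dr ≤ normalizer (J' : Set G) := by
    intro x hx
    refine mem_normalizer_iff.2 fun y => ?_
    have key : ∀ x ∈ C₁, ∀ y ∈ J', x * y * x⁻¹ ∈ J' := by
      rintro x hx _ ⟨z, hz, rfl⟩
      exact ⟨⟨x, hx⟩ * z * ⟨x, hx⟩⁻¹, hJn.conj_mem z hz _, rfl⟩
    refine ⟨key x (hDrC₁ hx) y, fun h => ?_⟩
    have h' := key x⁻¹ (inv_mem (hDrC₁ hx)) _ h
    rwa [show x⁻¹ * (x * y * x⁻¹) * x⁻¹⁻¹ = y by group] at h'
  have hcop : (Nat.card Dr).Coprime (Nat.card J') := by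
    rw [hJ', card_map_of_injective C₁.subtype_injective, hDrS]
    exact Nat.Coprime.pow_left _ ((hr.coprime_iff_not_dvd).2 hJr)
  have hsol : Group.IsSolvable Dr := by
    haveI := hDrp.isNilpotent
    infer_instance
  obtain ⟨P, hP, hDP⟩ := Coprime.exists_invariant_sylow hDJ hcop (Or.inl hsol) l
  have hP2 : l ^ 2 ∣ Nat.card P := by
    rw [hP.2]
    refine pow_dvd_pow l ((hl.pow_dvd_iff_le_factorization Nat.card_pos.ne').1 ?_)
    rw [hJ', card_map_of_injective C₁.subtype_injective]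
    refine (Nat.Coprime.pow_left 2 ?_).dvd_of_dvd_mul_right (by
      rw [J.card_mul_index]; exact hl2)
    rw [hJidx, hDrS]
    exact Nat.Coprime.pow_right _ ((Nat.coprime_primes hl hr).2 (Ne.symm hrl))
  have hdP : d ∈ P := by
    have hdC : d ∈ C₁ := mem_centralizer_iff.2 fun y hy => (C.K_comm (hTK hy) (hTK hdT)).eq
    have hdJ : (⟨d, hdC⟩ : C₁) ∈ J := by
      refine (QuotientGroup.eq_one_iff (N := J) _).1 (orderOf_eq_one_iff.1 (Nat.dvd_one.1 ?_))
      have h1 : orderOf (QuotientGroup.mk' J ⟨d, hdC⟩) ∣ l :=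
        (orderOf_map_dvd _ _).trans (by rw [← Subgroup.orderOf_coe]; exact hdo.dvd)
      have h2 : orderOf (QuotientGroup.mk' J ⟨d, hdC⟩) ∣ Nat.card Dr := by
        rw [← hJidx, Subgroup.index_eq_card]; exact orderOf_dvd_natCard _
      have h3 := Nat.dvd_gcd h1 h2
      rwa [((hl.coprime_iff_not_dvd).2 fun h => by
        rw [hDrS] at h
        exact hrl ((Nat.prime_dvd_prime_iff_eq hl hr).1 (hl.dvd_of_dvd_pow h)).symm).gcd_eq_one] at h3
    have hle : zpowers d ⊔ P ≤ J' := sup_le (zpowers_le.2 ⟨_, hdJ, rfl⟩) hP.1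
    have hdN : zpowers d ≤ normalizer (P : Set G) := zpowers_le.2
      (Coprime.centralizer_le_normalizer_self P (mem_centralizer_iff.2 fun y hy =>
        (mem_centralizer_iff.1 ((hP.1.trans (map_subtype_le _)) hy) d hdT).symm))
    have hp : IsPGroup l ↥(zpowers d ⊔ P) :=
      (IsPGroup.of_card (n := 1) (by rw [Nat.card_zpowers, hdo, pow_one]) :
        IsPGroup l (zpowers d)).to_sup_of_normal_right' hP.isPGroup hdN
    obtain ⟨i, hi⟩ := hp.exists_card_eq
    have : zpowers d ⊔ P = P := (eq_of_le_of_card_ge le_sup_right (by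
      rw [hi, hP.2]
      exact Nat.pow_le_pow_right hl.pos ((hl.pow_dvd_iff_le_factorization Nat.card_pos.ne').1
        (hi ▸ card_dvd_of_le hle)))).symm
    exact this ▸ mem_sup_left (mem_zpowers d)
  -- `Dr` centralizes `P`
  obtain ⟨Q, hQ⟩ := hP.isPGroup.exists_le_sylow
  obtain ⟨helQ, -⟩ := C.sylow_KM hna hl hlKM Q
  have hPc : ∀ a ∈ P, ∀ b ∈ P, Commute a b := fun a ha b hb =>
    congrArg Subtype.val (helQ.1.is_comm.comm (⟨a, hQ ha⟩ : (Q : Subgroup G)) ⟨b, hQ hb⟩)
  have hcent : ∀ δ ∈ Dr, ∀ x ∈ P, Commute δ x := by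
    intro δ hδ
    obtain ⟨j, hj⟩ := hDrp ⟨δ, hδ⟩
    have hδo : orderOf δ ∣ r ^ j := orderOf_dvd_of_pow_eq_one (congrArg Subtype.val hj)
    have hδl : (orderOf δ).Coprime l :=
      (Nat.Coprime.pow_left j ((Nat.coprime_primes hr hl).2 hrl)).coprime_dvd_left hδo
    have hδd : Commute δ d := C.K_comm (hDr hδ) (hTK hdT)
    by_cases h3 : l ^ 3 ∣ Nat.card P
    · have hPQ : P = (Q : Subgroup G) := by
        refine eq_of_le_of_card_ge hQ ?_
        by_contra hlt
        push Not at hlt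
        obtain ⟨a, ha⟩ := hP.isPGroup.exists_card_eq
        obtain ⟨b, hb⟩ := Q.2.exists_card_eq
        have hab : a < b := by
          rw [ha, hb] at hlt
          exact (Nat.pow_lt_pow_iff_right hl.one_lt).1 hlt
        have ha3 : 3 ≤ a := (Nat.pow_dvd_pow_iff_le_right hl.one_lt).1 (ha ▸ h3)
        -- the rank is three
        have h3Q : l ^ 3 ∣ Nat.card (Q : Subgroup G) := hb ▸ pow_dvd_pow l (by omega)
        exact absurd (C.rank_le_three hl hlK Q helQ hb) (by omega)
      intro x hx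
      refine C.cent_full hl hlK Q helQ (hPQ ▸ h3) (hQ hdP)
        (fun h => hl.ne_one (hdo.symm.trans (orderOf_eq_one_iff.2 h)))
        (hPQ ▸ hDP hδ) hδd ?_ x (hQ hx)
      exact (Nat.Coprime.pow_left j ((Nat.coprime_primes hr Nat.prime_three).2 hr3)).coprime_dvd_left hδo
    · obtain ⟨a, ha⟩ := hP.isPGroup.exists_card_eq
      have ha2 : a ≤ 2 := by
        by_contra hc
        exact h3 (ha ▸ pow_dvd_pow l (by omega))
      exact C.cent_two hl hlK hPc (fun x hx => helQ.2 x (hQ hx)) (ha ▸ pow_dvd_pow l ha2) hdP hdo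
        (hDP hδ) hδd hδl
  refine ⟨l, hl, hlKM, hlT.trans (card_dvd_of_le le_sup_left), hP2.trans (card_dvd_of_le fun x hx => ?_)⟩
  exact hcentT' ((hP.1.trans (map_subtype_le _)) hx) fun y hy => hcent y hy x hx

end Ctx

end CfsgLib.EqualOrder2
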