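import Cfsg.Agent.Lib.EqualOrder2.Torus
import Cfsg.Agent.Lib.EqualOrder2.Split
import Cfsg.Agent.Lib.BGroup.FieldCent

/-!
# The section `C(K)/K`

Its Sylow `2`-subgroups are those of `G`, its involutions are conjugate, and the centralizer of an involution
is `Z₂ × PSL(2, q₀)`, where `q₀ ^ |K| = q`.
-/

set_option autoImplicit false
set_option linter.unusedSectionVars false
set_option linter.style.haveILetI false

namespace CfsgLib.EqualOrder2

open Subgroup

universe u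

variable {G : Type u} [Group G] [Finite G]

namespace Ctx

variable (C : Ctx G)

/-- `C(K)`. -/
abbrev CK : Subgroup G := centralizer (C.K : Set G)

theorem K_le_CK : C.K ≤ C.CK := fun x hx =>
  mem_centralizer_iff.2 fun y hy => (C.K_comm hy hx).eq

theorem S_le_CK : (C.S : Subgroup G) ≤ C.CK := fun s hs =>
  mem_centralizer_iff.2 fun y hy => EqConj.oddPart_commute C.S hy hs

instance KCK_normal : (C.K.subgroupOf C.CK).Normal := by
  refine ⟨fun x hx g => mem_subgroupOf.2 ?_⟩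
  have h : (x : G) * g = g * x := mem_centralizer_iff.1 g.2 _ (mem_subgroupOf.1 hx)
  show (g : G) * x * (g : G)⁻¹ ∈ C.K
  rw [← h, mul_inv_cancel_right]
  exact mem_subgroupOf.1 hx

/-- `C(K)/K`. -/
abbrev X0 : Type u := C.CK ⧸ C.K.subgroupOf C.CK

/-- The projection. -/
abbrev proj : C.CK →* C.X0 := QuotientGroup.mk' _

theorem proj_eq_one (x : C.CK) : C.proj x = 1 ↔ (x : G) ∈ C.K := by
  rw [← mem_subgroupOf]
  exact QuotientGroup.eq_one_iff x

/-- The image of `S`. -/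
noncomputable def S0 : Sylow 2 C.X0 :=
  haveI := Fact.mk Nat.prime_two
  (C.S.subtype C.S_le_CK).mapSurjective (QuotientGroup.mk'_surjective _)

theorem mem_S0 {y : C.X0} :
    y ∈ (C.S0 : Subgroup C.X0) ↔ ∃ s : C.CK, (s : G) ∈ (C.S : Subgroup G) ∧ C.proj s = y := by
  show y ∈ ((C.S.subtype C.S_le_CK : Sylow 2 C.CK) : Subgroup C.CK).map C.proj ↔ _
  rw [mem_map, Sylow.coe_subtype]
  rfl

theorem S0_elementary : Cfsg.IsElementaryAbelian 2 (C.S0 : Subgroup C.X0) := by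
  refine ⟨⟨⟨fun a b => Subtype.ext ?_⟩⟩, fun a ha => ?_⟩
  · obtain ⟨x, hx, hxa⟩ := C.mem_S0.1 a.2
    obtain ⟨y, hy, hyb⟩ := C.mem_S0.1 b.2
    show (a : C.X0) * b = b * a
    rw [← hxa, ← hyb, ← map_mul, ← map_mul]
    exact congrArg _ (Subtype.ext (comm_of_mem C.S C.hS hx hy).eq)
  · obtain ⟨x, hx, rfl⟩ := C.mem_S0.1 ha
    rw [← map_pow, show x ^ 2 = 1 from Subtype.ext (C.hS.2 x hx), map_one]

theorem card_S0 : Nat.card (C.S0 : Subgroup C.X0) = 8 := by
  rw [← C.h8]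
  refine (Nat.card_congr (Equiv.ofBijective
    (fun s : (C.S : Subgroup G) =>
      (⟨C.proj ⟨s, C.S_le_CK s.2⟩, C.mem_S0.2 ⟨⟨s, C.S_le_CK s.2⟩, s.2, rfl⟩⟩ : (C.S0 : Subgroup C.X0)))
    ⟨fun a b h => Subtype.ext ?_, fun y => ?_⟩)).symm
  · have h1 : C.proj ((⟨a, C.S_le_CK a.2⟩ : C.CK)⁻¹ * ⟨b, C.S_le_CK b.2⟩) = 1 := by
      have h' := congrArg Subtype.val h
      simp only at h'
      rw [map_mul, map_inv, h', inv_mul_cancel]
    exact inv_mul_eq_one.1 (EqConj.disjoint_S_oddPart C.S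
      (mul_mem (inv_mem a.2) b.2) ((C.proj_eq_one _).1 h1))
  · obtain ⟨s, hs, hsy⟩ := C.mem_S0.1 y.2
    exact ⟨⟨s, hs⟩, Subtype.ext hsy⟩

/-- An involution of the image of `S` is the image of one of `S`. -/
theorem invol_S0 {y : C.X0} (hy : y ∈ (C.S0 : Subgroup C.X0)) (hy1 : y ≠ 1) :
    ∃ (t : G) (ht : t ∈ (C.S : Subgroup G)), t ≠ 1 ∧ C.proj ⟨t, C.S_le_CK ht⟩ = y := by
  obtain ⟨s, hs, rfl⟩ := C.mem_S0.1 hy
  exact ⟨s, hs, fun e => hy1 (by rw [show s = 1 from Subtype.ext e, map_one]), rfl⟩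

theorem invol_conj_X0 (s t : C.X0) (hs : orderOf s = 2) (ht : orderOf t = 2) :
    ∃ g : C.X0, g * s * g⁻¹ = t := by
  obtain ⟨g, hg⟩ := exists_conj_into C.S0 C.S0_elementary hs
  obtain ⟨h, hh⟩ := exists_conj_into C.S0 C.S0_elementary ht
  obtain ⟨a, ha, ha1, haz⟩ := C.invol_S0 hg (Invol.invol_ne_one (Invol.invol_conj hs g))
  obtain ⟨b, hb, hb1, hbz⟩ := C.invol_S0 hh (Invol.invol_ne_one (Invol.invol_conj ht h))
  obtain ⟨n, hn, hnab⟩ := invol_fused C.S C.hS C.hD ha ha1 hb hb1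
  have hn' : C.proj ⟨n, C.normalizer_le_cent_K hn⟩ * (g * s * g⁻¹) * (C.proj ⟨n, C.normalizer_le_cent_K hn⟩)⁻¹ =
      h * t * h⁻¹ := by
    rw [← haz, ← hbz, ← map_inv, ← map_mul, ← map_mul]
    exact congrArg _ (Subtype.ext hnab)
  refine ⟨h⁻¹ * C.proj ⟨n, C.normalizer_le_cent_K hn⟩ * g, ?_⟩
  calc h⁻¹ * C.proj ⟨n, _⟩ * g * s * (h⁻¹ * C.proj ⟨n, _⟩ * g)⁻¹
      = h⁻¹ * (C.proj ⟨n, C.normalizer_le_cent_K hn⟩ * (g * s * g⁻¹) *
          (C.proj ⟨n, C.normalizer_le_cent_K hn⟩)⁻¹) * h := by group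
    _ = t := by rw [hn']; group

/-- `C(K) ∩ C(t)` is `W₀ K`, `W₀` its inner part. -/
theorem cent_CK {t : G} (ht : t ∈ (C.S : Subgroup G)) (ht1 : t ≠ 1) {x : G} (hx : x ∈ C.CK)
    (hxt : x ∈ centralizer ({t} : Set G)) :
    ∃ w ∈ C.inner (C.invol_mem ht ht1) ⊓ C.CK, ∃ k ∈ C.K, x = w * k := by
  obtain ⟨w, hw, k, hk, rfl⟩ := C.cent_eq_inner_K ht ht1 hxt
  exact ⟨w, ⟨hw, by simpa using mul_mem hx (inv_mem (C.K_le_CK hk))⟩, k, hk, rfl⟩

/-- The inner part maps onto the centralizer of the image. -/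
noncomputable def centEquiv {t : G} (ht : t ∈ (C.S : Subgroup G)) (ht1 : t ≠ 1) :
    ↥(C.inner (C.invol_mem ht ht1) ⊓ C.CK : Subgroup G) ≃*
      centralizer ({C.proj ⟨t, C.S_le_CK ht⟩} : Set C.X0) :=
  MulEquiv.ofBijective
    ((C.proj.comp (Subgroup.inclusion inf_le_right)).codRestrict _ fun w => mem_centralizer_singleton_iff.2 (by
      show C.proj _ * C.proj _ = C.proj _ * C.proj _
      rw [← map_mul, ← map_mul]
      exact congrArg _ (Subtype.ext (mem_centralizer_singleton_iff.1 (C.inner_le _ w.2.1)))))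
    ⟨(injective_iff_map_eq_one _).2 fun w hw => Subtype.ext
      (C.K_inner_trivial ht ht1 ((C.proj_eq_one _).1 (congrArg Subtype.val hw)) w.2.1),
     fun y => by
      obtain ⟨x, hx⟩ := QuotientGroup.mk'_surjective _ (y : C.X0)
      have hy := mem_centralizer_singleton_iff.1 y.2
      have hx' : C.proj x = y := hx
      rw [← hx', ← map_mul, ← map_mul] at hy
      have hk0 := (C.proj_eq_one ((⟨t, C.S_le_CK ht⟩ * x)⁻¹ * (x * ⟨t, C.S_le_CK ht⟩))).1 (by
        rw [map_mul, map_inv, hy, inv_mul_cancel])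
      set k := ((x : G))⁻¹ * t⁻¹ * ((x : G) * t) with hk
      have hkK : k ∈ C.K := by
        rw [hk, ← mul_inv_rev]; exact hk0
      -- `k` is inverted by `t` and centralized by it
      have hti : t⁻¹ = t := Invol.invol_inv (C.invol_mem ht ht1)
      have htk : (x : G)⁻¹ * t * x = k * t := by
        rw [hk, show (x : G)⁻¹ * t⁻¹ * ((x : G) * t) * t = (x : G)⁻¹ * t⁻¹ * x * (t * t) by group,
          hti, sq_of_mem C.S C.hS ht, mul_one]
      have hk2 : k * k = 1 := by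
        have h1 : (k * t) * (k * t) = 1 := by
          rw [← htk, show (x : G)⁻¹ * t * x * ((x : G)⁻¹ * t * x) = (x : G)⁻¹ * (t * t) * x by group,
            sq_of_mem C.S C.hS ht, mul_one, inv_mul_cancel]
        rwa [show k * t * (k * t) = k * k * (t * t) from
          (show Commute k t from EqConj.oddPart_commute C.S hkK ht).symm.mul_mul_mul_comm k t,
          sq_of_mem C.S C.hS ht, mul_one] at h1
      have hk1 : k = 1 := orderOf_eq_one_iff.1 (Nat.dvd_one.1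
        ((Nat.coprime_two_left.2 (C.K_odd_order hkK)).gcd_eq_one ▸
          Nat.dvd_gcd (orderOf_dvd_of_pow_eq_one (by rw [sq]; exact hk2)) dvd_rfl))
      rw [hk1, one_mul] at htk
      have hxt : (x : G) ∈ centralizer ({t} : Set G) := mem_centralizer_singleton_iff.2 (by
        calc (x : G) * t = x * ((x : G)⁻¹ * t * x) := by rw [htk]
          _ = t * x := by group)
      obtain ⟨w, hw, κ, hκ, hwκ⟩ := C.cent_CK ht ht1 x.2 hxt
      refine ⟨⟨w, hw⟩, Subtype.ext ?_⟩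
      show C.proj ⟨w, hw.2⟩ = y
      rw [← hx', show x = ⟨w, hw.2⟩ * ⟨κ, C.K_le_CK hκ⟩ from Subtype.ext hwκ, map_mul,
        (C.proj_eq_one ⟨κ, C.K_le_CK hκ⟩).2 hκ, mul_one]⟩

theorem centEquiv_coe {t : G} (ht : t ∈ (C.S : Subgroup G)) (ht1 : t ≠ 1)
    (w : ↥(C.inner (C.invol_mem ht ht1) ⊓ C.CK : Subgroup G)) :
    ((C.centEquiv ht ht1 w : _) : C.X0) = C.proj ⟨w, w.2.2⟩ := rfl

/-- **The centralizer of an involution of `C(K)/K`.** -/
theorem cent_X0 {t : G} (ht : t ∈ (C.S : Subgroup G)) (ht1 : t ≠ 1) :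
    ∃ (F₀ : Type) (_ : Field F₀) (_ : Fintype F₀),
      Fintype.card F₀ ^ Nat.card C.K = Fintype.card (C.loc t (C.invol_mem ht ht1)).F ∧
      ∃ f : centralizer ({C.proj ⟨t, C.S_le_CK ht⟩} : Set C.X0) →* Matrix.ProjectiveSpecialLinearGroup (Fin 2) F₀,
        Function.Surjective f ∧
          ∀ y, f y = 1 ↔ (y : C.X0) = 1 ∨ (y : C.X0) = C.proj ⟨t, C.S_le_CK ht⟩ := by
  classical
  haveI := Fact.mk Nat.prime_two
  have ht2 := C.invol_mem ht ht1
  set L := C.loc t ht2 with hL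
  haveI := C.K_cyclic
  obtain ⟨k₀, hk₀⟩ := IsCyclic.exists_generator (α := C.K)
  let k' : ↥(centralizer ({t} : Set G)) := ⟨k₀, C.K_le_cent ht k₀.2⟩
  set β := L.φ k' with hβ
  have hodd : Odd (orderOf β) := (C.K_odd_order k₀.2).of_dvd_nat
    ((orderOf_map_dvd _ _).trans (by rw [← Subgroup.orderOf_coe]))
  have hord : orderOf β = Nat.card C.K := by
    rw [← orderOf_eq_card_of_forall_mem_zpowers hk₀]
    refine Nat.dvd_antisymm ((orderOf_map_dvd _ _).trans (by rw [← Subgroup.orderOf_coe, ← Subgroup.orderOf_coe]))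
      (orderOf_dvd_of_pow_eq_one (Subtype.ext (C.field_K_injective ht ht1 (x := ((k₀ ^ orderOf β : C.K) : G))
        (k₀ ^ orderOf β).2 ?_)))
    rw [show (⟨((k₀ ^ orderOf β : C.K) : G), C.K_le_cent ht (k₀ ^ orderOf β).2⟩ :
        ↥(centralizer ({t} : Set G))) = k' ^ orderOf β from Subtype.ext (by simp [k']),
      map_pow, ← hβ, pow_orderOf_eq_one, map_one]
  obtain ⟨a, b, ha, hb, hne, hab, hfix⟩ := L.exists_four ht2 C.S C.hS C.h8 ht
  obtain ⟨hβa, hβb⟩ := hfix k' fun s hs => EqConj.oddPart_commute C.S k₀.2 hs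
  have h2 : (2 : L.F) ≠ 0 :=
    CfsgLib.Perm.Dickson.two_ne_zero_of_odd (F := L.F) (by rw [Nat.card_eq_fintype_card]; exact L.odd_field)
  obtain ⟨F₀, iF, iFf, hq, ⟨e⟩⟩ := BGroup.cent_equiv h2 hodd ha hb hne hab hβa hβb
  refine ⟨F₀, iF, iFf, by rw [← hord]; exact hq, ?_⟩
  set H : Subgroup G := C.inner ht2 ⊓ C.CK
  set E := MonoidHom.eqLocus β.toMonoidHom (MonoidHom.id (Matrix.ProjectiveSpecialLinearGroup (Fin 2) L.F))
  let f₁ : H →* Matrix.ProjectiveSpecialLinearGroup (Fin 2) L.F :=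
    (MonoidHom.ofInjective L.conj_injective).symm.toMonoidHom.comp
      ((L.φ.comp (Subgroup.inclusion (inf_le_left.trans (C.inner_le ht2)))).codRestrict _ fun w => by
        obtain ⟨k, hk⟩ := (C.mem_inner ht2 ⟨w, C.inner_le ht2 w.2.1⟩).1 w.2.1
        exact ⟨k, hk.symm⟩)
  have hf₁ : ∀ w : H, MulAut.conj (f₁ w) = L.φ ⟨w, C.inner_le ht2 w.2.1⟩ := fun w =>
    congrArg Subtype.val ((MonoidHom.ofInjective L.conj_injective).apply_symm_apply _)
  have hmem : ∀ w : H, f₁ w ∈ E := by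
    intro w
    show β (f₁ w) = f₁ w
    refine L.conj_injective ?_
    have hc : k' * ⟨w, C.inner_le ht2 w.2.1⟩ = ⟨w, C.inner_le ht2 w.2.1⟩ * k' :=
      Subtype.ext (mem_centralizer_iff.1 w.2.2 _ k₀.2)
    have h := congrArg L.φ hc
    rw [map_mul, map_mul, ← hf₁, ← hβ] at h
    calc MulAut.conj (β (f₁ w)) = β * MulAut.conj (f₁ w) * β⁻¹ := MulEquiv.ext fun y => by
          simp only [MulAut.mul_apply, MulAut.conj_apply, map_mul, map_inv, MulAut.apply_inv_self]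
      _ = MulAut.conj (f₁ w) := by rw [h, mul_inv_cancel_right]
  refine ⟨((e.toMonoidHom.comp (f₁.codRestrict E hmem)).comp (C.centEquiv ht ht1).symm.toMonoidHom),
    fun q => ?_, fun y => ?_⟩
  · obtain ⟨⟨r, hr⟩, rfl⟩ := e.surjective q
    obtain ⟨x, hx⟩ := L.inn r
    have hxW : (x : G) ∈ C.inner ht2 := (C.mem_inner ht2 x).2 ⟨r, hx⟩
    have hker : L.φ (k' * x * k'⁻¹ * x⁻¹) = 1 := by
      rw [map_mul, map_mul, map_mul, map_inv, map_inv, hx, ← hβ, mul_inv_eq_one]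
      refine MulEquiv.ext fun y => ?_
      simp only [MulAut.mul_apply, MulAut.conj_apply, map_mul, map_inv, MulAut.apply_inv_self,
        show β r = r from hr]
    have hcomm : (k₀ : G) * x = x * k₀ := by
      rcases C.phi_eq_one ht2 hker with h | h
      · rwa [show ((k' * x * k'⁻¹ * x⁻¹ : ↥(centralizer ({t} : Set G))) : G) =
          (k₀ : G) * x * (k₀ : G)⁻¹ * (x : G)⁻¹ from rfl, mul_inv_eq_one, mul_inv_eq_iff_eq_mul] at h
      · exfalso
        have h' : (k₀ : G) * x * (k₀ : G)⁻¹ = t * x := mul_inv_eq_iff_eq_mul.1 h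
        have hkt : Commute (k₀ : G) t := EqConj.oddPart_commute C.S k₀.2 ht
        have hn : ∀ n : ℕ, (k₀ : G) ^ n * x * ((k₀ : G) ^ n)⁻¹ = t ^ n * x := fun n => by
          induction n with
          | zero => simp
          | succ n ih =>
            rw [pow_succ', show (k₀ : G) * (k₀ : G) ^ n * x * ((k₀ : G) * (k₀ : G) ^ n)⁻¹ =
              (k₀ : G) * ((k₀ : G) ^ n * x * ((k₀ : G) ^ n)⁻¹) * (k₀ : G)⁻¹ by group, ih,
              show (k₀ : G) * (t ^ n * x) * (k₀ : G)⁻¹ = ((k₀ : G) * t ^ n) * x * (k₀ : G)⁻¹ by group,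
              (hkt.pow_right n).eq, show t ^ n * (k₀ : G) * x * (k₀ : G)⁻¹ = t ^ n * ((k₀ : G) * x * (k₀ : G)⁻¹) by group,
              h', ← mul_assoc, ← pow_succ]
        have h1 := hn (orderOf (k₀ : G))
        rw [pow_orderOf_eq_one, one_mul, inv_one, mul_one, right_eq_mul] at h1
        have hd := orderOf_dvd_of_pow_eq_one h1
        rw [ht2] at hd
        exact Nat.not_even_iff_odd.2 (C.K_odd_order k₀.2) (even_iff_two_dvd.2 hd)
    have hxK : (x : G) ∈ C.CK := mem_centralizer_iff.2 fun z hz => by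
      obtain ⟨i, hi⟩ := mem_zpowers_iff.1 (hk₀ ⟨z, hz⟩)
      rw [show z = (k₀ : G) ^ i from (congrArg Subtype.val hi).symm]
      exact ((show Commute (k₀ : G) x from hcomm).zpow_left i).eq
    refine ⟨C.centEquiv ht ht1 ⟨x, hxW, hxK⟩, congrArg e (Subtype.ext (L.conj_injective ?_))⟩
    simp only [MulEquiv.coe_toMonoidHom, MulEquiv.symm_apply_apply]
    show MulAut.conj (f₁ ⟨x, hxW, hxK⟩) = MulAut.conj r
    rw [hf₁, ← hx]
  · obtain ⟨w, rfl⟩ := (C.centEquiv ht ht1).surjective y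
    rw [C.centEquiv_coe ht ht1]
    simp only [MulEquiv.coe_toMonoidHom, MonoidHom.coe_comp, Function.comp_apply, MulEquiv.symm_apply_apply,
      EmbeddingLike.map_eq_one_iff]
    constructor
    · intro h
      have h1 : L.φ ⟨w, C.inner_le ht2 w.2.1⟩ = 1 := by
        rw [← hf₁, show f₁ w = 1 from congrArg Subtype.val h, map_one]
      rcases C.phi_eq_one ht2 h1 with e | e
      · left; rw [show (⟨w, w.2.2⟩ : C.CK) = 1 from Subtype.ext e, map_one]
      · right; exact congrArg _ (Subtype.ext e)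
    · intro h
      refine Subtype.ext (L.conj_injective ?_)
      show MulAut.conj (f₁ w) = MulAut.conj 1
      rw [hf₁, map_one, L.ker_iff]
      have hcore : core t = ⊥ := C.core_eq_bot ht2
      simp only [hcore, mem_bot]
      rcases h with h | h
      · exact Or.inl (C.K_inner_trivial ht ht1 ((C.proj_eq_one _).1 h) w.2.1)
      · right
        refine C.K_inner_trivial ht ht1 ((C.proj_eq_one (⟨t, C.S_le_CK ht⟩ * ⟨w, w.2.2⟩)).1 ?_)
          ((C.inner ht2).mul_mem (C.sq_mem_inner ht2 (C.S_le_cent ht ht) (sq_of_mem C.S C.hS ht)) w.2.1)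
        rw [map_mul, h, ← map_mul, show (⟨t, C.S_le_CK ht⟩ * ⟨t, C.S_le_CK ht⟩ : C.CK) = 1 from
          Subtype.ext (sq_of_mem C.S C.hS ht), map_one]

end Ctx

end CfsgLib.EqualOrder2
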