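import Cfsg.Agent.Lib.EqualOrder2.End

/-!
# A non-solvable centralizer of an involution forces the first Janko group
-/

set_option autoImplicit false
set_option linter.unusedSectionVars false
set_option linter.style.haveILetI false

namespace CfsgLib.EqualOrder2

open Subgroup
open CfsgLib.EqualOrder (ConjByOrder)

universe u

variable {G : Type u} [Group G] [Finite G]

namespace Ctx

variable (C : Ctx G)

/-- `W` modulo `⟨t⟩`. -/
theorem exists_inner_hom {t : G} (ht : orderOf t = 2) :
    ∃ f : C.inner ht →* Matrix.ProjectiveSpecialLinearGroup (Fin 2) (C.loc t ht).F,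
      Function.Surjective f ∧ ∀ w, f w = 1 ↔ (w : G) = 1 ∨ (w : G) = t := by
  set L := C.loc t ht
  let f : C.inner ht →* Matrix.ProjectiveSpecialLinearGroup (Fin 2) L.F :=
    (MonoidHom.ofInjective L.conj_injective).symm.toMonoidHom.comp
      ((L.φ.comp (Subgroup.inclusion (C.inner_le ht))).codRestrict _ fun w => by
        obtain ⟨k, hk⟩ := (C.mem_inner ht ⟨w, C.inner_le ht w.2⟩).1 w.2
        exact ⟨k, hk.symm⟩)
  have hf : ∀ w : C.inner ht, MulAut.conj (f w) = L.φ ⟨w, C.inner_le ht w.2⟩ := fun w =>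
    congrArg Subtype.val ((MonoidHom.ofInjective L.conj_injective).apply_symm_apply _)
  refine ⟨f, fun k => ?_, fun w => ⟨fun h => ?_, fun h => L.conj_injective ?_⟩⟩
  · obtain ⟨x, hx⟩ := L.inn k
    exact ⟨⟨x, (C.mem_inner ht x).2 ⟨k, hx⟩⟩, L.conj_injective ((hf _).trans hx)⟩
  · exact C.phi_eq_one ht (x := ⟨w, C.inner_le ht w.2⟩) (by rw [← hf, h, map_one])
  · rw [hf, map_one, L.ker_iff]
    rcases h with h | h
    · exact Or.inl ((show ((⟨w, _⟩ : ↥(centralizer ({t} : Set G))) : G) = 1 from h) ▸ one_mem _)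
    · refine Or.inr ?_
      show t * (w : G) ∈ core t
      rw [h, Invol.invol_mul_self ht]
      exact one_mem _

/-- The recognition. -/
theorem isJ1 (hn : ¬ (C.S : Subgroup G).Normal) : Cfsg.IsJ1 G := by
  classical
  haveI := Fact.mk Nat.prime_two
  obtain ⟨M, hMn, hMs, hMab, -, hM, hSM⟩ := exists_simple_normal C.S C.hS C.hD C.hO hn
  haveI := hMn
  haveI := hMs
  have hKM := C.inf_eq_bot hM hMab
  obtain ⟨t, ht, ht2'⟩ := Invol.exists_invol_mem (H := (C.S : Subgroup G)) (by rw [C.h8]; decide)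
  have ht1 := Invol.invol_ne_one ht2'
  have ht2 := C.invol_mem ht ht1
  set L := C.loc t ht2
  let a : M := ⟨t, hSM ht⟩
  have ha : orderOf a = 2 := by rw [← Subgroup.orderOf_coe]; exact ht2
  have hWM := C.inner_le_of_invol hM ht ht1
  obtain ⟨f, hf, hker⟩ := C.exists_inner_hom ht2
  set Ca := centralizer ({a} : Set M)
  let ι : C.inner ht2 →* Ca := (Subgroup.inclusion hWM).codRestrict _ fun w =>
    mem_centralizer_singleton_iff.2 (Subtype.ext (mem_centralizer_singleton_iff.1 (C.inner_le ht2 w.2)))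
  have hι : Function.Bijective ι := by
    refine ⟨fun v w h => Subtype.ext (congrArg (fun z : Ca => ((z : M) : G)) h), fun z => ?_⟩
    obtain ⟨w, hw, k, hk, he⟩ := C.cent_eq_inner_K ht ht1 (x := ((z : M) : G))
      (mem_centralizer_singleton_iff.2 (congrArg Subtype.val (mem_centralizer_singleton_iff.1 z.2)))
    have hk1 : k = 1 := by
      rw [← mem_bot, ← hKM]
      refine ⟨hk, ?_⟩
      rw [show k = w⁻¹ * ((z : M) : G) by rw [he, inv_mul_cancel_left]]
      exact M.mul_mem (M.inv_mem (hWM hw)) (z : M).2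
    exact ⟨⟨w, hw⟩, Subtype.ext (Subtype.ext (by rw [he, hk1, mul_one]; rfl))⟩
  let eW := MulEquiv.ofBijective ι hι
  have hab : ∀ P : Sylow 2 M, ∀ x y : P, x * y = y * x := fun P x y => by
    obtain ⟨T, hT⟩ := (P.2.map M.subtype).exists_le_sylow
    exact Subtype.ext (Subtype.ext (comm_of_mem T (elementary_sylow C.S C.hS T)
      (hT ⟨x, x.2, rfl⟩) (hT ⟨y, y.2, rfl⟩)).eq)
  obtain ⟨e⟩ := two_times (z := (⟨t, C.sq_mem_inner ht2 (C.S_le_cent ht ht) (sq_of_mem C.S C.hS ht)⟩ : C.inner ht2))
    (by rw [← Subgroup.orderOf_coe]; exact ht2)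
    (mem_center_iff.2 fun x => Subtype.ext (mem_centralizer_singleton_iff.1 (C.inner_le ht2 x.2)))
    (fun T x hx => by
      obtain ⟨U, hU⟩ := (T.2.map (C.inner ht2).subtype).exists_le_sylow
      exact Subtype.ext (sq_of_mem U (elementary_sylow C.S C.hS U) (hU ⟨x, hx, rfl⟩)))
    f hf ((hker _).2 (Or.inr rfl)) (fun x hx => by
      rcases (hker x).1 hx with h | h
      · exact Or.inl (Subtype.ext h)
      · exact Or.inr (Subtype.ext h))
  have e' := eW.symm.trans e
  have h5 := L.five_le
  rcases Cfsg.Agent.S0343.result hab (F := L.F) (by omega) a ha ⟨e'⟩ with ⟨m, hm, hF, -⟩ | ⟨hF, hJ⟩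
  · exact absurd ((C.hg ht ht1 hm hF).subgroup M) (not_hg_of_centralizer hMab hab ha hm hF e')
  have hF5 : Fintype.card L.F = 5 := by
    rcases L.mod_eight with h | h <;> omega
  haveI : Fact (Nat.Prime 5) := ⟨by norm_num⟩
  have hK : C.K = ⊥ := by
    haveI : CharP L.F 5 := by
      obtain ⟨p, hp⟩ := CharP.exists L.F
      haveI := hp
      obtain ⟨n, hpp, hn⟩ := FiniteField.card L.F p
      rw [hF5] at hn
      exact ((Nat.prime_dvd_prime_iff_eq hpp (by norm_num : Nat.Prime 5)).1
        (hn ▸ dvd_pow_self p n.pos.ne')) ▸ hp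
    haveI : Finite (RingAut L.F) := Finite.of_injective (fun τ : RingAut L.F => (τ : L.F → L.F)) DFunLike.coe_injective
    have hone : Subsingleton (RingAut L.F) := by
      refine Finite.card_le_one_iff_subsingleton.1 ?_
      rw [EqualOrder.card_galoisAut 5 (F := L.F) (n := 1) (by rw [Nat.card_eq_fintype_card, hF5, pow_one])]
    exact (eq_bot_iff_forall _).2 fun x hx => C.field_K_injective ht ht1 hx (Subsingleton.elim _ _)
  have htop : M = ⊤ := by
    have h := C.sup_K_eq_top hM
    rwa [hK, sup_bot_eq] at h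
  subst htop
  exact ⟨(MulEquiv.isSimpleGroup_congr topEquiv).1 hMs, by rw [← hJ.2, card_top]⟩

end Ctx

/-- **A non-solvable centralizer of an involution.** -/
theorem isJ1_of_nonsolvable (hD : ConjByOrder G) (hO : Cfsg.oddCore G = ⊥) (S : Sylow 2 G)
    (hS : Cfsg.IsElementaryAbelian 2 (S : Subgroup G)) (h8 : Nat.card (S : Subgroup G) = 8)
    {t : G} (ht : orderOf t = 2) (hns : ¬ Group.IsSolvable ↥(Subgroup.centralizer ({t} : Set G))) :
    Cfsg.IsJ1 G := by
  classical
  haveI := Fact.mk Nat.prime_two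
  have hall : ∀ s : G, orderOf s = 2 → ¬ Group.IsSolvable ↥(centralizer ({s} : Set G)) := by
    intro s hs hsol
    obtain ⟨g, hg⟩ := invol_all_conj S hS hD ht hs
    haveI := hsol
    refine hns (Group.isSolvable_of_isSolvable_injective
      (f := MonoidHom.codRestrict ((MulAut.conj g).toMonoidHom.comp (centralizer ({t} : Set G)).subtype)
        (centralizer ({s} : Set G)) fun x => ?_) fun a b h => ?_)
    · refine mem_centralizer_singleton_iff.2 ?_
      rw [← hg]
      exact ((show Commute (x : G) t from mem_centralizer_singleton_iff.1 x.2).map (MulAut.conj g).toMonoidHom).eq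
    · exact Subtype.ext ((MulAut.conj g).injective (congrArg Subtype.val h))
  let C : Ctx G := ⟨hD, hO, S, hS, h8, fun s hs => (exists_local S hS h8 hs (hall s hs)).some⟩
  refine C.isJ1 fun hn => hns ?_
  haveI := EqConj.normalizer_solvable S hS
  have htop : normalizer ((S : Subgroup G) : Set G) = ⊤ := normalizer_eq_top_iff.2 hn
  exact Group.isSolvable_of_isSolvable_injective
    (f := Subgroup.inclusion (show centralizer ({t} : Set G) ≤ normalizer ((S : Subgroup G) : Set G) by
      rw [htop]; exact le_top)) (Subgroup.inclusion_injective _)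

end CfsgLib.EqualOrder2
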