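import Cfsg.Agent.Lib.EqualOrder2.Core

/-!
# The field part

With trivial cores `K = O(N(S))` is cyclic, central in `N(S)`, and `C(t) = W K`, `W` the preimage of
the inner automorphisms. A non-trivial element of `K` is centralized by the normalizer of its group.
-/

set_option autoImplicit false
set_option linter.unusedSectionVars false
set_option linter.style.haveILetI false

namespace CfsgLib.EqualOrder2

open Subgroup
open CfsgLib.EqualOrder (ConjByOrder)

universe u

variable {G : Type u} [Group G] [Finite G]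

namespace Ctx

variable (C : Ctx G)

/-- The preimage of the inner automorphisms. -/
def inner {t : G} (ht : orderOf t = 2) : Subgroup G :=
  (((MulAut.conj : Matrix.ProjectiveSpecialLinearGroup (Fin 2) (C.loc t ht).F →* _).range).comap
    (C.loc t ht).φ).map (centralizer ({t} : Set G)).subtype

theorem inner_le {t : G} (ht : orderOf t = 2) : C.inner ht ≤ centralizer ({t} : Set G) := map_subtype_le _

theorem mem_inner {t : G} (ht : orderOf t = 2) (x : ↥(centralizer ({t} : Set G))) :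
    (x : G) ∈ C.inner ht ↔ ∃ k, (C.loc t ht).φ x = MulAut.conj k := by
  constructor
  · rintro ⟨y, ⟨k, hk⟩, hyx⟩
    rw [← show y = x from Subtype.ext hyx]
    exact ⟨k, hk.symm⟩
  · rintro ⟨k, hk⟩
    exact ⟨x, ⟨k, hk.symm⟩, rfl⟩

theorem inner_conj {t : G} (ht : orderOf t = 2) {g x : G} (hg : g ∈ centralizer ({t} : Set G))
    (hx : x ∈ C.inner ht) : g * x * g⁻¹ ∈ C.inner ht := by
  set L := C.loc t ht
  obtain ⟨k, hk⟩ := (C.mem_inner ht ⟨x, C.inner_le ht hx⟩).1 hx
  refine (C.mem_inner ht ⟨g * x * g⁻¹, conj_mem_self _ hg (C.inner_le ht hx)⟩).2 ⟨L.φ ⟨g, hg⟩ k, ?_⟩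
  rw [show (⟨g * x * g⁻¹, conj_mem_self _ hg (C.inner_le ht hx)⟩ : ↥(centralizer ({t} : Set G))) =
    ⟨g, hg⟩ * ⟨x, C.inner_le ht hx⟩ * ⟨g, hg⟩⁻¹ from rfl, map_mul, map_mul, map_inv, hk]
  refine MulEquiv.ext fun y => ?_
  simp only [MulAut.mul_apply, MulAut.conj_apply, map_mul, map_inv, MulAut.apply_inv_self]
  rfl

/-- An element of order two or one of `C(t)` has inner image. -/
theorem sq_mem_inner {t x : G} (ht : orderOf t = 2) (hx : x ∈ centralizer ({t} : Set G)) (h : x * x = 1) :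
    x ∈ C.inner ht := (C.mem_inner ht ⟨x, hx⟩).2 ((C.loc t ht).invol_inner _ (Subtype.ext h))

/-- The kernel is `{1, t}`. -/
theorem phi_eq_one {t : G} (ht : orderOf t = 2) {x : ↥(centralizer ({t} : Set G))}
    (h : (C.loc t ht).φ x = 1) : (x : G) = 1 ∨ (x : G) = t := by
  rcases ((C.loc t ht).ker_iff x).1 h with h | h <;> rw [C.core_eq_bot ht, mem_bot] at h
  · exact Or.inl h
  · right
    rw [mul_eq_one_iff_inv_eq, Invol.invol_inv ht] at h
    exact h.symm

theorem phi_eq_one_odd {t : G} (ht : orderOf t = 2) {x : ↥(centralizer ({t} : Set G))}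
    (h : (C.loc t ht).φ x = 1) (hodd : Odd (orderOf (x : G))) : (x : G) = 1 := by
  rcases C.phi_eq_one ht h with h | h
  · exact h
  · rw [h, ht] at hodd; exact absurd hodd (by decide)

theorem K_odd_order {x : G} (hx : x ∈ C.K) : Odd (orderOf x) :=
  (EqConj.oddPart_odd C.S).of_dvd_nat (Subgroup.orderOf_dvd_natCard _ hx)

/-- `K` is commutative. -/
theorem K_comm {x y : G} (hx : x ∈ C.K) (hy : y ∈ C.K) : Commute x y := by
  haveI := Fact.mk Nat.prime_two
  obtain ⟨t, ht, ht2⟩ := Invol.exists_invol_mem (H := (C.S : Subgroup G)) (by rw [C.h8]; decide)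
  have h := C.comm_mem_core ht (Invol.invol_ne_one ht2) hx hy
  rw [C.core_eq_bot ht2, mem_bot, mul_inv_eq_one, mul_inv_eq_iff_eq_mul] at h
  exact h

/-- Only the identity of `K` has inner image. -/
theorem K_inner_trivial {t x : G} (ht : t ∈ (C.S : Subgroup G)) (ht1 : t ≠ 1) (hx : x ∈ C.K)
    (hi : x ∈ C.inner (C.invol_mem ht ht1)) : x = 1 := by
  have ht2 := C.invol_mem ht ht1
  let x' : ↥(centralizer ({t} : Set G)) := ⟨x, C.K_le_cent ht hx⟩
  obtain ⟨k, hk⟩ := (C.mem_inner ht2 x').1 hi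
  have hk1 := (C.loc t ht2).inner_cent ht2 C.S C.hS C.h8 ht (x := x') (C.K_odd_order hx)
    (fun s hs => EqConj.oddPart_commute C.S hx hs) hk
  exact C.phi_eq_one_odd ht2 (x := x') (by rw [hk, hk1, map_one]) (C.K_odd_order hx)

/-- The field part embeds `K`. -/
theorem field_K_injective {t x : G} (ht : t ∈ (C.S : Subgroup G)) (ht1 : t ≠ 1) (hx : x ∈ C.K)
    (h : CfsgLib.GW.fieldPartHom ((C.loc t (C.invol_mem ht ht1)).φ ⟨x, C.K_le_cent ht hx⟩) = 1) : x = 1 := by
  have ht2 := C.invol_mem ht ht1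
  set L := C.loc t ht2
  obtain ⟨a, b, ha, hb, hne, hab, hfix⟩ := L.exists_four ht2 C.S C.hS C.h8 ht
  let x' : ↥(centralizer ({t} : Set G)) := ⟨x, C.K_le_cent ht hx⟩
  obtain ⟨hxa, hxb⟩ := hfix x' fun s hs => EqConj.oddPart_commute C.S hx hs
  have h2 : (2 : L.F) ≠ 0 :=
    CfsgLib.Perm.Dickson.two_ne_zero_of_odd (F := L.F) (by rw [Nat.card_eq_fintype_card]; exact L.odd_field)
  have hodd : Odd (orderOf (L.φ x')) :=
    (C.K_odd_order hx).of_dvd_nat ((orderOf_map_dvd _ _).trans (by rw [← Subgroup.orderOf_coe]))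
  exact C.phi_eq_one_odd ht2 (x := x') (BGroup.field_injective h2 hodd ha hb hne hab hxa hxb h)
    (C.K_odd_order hx)

theorem isCyclic_ringAut {t : G} (ht : orderOf t = 2) : IsCyclic (RingAut (C.loc t ht).F) := by
  obtain ⟨q, hq⟩ := CharP.exists (C.loc t ht).F
  obtain ⟨f, hqp, hf⟩ := FiniteField.card (C.loc t ht).F q
  haveI := Fact.mk hqp
  obtain ⟨θ⟩ := CfsgLib.AutPSL.exists_ringAut_equiv hf
  exact isCyclic_of_surjective θ.symm θ.symm.surjective

theorem K_cyclic : IsCyclic C.K := by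
  haveI := Fact.mk Nat.prime_two
  obtain ⟨t, ht, ht2⟩ := Invol.exists_invol_mem (H := (C.S : Subgroup G)) (by rw [C.h8]; decide)
  haveI := C.isCyclic_ringAut ht2
  let f : C.K →* RingAut (C.loc t ht2).F :=
    (CfsgLib.GW.fieldPartHom.comp (C.loc t ht2).φ).comp (Subgroup.inclusion (C.K_le_cent ht))
  exact isCyclic_of_injective f ((injective_iff_map_eq_one f).2 fun x hx =>
    Subtype.ext (C.field_K_injective ht (Invol.invol_ne_one ht2) x.2 hx))

/-- The stabilizer of an involution in `N(S)` does not centralize `S`; it has an element with inner image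
moving `S`. -/
theorem exists_inner_moving {t : G} (ht : t ∈ (C.S : Subgroup G)) (ht1 : t ≠ 1) :
    ∃ n ∈ normalizer ((C.S : Subgroup G) : Set G), n ∈ C.inner (C.invol_mem ht ht1) ∧
      n ∉ centralizer ((C.S : Subgroup G) : Set G) := by
  haveI := Fact.mk Nat.prime_two
  have ht2 := C.invol_mem ht ht1
  set L := C.loc t ht2
  haveI := L.simple
  set W := C.inner ht2
  have hSW : (C.S : Subgroup G) ≤ W := fun s hs =>
    C.sq_mem_inner ht2 (C.S_le_cent ht hs) (sq_of_mem C.S C.hS hs)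
  by_contra hc
  push Not at hc
  let SW : Sylow 2 W := C.S.subtype hSW
  have hN : normalizer ((SW : Subgroup W) : Set W) ≤ centralizer ((SW : Subgroup W) : Set W) := by
    intro w hw
    have hwN : (w : G) ∈ normalizer ((C.S : Subgroup G) : Set G) := by
      refine mem_normalizer_iff.2 fun s => ?_
      constructor
      · intro hs
        exact (mem_normalizer_iff.1 hw ⟨s, hSW hs⟩).1 hs
      · intro hs
        have hsW : s ∈ W := by
          have := conj_mem_self W (W.inv_mem w.2) (hSW hs)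
          rwa [show (w : G)⁻¹ * ((w : G) * s * (w : G)⁻¹) * (w : G)⁻¹⁻¹ = s by group] at this
        exact (mem_normalizer_iff.1 hw ⟨s, hsW⟩).2 hs
    have hwc := hc w hwN w.2
    exact mem_centralizer_iff.2 fun s hs => Subtype.ext (mem_centralizer_iff.1 hwc s hs)
  set J := (MonoidHom.transferSylow SW hN).ker
  have hJ := MonoidHom.ker_transferSylow_isComplement' SW hN
  have hJodd : ¬ 2 ∣ Nat.card J := MonoidHom.not_dvd_card_ker_transferSylow SW hN
  haveI : Group.IsSolvable J := FT.isSolvable_of_odd _ (by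
    rwa [← Nat.not_even_iff_odd, even_iff_two_dvd])
  haveI : Group.IsSolvable (SW : Subgroup W) := Coprime.isSolvable_of_isMulCommutative
    ⟨⟨fun a b => Subtype.ext (Subtype.ext (comm_of_mem C.S C.hS (a.2 : ((a : W) : G) ∈ (C.S : Subgroup G))
      (b.2 : ((b : W) : G) ∈ (C.S : Subgroup G))).eq)⟩⟩
  haveI : Group.IsSolvable (MonoidHom.transferSylow SW hN).range :=
    inferInstance
  haveI : Group.IsSolvable W := Group.isSolvable_of_ker_le_range J.subtype (MonoidHom.transferSylow SW hN)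
    (by rw [Subgroup.range_subtype])
  let f : W →* Matrix.ProjectiveSpecialLinearGroup (Fin 2) L.F :=
    (MonoidHom.ofInjective L.conj_injective).symm.toMonoidHom.comp
      ((L.φ.comp (Subgroup.inclusion (C.inner_le ht2))).codRestrict _ fun w => by
        obtain ⟨k, hk⟩ := (C.mem_inner ht2 ⟨w, C.inner_le ht2 w.2⟩).1 w.2
        exact ⟨k, hk.symm⟩)
  have hf : Function.Surjective f := by
    intro k
    obtain ⟨x, hx⟩ := L.inn k
    refine ⟨⟨x, (C.mem_inner ht2 x).2 ⟨k, hx⟩⟩, (MonoidHom.ofInjective L.conj_injective).injective ?_⟩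
    show (MonoidHom.ofInjective L.conj_injective)
      ((MonoidHom.ofInjective L.conj_injective).symm _) = _
    rw [MulEquiv.apply_symm_apply]
    exact Subtype.ext hx
  haveI : Group.IsSolvable (Matrix.ProjectiveSpecialLinearGroup (Fin 2) L.F) :=
    Group.isSolvable_of_surjective hf
  exact (CfsgLib.Perm.Dickson.psl_simple_noncomm (F := L.F)
    (by rw [Nat.card_eq_fintype_card]; exact le_of_lt L.five_le)).2
    ⟨⟨IsSimpleGroup.comm_iff_isSolvable.2 inferInstance⟩⟩

/-- The stabilizer of `t` has index seven in `N(S)`. -/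
theorem relIndex_stab {t : G} (ht : t ∈ (C.S : Subgroup G)) (ht1 : t ≠ 1) :
    (normalizer ((C.S : Subgroup G) : Set G) ⊓ centralizer ({t} : Set G)).relIndex
      (normalizer ((C.S : Subgroup G) : Set G)) = 7 := by
  classical
  set N := normalizer ((C.S : Subgroup G) : Set G)
  set St := N ⊓ centralizer ({t} : Set G)
  let f : N ⧸ St.subgroupOf N → {s : (C.S : Subgroup G) // s ≠ 1} :=
    Quotient.lift (fun n : N => ⟨⟨(n : G) * t * (n : G)⁻¹, (mem_normalizer_iff.1 n.2 t).1 ht⟩,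
      fun h => ht1 (by simpa [mul_inv_eq_one] using congrArg Subtype.val h)⟩)
      (fun n m h => by
        have h' : (n : G)⁻¹ * m ∈ centralizer ({t} : Set G) :=
          (show n⁻¹ * m ∈ St.subgroupOf N from QuotientGroup.leftRel_apply.1 h).2
        have h'' := mem_centralizer_singleton_iff.1 h'
        refine Subtype.ext (Subtype.ext ?_)
        show (n : G) * t * (n : G)⁻¹ = (m : G) * t * (m : G)⁻¹
        calc (n : G) * t * (n : G)⁻¹ = (n : G) * (t * ((n : G)⁻¹ * m)) * (m : G)⁻¹ := by group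
          _ = (n : G) * ((n : G)⁻¹ * m * t) * (m : G)⁻¹ := by rw [h'']
          _ = (m : G) * t * (m : G)⁻¹ := by group)
  have hf : Function.Bijective f := by
    refine ⟨fun x y => ?_, fun s => ?_⟩
    · refine Quotient.inductionOn₂ x y fun n m h => ?_
      apply Quotient.sound
      refine QuotientGroup.leftRel_apply.2 (show n⁻¹ * m ∈ St.subgroupOf N from ⟨(n⁻¹ * m).2, ?_⟩)
      show (n : G)⁻¹ * m ∈ centralizer ({t} : Set G)
      refine mem_centralizer_singleton_iff.2 ?_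
      have h' : (n : G) * t * (n : G)⁻¹ = (m : G) * t * (m : G)⁻¹ :=
        congrArg (fun z : {s : (C.S : Subgroup G) // s ≠ 1} => ((z : (C.S : Subgroup G)) : G)) h
      calc (n : G)⁻¹ * m * t = (n : G)⁻¹ * ((m : G) * t * (m : G)⁻¹) * m := by group
        _ = (n : G)⁻¹ * ((n : G) * t * (n : G)⁻¹) * m := by rw [h']
        _ = t * ((n : G)⁻¹ * m) := by group
    · obtain ⟨n, hn, hns⟩ := invol_fused C.S C.hS C.hD ht ht1 s.1.2 (fun h => s.2 (Subtype.ext h))
      exact ⟨QuotientGroup.mk ⟨n, hn⟩, Subtype.ext (Subtype.ext hns)⟩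
  rw [relIndex, Subgroup.index_eq_card, Nat.card_congr (Equiv.ofBijective f hf)]
  haveI := Fintype.ofFinite (C.S : Subgroup G)
  rw [Nat.card_eq_fintype_card, Fintype.card_subtype_compl, Fintype.card_subtype_eq,
    ← Nat.card_eq_fintype_card, C.h8]

/-- `N(S)` is generated by the stabilizers of the involutions. -/
theorem normalizer_le {H : Subgroup G} (hst : ∀ a ∈ (C.S : Subgroup G), a ≠ 1 →
    normalizer ((C.S : Subgroup G) : Set G) ⊓ centralizer ({a} : Set G) ≤ H) :
    normalizer ((C.S : Subgroup G) : Set G) ≤ H := by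
  classical
  haveI := Fact.mk Nat.prime_two
  obtain ⟨t, ht, ht2⟩ := Invol.exists_invol_mem (H := (C.S : Subgroup G)) (by rw [C.h8]; decide)
  have ht1 := Invol.invol_ne_one ht2
  set N := normalizer ((C.S : Subgroup G) : Set G)
  set St : G → Subgroup G := fun a => N ⊓ centralizer ({a} : Set G) with hSt
  have h7 := relIndex_mul_relIndex (St t) (H ⊓ N) N (le_inf (hst t ht ht1) inf_le_left) inf_le_right
  rw [C.relIndex_stab ht ht1] at h7
  rcases (Nat.dvd_prime (by norm_num : Nat.Prime 7)).1 (h7.symm ▸ dvd_mul_left _ _ :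
      (H ⊓ N).relIndex N ∣ 7) with h1 | h1
  · exact (relIndex_eq_one.1 h1).trans inf_le_left
  rw [h1] at h7
  have hHt : H ⊓ N ≤ St t := relIndex_eq_one.1 (by omega)
  exfalso
  obtain ⟨n, hn, hni, hnc⟩ := C.exists_inner_moving ht ht1
  apply hnc
  refine mem_centralizer_iff.2 fun a ha => ?_
  by_cases ha1 : a = 1
  · rw [ha1, one_mul, mul_one]
  have hle : St a ≤ St t := (le_inf (hst a ha ha1) inf_le_left).trans hHt
  have h2 := relIndex_mul_relIndex (St a) (St t) N hle inf_le_left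
  rw [C.relIndex_stab ha ha1, C.relIndex_stab ht ht1] at h2
  have heq : St t ≤ St a := relIndex_eq_one.1 (by omega)
  exact (mem_centralizer_singleton_iff.1 (heq ⟨hn, C.inner_le _ hni⟩).2).symm

theorem cent_S_le_cent_K : centralizer ((C.S : Subgroup G) : Set G) ≤ centralizer (C.K : Set G) := by
  intro x hx
  obtain ⟨s, hs, w, hw, rfl⟩ := EqConj.cent_prod C.S C.hS hx
  refine mem_centralizer_iff.2 fun k hk => ?_
  exact ((show Commute k s from EqConj.oddPart_commute C.S hk hs).mul_right (C.K_comm hk hw)).eq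

/-- `N(S)` centralizes `K`. -/
theorem normalizer_le_cent_K : normalizer ((C.S : Subgroup G) : Set G) ≤ centralizer (C.K : Set G) := by
  refine C.normalizer_le fun a ha ha1 n hn => mem_centralizer_iff.2 fun k hk => ?_
  have ha2 := C.invol_mem ha ha1
  have hz : n * k * n⁻¹ * k⁻¹ ∈ C.K := C.K.mul_mem (EqConj.oddPart_conj C.S hn.1 hk) (C.K.inv_mem hk)
  haveI := C.isCyclic_ringAut ha2
  letI := IsCyclic.commGroup (α := RingAut (C.loc a ha2).F)
  have h1 := C.field_K_injective ha ha1 hz (by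
    rw [show (⟨n * k * n⁻¹ * k⁻¹, C.K_le_cent ha hz⟩ : ↥(centralizer ({a} : Set G))) =
      ⟨n, hn.2⟩ * ⟨k, C.K_le_cent ha hk⟩ * ⟨n, hn.2⟩⁻¹ * ⟨k, C.K_le_cent ha hk⟩⁻¹ from rfl]
    simp only [map_mul, map_inv]
    rw [mul_right_comm _ _ (CfsgLib.GW.fieldPartHom ((C.loc a ha2).φ ⟨n, hn.2⟩))⁻¹, mul_inv_cancel, one_mul,
      mul_inv_cancel])
  exact (mul_inv_eq_iff_eq_mul.1 (mul_inv_eq_one.1 h1)).symm

/-- **The normalizer of a non-trivial subgroup of `K` centralizes it.** -/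
theorem norm_zpowers_K {x g : G} (hx : x ∈ C.K) (hg : g * x * g⁻¹ ∈ zpowers x) : g * x * g⁻¹ = x := by
  haveI := Fact.mk Nat.prime_two
  set D := centralizer ({x} : Set G)
  have hSD : (C.S : Subgroup G) ≤ D := fun s hs =>
    mem_centralizer_singleton_iff.2 (EqConj.oddPart_commute C.S hx hs).symm
  have hgD : ((g⁻¹ • C.S : Sylow 2 G) : Subgroup G) ≤ D := by
    intro y hy
    rw [Sylow.coe_subgroup_smul] at hy
    obtain ⟨s, hs, rfl⟩ := hy
    obtain ⟨i, hi⟩ := mem_zpowers_iff.1 hg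
    have h := ((show Commute x s from EqConj.oddPart_commute C.S hx hs).zpow_left i).map
      (MulAut.conj g⁻¹).toMonoidHom
    rw [hi] at h
    simp only [MulEquiv.coe_toMonoidHom, MulAut.conj_apply, inv_inv] at h
    rw [show g⁻¹ * (g * x * g⁻¹) * g = x by group] at h
    refine mem_centralizer_singleton_iff.2 ?_
    show g⁻¹ * s * g⁻¹⁻¹ * x = x * (g⁻¹ * s * g⁻¹⁻¹)
    rw [inv_inv]
    exact h.eq.symm
  obtain ⟨c, hc⟩ := MulAction.exists_smul_eq D ((g⁻¹ • C.S).subtype hgD) (C.S.subtype hSD)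
  rw [Sylow.smul_subtype] at hc
  have hcN : (c : G) * g⁻¹ ∈ normalizer ((C.S : Subgroup G) : Set G) :=
    Sylow.smul_eq_iff_mem_normalizer.1 (by rw [mul_smul]; exact Sylow.subtype_injective hc)
  have h1 := mem_centralizer_iff.1 (C.normalizer_le_cent_K hcN) x hx
  have h2 := mem_centralizer_singleton_iff.1 c.2
  have h3 : (c : G) * (g⁻¹ * x) = (c : G) * (x * g⁻¹) := by
    rw [← mul_assoc, ← h1, ← mul_assoc, ← h2, mul_assoc]
  have h4 : g⁻¹ * x = x * g⁻¹ := mul_left_cancel h3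
  rw [mul_assoc, ← h4, mul_inv_cancel_left]

/-- The normalizer of a subgroup of order `l` centralizes it. -/
theorem norm_prime {l : ℕ} (hl : l.Prime) (hlK : l ∣ Nat.card C.K) {y g : G} (hy : orderOf y = l)
    (hg : g * y * g⁻¹ ∈ zpowers y) : g * y * g⁻¹ = y := by
  haveI := Fact.mk hl
  obtain ⟨⟨d, hd⟩, hdo⟩ := exists_prime_orderOf_dvd_card' (G := C.K) l hlK
  rw [← Subgroup.orderOf_coe] at hdo
  obtain ⟨h, hh⟩ := conj_zpowers C.hD hl hdo hy
  obtain ⟨z, hz, hzy⟩ := hh ▸ mem_zpowers y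
  obtain ⟨i, rfl⟩ := mem_zpowers_iff.1 hz
  have hdi : d ^ i ∈ C.K := C.K.zpow_mem hd i
  have hzy' : h * d ^ i * h⁻¹ = y := hzy
  obtain ⟨j, hj⟩ := mem_zpowers_iff.1 hg
  have key := C.norm_zpowers_K hdi (g := h⁻¹ * g * h) (by
    refine mem_zpowers_iff.2 ⟨j, ?_⟩
    calc (d ^ i) ^ j = h⁻¹ * (h * d ^ i * h⁻¹) ^ j * h := by rw [conj_zpow]; group
      _ = h⁻¹ * (g * y * g⁻¹) * h := by rw [hzy', hj]
      _ = _ := by rw [← hzy']; group)
  calc g * y * g⁻¹ = h * ((h⁻¹ * g * h) * d ^ i * (h⁻¹ * g * h)⁻¹) * h⁻¹ := by rw [← hzy']; group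
    _ = y := by rw [key, hzy']

/-- `C(t) = W K`. -/
theorem cent_eq_inner_K {t : G} (ht : t ∈ (C.S : Subgroup G)) (ht1 : t ≠ 1) {x : G}
    (hx : x ∈ centralizer ({t} : Set G)) :
    ∃ w ∈ C.inner (C.invol_mem ht ht1), ∃ k ∈ C.K, x = w * k := by
  classical
  haveI := Fact.mk Nat.prime_two
  have ht2 := C.invol_mem ht ht1
  set W := C.inner ht2
  set N := normalizer ((C.S : Subgroup G) : Set G)
  set M := centralizer ((C.S : Subgroup G) : Set G)
  have hSW : (C.S : Subgroup G) ≤ W := fun s hs =>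
    C.sq_mem_inner ht2 (C.S_le_cent ht hs) (sq_of_mem C.S C.hS hs)
  -- Frattini
  have hxS : ((x • C.S : Sylow 2 G) : Subgroup G) ≤ W := by
    intro y hy
    rw [Sylow.coe_subgroup_smul] at hy
    obtain ⟨s, hs, rfl⟩ := hy
    exact C.inner_conj ht2 hx (hSW hs)
  obtain ⟨c, hc⟩ := MulAction.exists_smul_eq W ((x • C.S).subtype hxS) (C.S.subtype hSW)
  rw [Sylow.smul_subtype] at hc
  have hn : (c : G) * x ∈ N := Sylow.smul_eq_iff_mem_normalizer.1
    (by rw [mul_smul]; exact Sylow.subtype_injective hc)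
  set St := N ⊓ centralizer ({t} : Set G)
  have hnSt : (c : G) * x ∈ St := ⟨hn, Subgroup.mul_mem _ (C.inner_le ht2 c.2) hx⟩
  -- `St = (St ∩ W) C(S)`
  have hMN : M ≤ N := Coprime.centralizer_le_normalizer_self _
  have hMSt : M ≤ St := fun y hy => ⟨hMN hy,
    mem_centralizer_singleton_iff.2 (mem_centralizer_iff.1 hy t ht).symm⟩
  set B := (St ⊓ W) ⊔ M with hB
  have hBSt : B ≤ St := sup_le inf_le_left hMSt
  obtain ⟨M', hM'N, hM', h21⟩ := C.exists_ker_index
  have hMM : M' = M := Subgroup.ext fun g => hM' g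
  rw [hMM] at h21
  have e1 := relIndex_mul_relIndex M St N hMSt inf_le_left
  rw [C.relIndex_stab ht ht1] at e1
  have h3 : M.relIndex St ∣ 3 := Nat.dvd_of_mul_dvd_mul_right (show 0 < 7 by norm_num)
    (show M.relIndex St * 7 ∣ 3 * 7 by rw [e1]; exact h21)
  have e2 := relIndex_mul_relIndex M B St le_sup_right hBSt
  have hB1 : M.relIndex B ≠ 1 := fun h => by
    obtain ⟨n, hn', hni, hnc⟩ := C.exists_inner_moving ht ht1
    exact hnc (relIndex_eq_one.1 h (mem_sup_left ⟨⟨hn', C.inner_le _ hni⟩, hni⟩))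
  have hBe : B = St := by
    refine le_antisymm hBSt (relIndex_eq_one.1 ?_)
    rw [← e2] at h3
    rcases (Nat.dvd_prime Nat.prime_three).1 ((dvd_mul_right _ _).trans h3) with h | h
    · exact absurd h hB1
    · rw [h] at h3
      exact Nat.dvd_one.1 (Nat.dvd_of_mul_dvd_mul_left (show 0 < 3 by norm_num) (by rwa [mul_one]))
  have hMn : M ≤ normalizer ((St ⊓ W : Subgroup G) : Set G) := by
    have key : ∀ m ∈ M, ∀ y ∈ St ⊓ W, m * y * m⁻¹ ∈ St ⊓ W := fun m hm y hy =>
      ⟨conj_mem_self St (hMSt hm) hy.1, C.inner_conj ht2 (hMSt hm).2 hy.2⟩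
    intro m hm
    refine mem_normalizer_iff.2 fun y => ⟨key m hm y, fun h => ?_⟩
    have h' := key m⁻¹ (inv_mem hm) _ h
    rwa [show m⁻¹ * (m * y * m⁻¹) * m⁻¹⁻¹ = y by group] at h'
  obtain ⟨w, hw, m, hm, hwm⟩ := Coprime.mem_sup_exists hMn (hBe ▸ hnSt : (c : G) * x ∈ B)
  obtain ⟨s, hs, k, hk, rfl⟩ := EqConj.cent_prod C.S C.hS hm
  refine ⟨(c : G)⁻¹ * w * s, W.mul_mem (W.mul_mem (W.inv_mem c.2) hw.2) (hSW hs), k, hk, ?_⟩
  calc x = (c : G)⁻¹ * ((c : G) * x) := by group
    _ = _ := by rw [← hwm]; group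

end Ctx

end CfsgLib.EqualOrder2
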